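import Cfsg.Agent.Lib.RelMcKay.Pair

/-!
# The central case of the relative McKay statement
-/

set_option autoImplicit false
set_option linter.unusedSectionVars false
set_option linter.style.haveILetI false

open scoped commutatorElement ComplexConjugate
open Cfsg

namespace CfsgLib.RelMcKay

open CfsgLib CfsgLib.CharsMore CfsgLib.Glauberman

universe u

variable {p : ℕ} [Fact p.Prime] {Q : Type u} [Group Q] [Finite Q]

theorem scalar_eq_of_inner {Y : Type u} [Group Y] [Fintype Y] {φ ψ : Y → ℂ} (z : Y) {c d : ℂ}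
    (hc : ∀ x, φ (z * x) = c * φ x) (hd : ∀ x, ψ (z * x) = d * ψ x) (hdd : d * conj d = 1)
    (h : classInner φ ψ ≠ 0) : c = d := by
  rw [Chars.inner_def] at h
  have hs : (∑ x : Y, φ x * conj (ψ x)) = (c * conj d) * ∑ x : Y, φ x * conj (ψ x) := by
    rw [Finset.mul_sum]
    refine (Fintype.sum_equiv (Equiv.mulLeft z) _ _ fun x => ?_).symm
    show c * conj d * (φ x * conj (ψ x)) = φ (z * x) * conj (ψ (z * x))
    rw [hd, hc, map_mul]
    ring
  have h0 : (1 - c * conj d) * ∑ x : Y, φ x * conj (ψ x) = 0 := by linear_combination hs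
  have h1 : c * conj d = 1 := (sub_eq_zero.mp
    ((mul_eq_zero.mp h0).resolve_right fun h' => h (by rw [h', mul_zero]))).symm
  calc c = c * (d * conj d) := by rw [hdd, mul_one]
    _ = d * (c * conj d) := by ring
    _ = d := by rw [h1, mul_one]

/-- A central element multiplies an irreducible character by a root of unity. -/
theorem exists_central_value {Y : Type u} [Group Y] [Finite Y] (θ : IrrCharacter Y) {z : Y}
    (hz : z ∈ Subgroup.center Y) :
    ∃ c : ℂ, c * conj c = 1 ∧ ∀ x, (θ : Y → ℂ) (z * x) = c * (θ : Y → ℂ) x := by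
  obtain ⟨m, A, hA, hAθ⟩ := θ.2
  haveI := hA
  haveI := nontrivial_of_isIrreducible A
  obtain ⟨c, hc⟩ := Chars.exists_scalar_of_mem_center A z hz
  have hc' : A z = c • 1 := hc
  have hcp : c ^ orderOf z = 1 := by
    have h2 := congrArg A (pow_orderOf_eq_one z)
    rw [map_pow, hc', smul_pow, one_pow, map_one] at h2
    exact smul_left_injective ℂ one_ne_zero (h2.trans (one_smul ℂ _).symm)
  refine ⟨c, ?_, fun x => ?_⟩
  · rw [Complex.mul_conj, Complex.normSq_eq_norm_sq,
      Complex.norm_eq_one_of_pow_eq_one hcp (orderOf_pos _).ne']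
    simp
  · rw [← hAθ]
    exact character_smul_mul A hc' x

namespace Side

variable (E : Side p Q)

theorem invBy_of_le_inertia [Fintype Q] [E.K.Normal] {θ : E.K → ℂ}
    (h : (E.S : Subgroup Q) ≤ inertia E.K θ) : InvBy (E.S : Subgroup Q) E.K θ := by
  intro s hs g g' e
  rw [show g' = conjBy E.K s g from Subtype.ext e]
  exact (mem_inertia _).mp (h hs) g

theorem le_inertia_of_invBy [Fintype Q] [E.K.Normal] {θ : E.K → ℂ}
    (h : InvBy (E.S : Subgroup Q) E.K θ) : (E.S : Subgroup Q) ≤ inertia E.K θ := fun s hs =>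
  (mem_inertia _).mpr fun g => h s hs g _ rfl

/-- Corresponding characters are compatible with `ω` together. -/
theorem compat_iff (θ : IrrCharacter E.K) (β : IrrCharacter E.Fix)
    (h : Corr p E.fix_le (θ : E.K → ℂ) (β : E.Fix → ℂ)) :
    E.Compat (θ : E.K → ℂ) ↔ E.normSide.Compat
      (fun x => (β : E.Fix → ℂ) (Subgroup.subgroupOfEquivOfLe E.fix_le_nm x)) := by
  haveI := Fintype.ofFinite E.Fix
  have hne : classInner (fun c : E.Fix => (θ : E.K → ℂ) ⟨c, E.fix_le c.2⟩) (β : E.Fix → ℂ) ≠ 0 :=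
    fun h0 => (corr_iff E.fix_le _ _).mp h 0 (by rw [h0, Nat.cast_zero]) (dvd_zero p)
  have key : ∀ (z : Q) (hzK : z ∈ E.K) (hzF : z ∈ E.Fix), z ∈ Subgroup.center Q → ∃ c : ℂ,
      (θ : E.K → ℂ) ⟨z, hzK⟩ = c * (θ : E.K → ℂ) 1 ∧
      (β : E.Fix → ℂ) ⟨z, hzF⟩ = c * (β : E.Fix → ℂ) 1 := by
    intro z hzK hzF hzc
    obtain ⟨c, -, hc⟩ := exists_central_value θ (z := (⟨z, hzK⟩ : E.K))
      (Subgroup.mem_center_iff.mpr fun w => Subtype.ext (Subgroup.mem_center_iff.mp hzc w))
    obtain ⟨d, hdd, hd⟩ := exists_central_value β (z := (⟨z, hzF⟩ : E.Fix))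
      (Subgroup.mem_center_iff.mpr fun w => Subtype.ext (Subgroup.mem_center_iff.mp hzc w))
    obtain rfl : c = d := scalar_eq_of_inner
      (φ := fun c : E.Fix => (θ : E.K → ℂ) ⟨c, E.fix_le c.2⟩) (⟨z, hzF⟩ : E.Fix)
      (fun x => hc ⟨x, E.fix_le x.2⟩) hd hdd hne
    exact ⟨c, by simpa using hc 1, by simpa using hd 1⟩
  constructor
  · intro hθ z hz
    have hzF : ((z : ↥E.Nm) : Q) ∈ E.Fix := hz
    have hzZ : ((z : ↥E.Nm) : Q) ∈ E.Z := z.2
    obtain ⟨c, hc, hd⟩ := key _ (E.fix_le hzF) hzF (E.central hzZ)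
    have hω : c = (E.ω ⟨_, hzZ⟩ : ℂ) :=
      mul_right_cancel₀ (Chars.irr_degree_ne_zero θ.2) (hc.symm.trans (hθ ⟨_, hzZ⟩ _))
    refine hd.trans ?_
    rw [hω]
    rfl
  · intro hβ z hz
    have hzF : (z : Q) ∈ E.Fix := ⟨hz, Subgroup.mem_centralizer_iff.mpr fun v _ =>
      Subgroup.mem_center_iff.mp (E.central z.2) v⟩
    obtain ⟨c, hc, hd⟩ := key _ hz hzF (E.central z.2)
    have h1 := hβ ⟨⟨(z : Q), E.z_le_nm z.2⟩, z.2⟩ hzF
    have hω : c = (E.ω z : ℂ) := by
      refine mul_right_cancel₀ (Chars.irr_degree_ne_zero β.2) (hd.symm.trans ?_)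
      exact h1
    rw [hc, hω]

open scoped Classical in
/-- The central case for one `Side`. -/
theorem card_chi_eq : Nat.card E.Chi = Nat.card E.normSide.Chi := by
  haveI := E.normalK
  haveI := E.normSide.normalK
  haveI := Fintype.ofFinite Q
  haveI := Fintype.ofFinite ↥E.Nm
  set Θ := {θ : IrrCharacter E.K //
    (E.S : Subgroup Q) ≤ inertia E.K (θ : E.K → ℂ) ∧ E.Compat (θ : E.K → ℂ)}
  letI st : Setoid Θ :=
    { r := fun a b => ∃ n ∈ E.Nm, conjFn E.K n (a.1 : E.K → ℂ) = b.1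
      iseqv :=
        { refl := fun a => ⟨1, one_mem _, conjFn_one _ _⟩
          symm := fun {a b} ⟨n, hn, h⟩ => ⟨n⁻¹, inv_mem hn, by
            rw [← h, ← conjFn_mul, mul_inv_cancel, conjFn_one]⟩
          trans := fun {a b c} ⟨n, hn, h⟩ ⟨m, hm, h'⟩ => ⟨n * m, mul_mem hn hm, by
            rw [conjFn_mul, h, h']⟩ } }
  haveI : Finite (Quotient st) := by
    haveI : Finite Θ := by
      haveI := Chars.irrFintype ↥E.K
      infer_instance
    exact Finite.of_surjective _ Quotient.mk_surjective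
  haveI : Fintype (Quotient st) := Fintype.ofFinite _
  have hinv : ∀ a : Θ, InvBy (E.S : Subgroup Q) E.K (a.1 : E.K → ℂ) := fun a =>
    E.invBy_of_le_inertia a.2.1
  have hp := corr_props E.le_normalizerK E.not_dvd E.S.2 (rfl : E.Fix = _) E.fix_le
  choose β hβ using fun a : Θ => hp.1 a.1 (hinv a)
  set e := Subgroup.subgroupOfEquivOfLe E.fix_le_nm
  let η : IrrCharacter E.Fix → IrrCharacter ↥E.normSide.K := fun b =>
    ⟨fun x => (b : E.Fix → ℂ) (e x),
      Chars.isIrrCharacter_comp e.toMonoidHom e.surjective b.2⟩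
  have hconj : ∀ (n : ↥E.Nm) (b b' : IrrCharacter E.Fix),
      conjFn E.normSide.K n (η b : ↥E.normSide.K → ℂ) = η b' ↔
        ConjRel (n : Q) E.Fix (b' : E.Fix → ℂ) b := by
    intro n b b'
    constructor
    · intro h g g' eg
      have h1 := congrFun h (e.symm g)
      have eh : e (conjBy E.normSide.K n (e.symm g)) = g' := Subtype.ext eg.symm
      change (b : E.Fix → ℂ) (e (conjBy E.normSide.K n (e.symm g))) =
        (b' : E.Fix → ℂ) (e (e.symm g)) at h1
      rwa [eh, MulEquiv.apply_symm_apply] at h1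
    · intro h
      funext x
      exact h (e x) (e (conjBy E.normSide.K n x)) rfl
  have hconjQ : ∀ (n : Q) (a b : IrrCharacter E.K),
      conjFn E.K n (a : E.K → ℂ) = b ↔ ConjRel n E.K (b : E.K → ℂ) a := fun n a b =>
    ⟨fun h g g' eg => by rw [← congrFun h g, show g' = conjBy E.K n g from Subtype.ext eg]; rfl,
      fun h => funext fun g => h g _ rfl⟩
  rw [E.card_eq_sum_reps (fun i : Quotient st => (Quotient.out i).1)
      (fun i => (Quotient.out i).2.1)
      (fun θ hθ hc => ⟨Quotient.mk st ⟨θ, hθ, hc⟩, Quotient.mk_out (s := st) ⟨θ, hθ, hc⟩⟩)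
      (fun i j n hn h => Quotient.out_equiv_out.mp ⟨n, hn, h⟩),
    E.normSide.card_eq_sum_reps (fun i : Quotient st => η (β (Quotient.out i))) ?_ ?_ ?_]
  · refine Finset.sum_congr rfl fun i _ => ?_
    set a := Quotient.out i
    obtain ⟨k, ρ, hρ, hρa⟩ := a.1.2
    obtain ⟨l, σ, hσ, hσa⟩ := (β a).2
    haveI := hρ
    haveI := hσ
    have hS : ∀ s ∈ (E.S : Subgroup Q), Fixes ρ s := fun s hs =>
      fixes_of_character (mem_normalizer_of_normal s) fun g g' eg => by
        rw [hρa]; exact hinv a s hs g g' eg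
    have hcorr : Corr p E.fix_le ρ.character σ.character := by rw [hρa, hσa]; exact hβ a
    have h := E.card_pair_eq ρ σ hS (by rw [hρa]; exact a.2.2)
      (by rw [hσa]; exact (E.compat_iff a.1 (β a) (hβ a)).mp a.2.2) hcorr
    rw [hρa, hσa] at h
    exact h
  · intro i s hs
    refine (mem_inertia _).mpr fun x => ?_
    show (β (Quotient.out i) : E.Fix → ℂ) (e (conjBy E.normSide.K s x)) =
      (β (Quotient.out i) : E.Fix → ℂ) (e x)
    refine congrArg (β (Quotient.out i) : E.Fix → ℂ) (Subtype.ext ?_)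
    have hx : ((x : ↥E.Nm) : Q) ∈ E.Fix := x.2
    have h1 := Subgroup.mem_centralizer_iff.mp hx.2 (s : Q) (E.mem_normSide_S.mp hs)
    show (s : Q) * ((x : ↥E.Nm) : Q) * (s : Q)⁻¹ = ((x : ↥E.Nm) : Q)
    rw [h1, mul_inv_cancel_right]
  · intro ξ _ hξc
    let b : IrrCharacter E.Fix := ⟨fun y => (ξ : ↥E.normSide.K → ℂ) (e.symm y),
      Chars.isIrrCharacter_comp e.symm.toMonoidHom e.symm.surjective ξ.2⟩
    have hbξ : η b = ξ := Subtype.ext (funext fun x => congrArg (ξ : ↥E.normSide.K → ℂ)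
      (e.symm_apply_apply x))
    obtain ⟨θ, hθ, hθb⟩ := hp.2.2.2 b
    have hθc : E.Compat (θ : E.K → ℂ) := (E.compat_iff θ b hθb).mpr (by
      show E.normSide.Compat (η b : ↥E.normSide.K → ℂ)
      rw [hbξ]
      exact hξc)
    let a : Θ := ⟨θ, E.le_inertia_of_invBy hθ, hθc⟩
    obtain ⟨n, hn, hna⟩ : (Quotient.out (Quotient.mk st a)) ≈ a := Quotient.mk_out (s := st) a
    refine ⟨Quotient.mk st a, ⟨n, hn⟩, ?_, ?_⟩
    · haveI := Fintype.ofFinite ↥E.Nm
      refine Subgroup.mem_normalizer_fintype fun s hs => ?_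
      rw [SetLike.mem_coe, E.mem_normSide_S] at hs ⊢
      exact (Subgroup.mem_normalizer_iff.mp hn _).mp hs
    · rw [← hbξ, hconj ⟨n, hn⟩]
      exact (E.corr_equivariant hn (θ := θ) hθ (hinv _) hθb (hβ _)).mp
        ((hconjQ n _ θ).mp hna)
  · intro i j n _ h
    have h1 := (E.corr_equivariant n.2 (hinv (Quotient.out j)) (hinv (Quotient.out i))
      (hβ _) (hβ _)).mpr ((hconj n _ _).mp h)
    exact Quotient.out_equiv_out.mp ⟨n, n.2, (hconjQ n _ _).mpr h1⟩

end Side

/-- A central subgroup lies in a normal `p'`-subgroup times the Sylow subgroup. -/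
theorem centralCase : CentralCase.{u} p := by
  intro Q _ _ Z K S ω hZ hK hZK hrel hKS hZN
  classical
  have hp : p.Prime := Fact.out
  set N := Subgroup.normalizer ((S : Subgroup Q) : Set Q) with hN
  set eZ : Z.subgroupOf N ≃* Z := Subgroup.subgroupOfEquivOfLe hZN
  have hR : overCount p (Subgroup.inclusion hZN) (fun z => (ω z : ℂ)) =
      Nat.card {χ : IrrCharacter N // ¬ p ∣ charDegree (χ : N → ℂ) ∧
        Over (Z.subgroupOf N).subtype (fun z => ((ω.comp eZ.toMonoidHom) z : ℂ)) (χ : N → ℂ)} :=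
    overCount_congr (MulEquiv.refl _) eZ.symm (fun _ => rfl) fun z => by
      show (ω (eZ (eZ.symm z)) : ℂ) = _
      rw [MulEquiv.apply_symm_apply]
  rw [hR]
  change Nat.card {χ : IrrCharacter Q // ¬ p ∣ charDegree (χ : Q → ℂ) ∧
    Over Z.subtype (fun z => (ω z : ℂ)) (χ : Q → ℂ)} = _
  have hpow : ∀ x ∈ (S : Subgroup Q), ∃ i : ℕ, x ^ p ^ i = 1 := fun x hx => by
    obtain ⟨i, hi⟩ := S.2 ⟨x, hx⟩
    exact ⟨i, congrArg Subtype.val hi⟩
  by_cases hgood : ∀ z : Z, (z : Q) ∈ (S : Subgroup Q) →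
      (z : Q) ∈ ⁅(S : Subgroup Q), (S : Subgroup Q)⁆ → ω z = 1
  · -- the `p`-complement of `K`
    obtain ⟨i, hi⟩ := S.2.exists_card_eq
    have hSK : (S : Subgroup Q) ⊓ Z ≤ K := inf_le_right.trans hZK
    have hSZn : K ≤ Subgroup.normalizer (((S : Subgroup Q) ⊓ Z : Subgroup Q) : Set Q) := fun k _ =>
      Subgroup.centralizer_le_normalizer _ (Subgroup.mem_centralizer_iff.mpr fun v hv =>
        (Subgroup.mem_center_iff.mp (hZ hv.2) k).symm)
    have hSzZ : ¬ p ∣ ((S : Subgroup Q) ⊓ Z).relIndex Z := by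
      intro hd
      have hZS : Z ≤ Subgroup.normalizer ((S : Subgroup Q) : Set Q) := hZN
      have h1 := Coprime.card_sup_mul_card_inf (H := Z) (N := (S : Subgroup Q)) hZS
      have h2 : Nat.card ((S : Subgroup Q) ⊓ Z : Subgroup Q) *
          ((S : Subgroup Q) ⊓ Z).relIndex Z = Nat.card Z := by
        rw [Subgroup.relIndex, ← Nat.card_congr (Subgroup.subgroupOfEquivOfLe
          (inf_le_right : (S : Subgroup Q) ⊓ Z ≤ Z)).toEquiv, Subgroup.card_mul_index]
      have h3 : Nat.card (Z ⊔ (S : Subgroup Q) : Subgroup Q) =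
          Nat.card S * ((S : Subgroup Q) ⊓ Z).relIndex Z := by
        rw [inf_comm Z, ← h2] at h1
        apply Nat.eq_of_mul_eq_mul_right
          (Nat.card_pos (α := ((S : Subgroup Q) ⊓ Z : Subgroup Q)))
        rw [h1]; ring
      have h4 : p ^ (i + 1) ∣ Nat.card Q := by
        refine dvd_trans ?_ ((h3 ▸ (Z ⊔ (S : Subgroup Q)).card_subgroup_dvd_card :
          Nat.card S * _ ∣ Nat.card Q))
        rw [hi, pow_succ]
        exact Nat.mul_dvd_mul_left _ hd
      rw [← (S : Subgroup Q).card_mul_index, hi, pow_succ] at h4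
      exact S.not_dvd_index (Nat.dvd_of_mul_dvd_mul_left (pow_pos hp.pos i) h4)
    have hrelK : ¬ p ∣ ((S : Subgroup Q) ⊓ Z).relIndex K := by
      rw [← Subgroup.relIndex_mul_relIndex _ Z K inf_le_right hZK, hp.dvd_mul]
      exact not_or.mpr ⟨hSzZ, hrel⟩
    have hcop : (Nat.card ((S : Subgroup Q) ⊓ Z : Subgroup Q)).Coprime
        (((S : Subgroup Q) ⊓ Z).relIndex K) := by
      obtain ⟨j, hj⟩ := (S.2.to_le (inf_le_left :
        (S : Subgroup Q) ⊓ Z ≤ (S : Subgroup Q))).exists_card_eq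
      rw [hj]
      exact (hp.coprime_iff_not_dvd.mpr hrelK).pow_left j
    obtain ⟨K0, hK0K, hK0card, hK0⟩ := Coprime.exists_complement_in hSK hSZn hcop
    have hK0p : ¬ p ∣ Nat.card K0 := hK0card ▸ hrelK
    have hK0n : K0.Normal := by
      refine ⟨fun b hb g => ?_⟩
      have hmem : g * b * g⁻¹ ∈ ((S : Subgroup Q) ⊓ Z) ⊔ K0 := hK0.ge (hK.conj_mem b (hK0K hb) g)
      obtain ⟨a, ha, c, hc, e⟩ := (Coprime.mem_sup_iff_of_le_normalizer
        (H := (S : Subgroup Q) ⊓ Z) (N := K0) (fun a ha => Subgroup.centralizer_le_normalizer _ (Subgroup.mem_centralizer_iff.mpr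
          fun v _ => Subgroup.mem_center_iff.mp (hZ ha.2) v))).mp hmem
      have hac : Commute a c := (Subgroup.mem_center_iff.mp (hZ ha.2) c).symm
      have hbn : b ^ Nat.card K0 = 1 :=
        congrArg Subtype.val (pow_card_eq_one' (x := (⟨b, hb⟩ : K0)))
      have hcn : c ^ Nat.card K0 = 1 :=
        congrArg Subtype.val (pow_card_eq_one' (x := (⟨c, hc⟩ : K0)))
      have han : a ^ Nat.card K0 = 1 := by
        have h := congrArg (· ^ Nat.card K0) e
        simp only [hac.mul_pow, hcn, mul_one, conj_pow, hbn, mul_inv_cancel] at h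
        exact h
      obtain ⟨j, hj⟩ := hpow a ha.1
      have hg : (Nat.card K0).gcd (p ^ j) = 1 :=
        ((hp.coprime_iff_not_dvd.mpr hK0p).symm).pow_right j
      have ha1 := pow_gcd_eq_one.mpr ⟨han, hj⟩
      rw [hg, pow_one] at ha1
      rw [← e, ha1, one_mul]
      exact hc
    have hsup : K0 ⊔ (S : Subgroup Q) = K ⊔ (S : Subgroup Q) :=
      le_antisymm (sup_le_sup_right hK0K _) (sup_le (hK0.ge.trans
        (sup_le (inf_le_left.trans le_sup_right) le_sup_left)) le_sup_right)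
    let E : Side p Q :=
      { Z := Z, K := K0, S := S, ω := ω, central := hZ, normalK := hK0n
        normalKS := hsup.symm ▸ hKS
        not_dvd := hK0p
        le_sup := hZK.trans (hK0.ge.trans (sup_comm _ _).le)
        good := hgood }
    exact E.card_chi_eq
  · push Not at hgood
    obtain ⟨z, hzS, hzc, hω⟩ := hgood
    obtain ⟨j, hj⟩ := hpow z hzS
    have hz' : (⟨z, hZN z.2⟩ : N) ∈ commutator N := by
      have hle : ⁅(S : Subgroup Q), (S : Subgroup Q)⁆ ≤ (commutator N).map N.subtype := by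
        rw [commutator_def, Subgroup.map_commutator, ← MonoidHom.range_eq_map,
          Subgroup.range_subtype]
        exact Subgroup.commutator_mono Subgroup.le_normalizer Subgroup.le_normalizer
      obtain ⟨w, hw, hwz⟩ := hle hzc
      rwa [show (⟨z, hZN z.2⟩ : N) = w from Subtype.ext hwz.symm]
    rw [card_eq_zero_of_bad hZ ω (z := z) ⟨j, hj⟩
        (Subgroup.commutator_mono le_top le_top hzc) hω,
      card_eq_zero_of_bad (Z := Z.subgroupOf N) (fun a ha => Subgroup.mem_center_iff.mpr fun g =>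
        Subtype.ext (Subgroup.mem_center_iff.mp (hZ ha) g)) (ω.comp eZ.toMonoidHom)
        (z := (⟨⟨z, hZN z.2⟩, z.2⟩ : Z.subgroupOf N)) ⟨j, Subtype.ext (by simpa using hj)⟩ hz' hω]

end CfsgLib.RelMcKay
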