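import Cfsg.Agent.Lib.RelMcKay.Pairing
import Cfsg.Agent.Lib.Glauberman.PGroup
import Cfsg.Agent.Lib.CharsMore.Gallagher
import Cfsg.Agent.Lib.Chars.Quotient

/-!
# The Glauberman correspondence and the pairing

For a `p`-group `S` acting on a `p'`-group `H` with fixed points `C`, an element `u` of order prime
to `p` centralising `S` and an element `y` normalising `S` with `⁅y, u⁆ ∈ C`, corresponding
invariant characters of `H` and `C` have the same pairing at `(y, u)`.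
-/

set_option autoImplicit false
set_option linter.unusedSectionVars false
set_option linter.style.haveILetI false

open scoped commutatorElement ComplexConjugate
open Cfsg

namespace CfsgLib.RelMcKay

open CfsgLib CfsgLib.Glauberman

universe u

variable {Γ : Type u} [Group Γ] [Finite Γ] {p : ℕ} [Fact p.Prime]

/-- The characters `χ` of `H` and `β` of `C` have multiplicity prime to `p`. -/
def Corr (p : ℕ) {H C : Subgroup Γ} (hCH : C ≤ H) (χ : H → ℂ) (β : C → ℂ) : Prop :=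
  letI := Fintype.ofFinite C
  ∀ m : ℕ, classInner (fun c : C => χ ⟨c, hCH c.2⟩) β = m → ¬ p ∣ m

theorem corr_iff {H C : Subgroup Γ} [Fintype C] (hCH : C ≤ H) (χ : H → ℂ) (β : C → ℂ) :
    Corr p hCH χ β ↔ ∀ m : ℕ, classInner (fun c : C => χ ⟨c, hCH c.2⟩) β = m → ¬ p ∣ m := by
  unfold Corr
  rw [Chars.inner_congr_inst (φ := fun c : C => χ ⟨c, hCH c.2⟩) (ψ := β) (Fintype.ofFinite C) ‹_›]

theorem isCharacter_res {H C : Subgroup Γ} (hCH : C ≤ H) {χ : H → ℂ} (hχ : IsCharacter H χ) :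
    IsCharacter C (fun c : C => χ ⟨c, hCH c.2⟩) :=
  Chars.isCharacter_comp (Subgroup.inclusion hCH) hχ

section Props

variable {H S C : Subgroup Γ} (hSH : S ≤ Subgroup.normalizer (H : Set Γ)) (hH : ¬ p ∣ Nat.card H)
  (hS : IsPGroup p S) (hC : C = H ⊓ Subgroup.centralizer (S : Set Γ)) (hCH : C ≤ H)

include hSH hH hS hC

theorem corr_props :
    (∀ χ : IrrCharacter H, InvBy S H (χ : H → ℂ) →
      ∃ β : IrrCharacter C, Corr p hCH (χ : H → ℂ) (β : C → ℂ)) ∧
    (∀ (χ : IrrCharacter H) (β γ : IrrCharacter C), InvBy S H (χ : H → ℂ) →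
      Corr p hCH (χ : H → ℂ) (β : C → ℂ) → Corr p hCH (χ : H → ℂ) (γ : C → ℂ) → β = γ) ∧
    (∀ (χ χ' : IrrCharacter H) (β : IrrCharacter C), InvBy S H (χ : H → ℂ) →
      InvBy S H (χ' : H → ℂ) → Corr p hCH (χ : H → ℂ) (β : C → ℂ) →
      Corr p hCH (χ' : H → ℂ) (β : C → ℂ) → χ = χ') ∧
    ∀ β : IrrCharacter C, ∃ χ : IrrCharacter H, InvBy S H (χ : H → ℂ) ∧
      Corr p hCH (χ : H → ℂ) (β : C → ℂ) := by
  haveI := Fintype.ofFinite C
  obtain ⟨a, ha⟩ := hS.exists_card_eq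
  have hcop : (Nat.card H).Coprime (Nat.card S) := by
    rw [ha]
    exact (((Fact.out : p.Prime).coprime_iff_not_dvd.mpr hH).symm).pow_right a
  obtain ⟨R, hleft, htot, hsurj, hmult⟩ := exists_pgroup_rel hSH hcop hS hC hCH
  have h1 : ∀ (χ : IrrCharacter H) (β : IrrCharacter C), InvBy S H (χ : H → ℂ) → R χ β →
      Corr p hCH (χ : H → ℂ) (β : C → ℂ) := fun χ β hi hr => (corr_iff hCH _ _).mpr fun m hm => by
    obtain ⟨ε, hε, h⟩ := hmult χ β hi hr
    exact not_dvd_of_modEq_sign hε ((h β m hm).1 rfl)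
  have h2 : ∀ (χ : IrrCharacter H) (β : IrrCharacter C), InvBy S H (χ : H → ℂ) →
      Corr p hCH (χ : H → ℂ) (β : C → ℂ) → R χ β := fun χ β hi hc => by
    obtain ⟨β', hr⟩ := htot χ hi
    obtain ⟨ε, -, h⟩ := hmult χ β' hi hr
    obtain ⟨m, hm⟩ := Chars.inner_irr_right_nat (isCharacter_res hCH (Chars.isCharacter_of_irr χ.2)) β
    rcases eq_or_ne β β' with rfl | hne
    · exact hr
    · exact absurd ((h β m hm).2 hne) ((corr_iff hCH _ _).mp hc m hm)
  refine ⟨fun χ hi => ⟨_, h1 χ _ hi (htot χ hi).choose_spec⟩, fun χ β γ hi hb hg => ?_,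
    fun χ χ' β hi hi' hb hb' => hleft χ χ' β hi hi' (h2 χ β hi hb) (h2 χ' β hi' hb'), fun β => ?_⟩
  · obtain ⟨ε, -, h⟩ := hmult χ β hi (h2 χ β hi hb)
    obtain ⟨m, hm⟩ := Chars.inner_irr_right_nat (isCharacter_res hCH (Chars.isCharacter_of_irr χ.2)) γ
    by_contra hne
    exact (corr_iff hCH _ _).mp hg m hm ((h γ m hm).2 (Ne.symm hne))
  · obtain ⟨χ, hi, hr⟩ := hsurj β
    exact ⟨χ, hi, h1 χ β hi hr⟩

theorem corr_unique {χ : IrrCharacter H} {β γ : IrrCharacter C} (hi : InvBy S H (χ : H → ℂ))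
    (hb : Corr p hCH (χ : H → ℂ) (β : C → ℂ)) (hg : Corr p hCH (χ : H → ℂ) (γ : C → ℂ)) : β = γ :=
  (corr_props hSH hH hS hC hCH).2.1 χ β γ hi hb hg

theorem exists_corr_irr {χ : IrrCharacter H} (hi : InvBy S H (χ : H → ℂ)) :
    ∃ β : IrrCharacter C, Corr p hCH (χ : H → ℂ) (β : C → ℂ) :=
  (corr_props hSH hH hS hC hCH).1 χ hi

end Props

/-- Conjugation carries corresponding characters to corresponding characters. -/
theorem corr_conj {H C : Subgroup Γ} (hCH : C ≤ H) {x : Γ}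
    (hxC : x ∈ Subgroup.normalizer (C : Set Γ))
    {χ χ' : H → ℂ} {β β' : C → ℂ} (hχ : ConjRel x H χ χ') (hβ : ConjRel x C β β')
    (h : Corr p hCH χ β) : Corr p hCH χ' β' := by
  haveI := Fintype.ofFinite C
  rw [corr_iff] at h ⊢
  intro m hm
  refine h m ?_
  rw [← hm, ← CharsMore.inner_comp_equiv (Subgroup.normalizerMonoidHom C ⟨x, hxC⟩)
    (fun c : C => χ' ⟨c, hCH c.2⟩) β']
  congr 1
  · funext c
    exact (hχ ⟨c, hCH c.2⟩ ⟨_, hCH (Subgroup.normalizerMonoidHom C ⟨x, hxC⟩ c).2⟩ rfl).symm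
  · funext c
    exact (hβ c _ rfl).symm

section Ext

variable {V : Type*} [AddCommGroup V] [Module ℂ V] [FiniteDimensional ℂ V]
variable {H : Subgroup Γ} {ρ : Representation ℂ H V} [ρ.IsIrreducible]

theorem mem_sup_zpowers {u z : Γ} (hu : u ∈ Subgroup.normalizer (H : Set Γ))
    (hz : z ∈ H ⊔ Subgroup.zpowers u) : ∃ h ∈ H, ∃ i : ℕ, z = h * u ^ i := by
  have hz' : z ∈ Subgroup.zpowers u ⊔ H := by rwa [sup_comm]
  obtain ⟨a, ha, h, hh, e⟩ :=
    (Coprime.mem_sup_iff_of_le_normalizer (Subgroup.zpowers_le.mpr hu)).mp hz'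
  obtain ⟨i, hi⟩ : ∃ i : ℕ, u ^ i = a := by
    rwa [← mem_powers_iff_mem_zpowers, Submonoid.mem_powers_iff] at ha
  subst e hi
  exact ⟨u ^ i * h * (u ^ i)⁻¹, (Subgroup.mem_normalizer_iff.mp (pow_mem hu i) h).mp hh, i, by group⟩

/-- An invariant representation extends over a cyclic quotient. -/
theorem exists_cyclic_ext {u : Γ} (hu : Fixes ρ u) :
    ∃ R : Representation ℂ ↥(H ⊔ Subgroup.zpowers u) V,
      R.IsIrreducible ∧ ∀ h : H, R (Subgroup.inclusion le_sup_left h) = ρ h := by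
  set L := H ⊔ Subgroup.zpowers u
  set N := H.subgroupOf L
  have hle : L ≤ Subgroup.normalizer (H : Set Γ) :=
    sup_le Subgroup.le_normalizer (Subgroup.zpowers_le.mpr hu.1)
  haveI : N.Normal := Subgroup.normal_subgroupOf_of_le_normalizer hle
  set e := Subgroup.subgroupOfEquivOfLe (le_sup_left : H ≤ L)
  set ρ' : Representation ℂ N V := ρ.comp e.toMonoidHom
  haveI : ρ'.IsIrreducible := Chars.isIrreducible_comp e.toMonoidHom e.surjective ρ
  have hfix : ∀ z : L, Fixes ρ (z : Γ) := by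
    intro z
    obtain ⟨h, hh, i, hi⟩ := mem_sup_zpowers hu.1 z.2
    rw [hi]
    exact (fixes_of_mem hh).mul (hu.pow i)
  have hinv : CharsMore.IsInvariant N ρ' := fun z => by
    obtain ⟨T, hT⟩ := (hfix z).2
    exact ⟨T, fun n => hT (e n) (e (CharsMore.conjBy N z n)) rfl⟩
  haveI : IsCyclic (L ⧸ N) := by
    have huL : u ∈ L := Subgroup.mem_sup_right (Subgroup.mem_zpowers u)
    refine ⟨⟨QuotientGroup.mk ⟨u, huL⟩, fun q => ?_⟩⟩
    obtain ⟨z, rfl⟩ := QuotientGroup.mk_surjective q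
    obtain ⟨h, hh, i, hi⟩ := mem_sup_zpowers hu.1 z.2
    refine ⟨(i : ℤ), ?_⟩
    show (QuotientGroup.mk ⟨u, huL⟩ : L ⧸ N) ^ (i : ℤ) = QuotientGroup.mk z
    rw [zpow_natCast, ← QuotientGroup.mk_pow, QuotientGroup.eq, Subgroup.mem_subgroupOf]
    simp only [Subgroup.coe_mul, Subgroup.coe_inv, SubmonoidClass.coe_pow, hi]
    rw [← mul_assoc]
    exact (Subgroup.mem_normalizer_iff''.mp (pow_mem hu.1 i) h).mp hh
  obtain ⟨R, hR⟩ := CharsMore.repExtends_of_cyclic N ρ' hinv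
  refine ⟨R, (CharsMore.isIrrExt_of_rep N R hR).1, fun h => ?_⟩
  have := hR (e.symm h)
  rw [show ρ' (e.symm h) = ρ h from congrArg ρ (e.apply_symm_apply h)] at this
  exact this

/-- How an extension over a cyclic quotient moves under a commuting element. -/
theorem ext_conj {u y : Γ} (hu : Fixes ρ u) (hy : Fixes ρ y) (hc : ⁅y, u⁆ ∈ H)
    {R : Representation ℂ ↥(H ⊔ Subgroup.zpowers u) V}
    (hR : ∀ h : H, R (Subgroup.inclusion le_sup_left h) = ρ h) :
    ∃ ν : ↥(H ⊔ Subgroup.zpowers u) →* ℂˣ,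
      (∀ h : H, ν (Subgroup.inclusion le_sup_left h) = 1) ∧
      (ν ⟨u, Subgroup.mem_sup_right (Subgroup.mem_zpowers u)⟩ : ℂ) = (kap ρ y u)⁻¹ ∧
      ∀ z z' : ↥(H ⊔ Subgroup.zpowers u), (z' : Γ) = y * z * y⁻¹ →
        R.character z' = (ν z : ℂ) * R.character z := by
  haveI := CharsMore.nontrivial_of_isIrreducible ρ
  obtain ⟨T, hT⟩ := hy.2
  let uL : ↥(H ⊔ Subgroup.zpowers u) := ⟨u, Subgroup.mem_sup_right (Subgroup.mem_zpowers u)⟩
  have hu' : y * u * y⁻¹ = ⁅y, u⁆ * u := by simp [commutatorElement_def]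
  have hyL : ∀ z ∈ H ⊔ Subgroup.zpowers u, y * z * y⁻¹ ∈ H ⊔ Subgroup.zpowers u := by
    intro z hz
    obtain ⟨h, hh, i, rfl⟩ := mem_sup_zpowers hu.1 hz
    rw [show y * (h * u ^ i) * y⁻¹ = y * h * y⁻¹ * (y * u * y⁻¹) ^ i by rw [conj_pow]; group, hu']
    exact mul_mem (Subgroup.mem_sup_left ((Subgroup.mem_normalizer_iff.mp hy.1 h).mp hh))
      (pow_mem (mul_mem (Subgroup.mem_sup_left hc) (Subgroup.mem_sup_right (Subgroup.mem_zpowers u))) i)
  let cy : ↥(H ⊔ Subgroup.zpowers u) →* ↥(H ⊔ Subgroup.zpowers u) :=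
    { toFun := fun z => ⟨y * z * y⁻¹, hyL z z.2⟩
      map_one' := Subtype.ext (by simp)
      map_mul' := fun a b => Subtype.ext (by simp [mul_assoc]) }
  set U : (Module.End ℂ V)ˣ := R.toHomUnits uL
  have hU : Intw ρ u U := fun h h' e => by
    rw [← hR, ← hR]
    show R uL * R _ = R _ * R uL
    rw [← map_mul, ← map_mul]
    congr 1
    apply Subtype.ext
    simp [uL, e]
  have hκ := kap_spec hy hu hc T U hT hU ⟨_, hc⟩ rfl
  have hκ0 := kap_ne_zero hy hu hc
  have base : ∀ z : ↥(H ⊔ Subgroup.zpowers u), ∃ a : ℂˣ,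
      R (cy z) = (a : ℂ) • ((T : Module.End ℂ V) * R z * ↑T⁻¹) := by
    have hH : ∀ h : H, R (cy (Subgroup.inclusion le_sup_left h)) =
        (1 : ℂ) • ((T : Module.End ℂ V) * R (Subgroup.inclusion le_sup_left h) * ↑T⁻¹) := fun h => by
      have hm : y * h * y⁻¹ ∈ H := (Subgroup.mem_normalizer_iff.mp hy.1 h).mp h.2
      rw [show cy (Subgroup.inclusion le_sup_left h) =
        Subgroup.inclusion le_sup_left (⟨_, hm⟩ : H) from rfl, hR, hR, one_smul, hT h ⟨_, hm⟩ rfl,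
        Units.mul_inv_cancel_right]
    have huu : R (cy uL) = (kap ρ y u)⁻¹ • ((T : Module.End ℂ V) * R uL * ↑T⁻¹) := by
      rw [show cy uL = Subgroup.inclusion le_sup_left (⟨_, hc⟩ : H) * uL from Subtype.ext hu',
        map_mul, hR]
      show ρ _ * (U : Module.End ℂ V) = _ • ((T : Module.End ℂ V) * U * ↑T⁻¹)
      rw [hκ, smul_mul_assoc, smul_smul, inv_mul_cancel₀ hκ0, one_smul, mul_assoc, mul_assoc,
        Units.mul_inv, mul_one]
    intro z
    obtain ⟨h, hh, i, hi⟩ := mem_sup_zpowers hu.1 z.2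
    refine ⟨(Units.mk0 _ (inv_ne_zero hκ0)) ^ i, ?_⟩
    have hz : z = Subgroup.inclusion le_sup_left (⟨h, hh⟩ : H) * uL ^ i := Subtype.ext hi
    rw [hz, map_mul, map_mul, map_mul, hH, map_pow, map_pow, map_pow, huu, smul_pow,
      Units.conj_pow, one_smul, Units.val_pow_eq_pow_val, Units.val_mk0, mul_smul_comm]
    congr 1
    simp only [mul_assoc, Units.inv_mul_cancel_left]
  choose ν hν using base
  have huniq : ∀ z (a : ℂ), R (cy z) = a • ((T : Module.End ℂ V) * R z * ↑T⁻¹) → (ν z : ℂ) = a :=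
    fun z a h => smul_left_injective ℂ ((T * R.toHomUnits z * T⁻¹).ne_zero) ((hν z).symm.trans h)
  have h1 : ν 1 = 1 := Units.ext (by
    rw [Units.val_one]
    exact huniq 1 1 (by simp))
  let νh : ↥(H ⊔ Subgroup.zpowers u) →* ℂˣ :=
    { toFun := ν
      map_one' := h1
      map_mul' := fun a b => Units.ext (huniq _ _ (by
        rw [map_mul, map_mul, hν a, hν b, map_mul, Units.val_mul, smul_mul_smul_comm]
        congr 1
        simp only [mul_assoc, Units.inv_mul_cancel_left])) }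
  refine ⟨νh, fun h => Units.ext ?_, ?_, fun z z' e => ?_⟩
  · rw [Units.val_one]
    refine huniq _ 1 ?_
    have hm : y * h * y⁻¹ ∈ H := (Subgroup.mem_normalizer_iff.mp hy.1 h).mp h.2
    rw [show cy (Subgroup.inclusion le_sup_left h) =
      Subgroup.inclusion le_sup_left (⟨_, hm⟩ : H) from rfl, hR, hR, one_smul, hT h ⟨_, hm⟩ rfl,
      Units.mul_inv_cancel_right]
  · refine huniq uL _ ?_
    rw [show cy uL = Subgroup.inclusion le_sup_left (⟨_, hc⟩ : H) * uL from Subtype.ext hu',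
      map_mul, hR]
    show ρ _ * (U : Module.End ℂ V) = _ • ((T : Module.End ℂ V) * U * ↑T⁻¹)
    rw [hκ, smul_mul_assoc, smul_smul, inv_mul_cancel₀ hκ0, one_smul, mul_assoc, mul_assoc,
      Units.mul_inv, mul_one]
  · rw [show z' = cy z from Subtype.ext e]
    show LinearMap.trace ℂ V (R (cy z)) = (ν z : ℂ) * LinearMap.trace ℂ V (R z)
    rw [hν z, map_smul, smul_eq_mul, LinearMap.trace_mul_cycle, Units.inv_mul, one_mul]

end Ext

theorem conj_hom_mul {L : Type*} [Group L] [Finite L] (ν : L →* ℂˣ) (z : L) :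
    (ν z : ℂ) * conj (ν z : ℂ) = 1 := by
  have h : (ν z : ℂ) ^ Nat.card L = 1 := by
    rw [← Units.val_pow_eq_pow_val, ← map_pow, pow_card_eq_one', map_one, Units.val_one]
  rw [Complex.mul_conj, Complex.normSq_eq_norm_sq,
    Complex.norm_eq_one_of_pow_eq_one h Nat.card_pos.ne']
  simp

/-- The pairings of corresponding characters agree at a centralising element. -/
theorem kap_eq_of_centralizes {H S C : Subgroup Γ} {V W : Type*} [AddCommGroup V] [Module ℂ V]
    [FiniteDimensional ℂ V] [AddCommGroup W] [Module ℂ W] [FiniteDimensional ℂ W]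
    (hSH : S ≤ Subgroup.normalizer (H : Set Γ)) (hH : ¬ p ∣ Nat.card H) (hS : IsPGroup p S)
    (hC : C = H ⊓ Subgroup.centralizer (S : Set Γ)) (hCH : C ≤ H)
    (ρ : Representation ℂ H V) [ρ.IsIrreducible] (σ : Representation ℂ C W) [σ.IsIrreducible]
    (hρσ : Corr p hCH ρ.character σ.character) (hSfix : ∀ s ∈ S, Fixes ρ s) {u y : Γ}
    (hu : Fixes ρ u) (hu' : Fixes σ u) (hy : Fixes ρ y) (hy' : Fixes σ y)
    (huS : u ∈ Subgroup.centralizer (S : Set Γ))
    (hup : ¬ p ∣ orderOf u) (hc : ⁅y, u⁆ ∈ C) : kap ρ y u = kap σ y u := by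
  classical
  set L := H ⊔ Subgroup.zpowers u with hL
  set LC := C ⊔ Subgroup.zpowers u with hLC
  have huL : u ∈ L := Subgroup.mem_sup_right (Subgroup.mem_zpowers u)
  have huLC : u ∈ LC := Subgroup.mem_sup_right (Subgroup.mem_zpowers u)
  have hsu : ∀ s ∈ S, s * u * s⁻¹ = u := fun s hs => by
    rw [Subgroup.mem_centralizer_iff.mp huS s hs, mul_inv_cancel_right]
  have hcompat : ∀ i : ℕ, ∀ s ∈ S, s * u ^ i * s⁻¹ = u ^ i := fun i s hs => by
    rw [← conj_pow, hsu s hs]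
  have hSL : S ≤ Subgroup.normalizer (L : Set Γ) :=
    Coprime.le_normalizer_sup_sup hSH fun s hs => Subgroup.centralizer_le_normalizer _
      (Subgroup.mem_centralizer_iff.mpr fun w hw => by
        obtain ⟨i, rfl⟩ : ∃ i : ℕ, u ^ i = w := by
          rwa [SetLike.mem_coe, ← mem_powers_iff_mem_zpowers, Submonoid.mem_powers_iff] at hw
        rw [← mul_inv_eq_iff_eq_mul.mp (hcompat i s hs)])
  have hLp : ¬ p ∣ Nat.card L := by
    intro hd
    have h1 := hd.trans ((sup_comm H (Subgroup.zpowers u)) ▸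
      Coprime.card_sup_dvd (Subgroup.zpowers_le.mpr hu.1))
    rw [Nat.card_zpowers] at h1
    rcases (Fact.out : p.Prime).dvd_mul.mp h1 with h | h
    exacts [hup h, hH h]
  have hLCL : LC ≤ L := sup_le (hCH.trans le_sup_left) le_sup_right
  have hLCeq : LC = L ⊓ Subgroup.centralizer (S : Set Γ) := by
    refine le_antisymm (le_inf hLCL (sup_le (hC.le.trans inf_le_right)
      (Subgroup.zpowers_le.mpr huS))) fun z hz => ?_
    obtain ⟨h, hh, i, rfl⟩ := mem_sup_zpowers hu.1 hz.1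
    refine mul_mem (Subgroup.mem_sup_left (hC ▸ ⟨hh, ?_⟩)) (pow_mem huLC i)
    have := mul_mem hz.2 ((Subgroup.centralizer (S : Set Γ)).inv_mem (pow_mem huS i))
    rwa [mul_inv_cancel_right] at this
  haveI := Fintype.ofFinite L
  haveI := Fintype.ofFinite LC
  haveI := Fintype.ofFinite C
  haveI := Chars.irrFintype LC
  obtain ⟨R, hRirr, hR⟩ := exists_cyclic_ext hu
  obtain ⟨R', hR'irr, hR'⟩ := exists_cyclic_ext hu'
  haveI := hRirr
  haveI := hR'irr
  set ψ : IrrCharacter L := ⟨R.character, Chars.isIrrCharacter_character R⟩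
  have hψinv : InvBy S L (ψ : L → ℂ) := by
    intro s hs z z' e
    have hsc : ⁅s, u⁆ = 1 := by
      rw [commutatorElement_def, hsu s hs, mul_inv_cancel]
    have hc' : ⁅s, u⁆ ∈ H := hsc ▸ H.one_mem
    obtain ⟨ν, hν1, hνu, hν⟩ := ext_conj hu (hSfix s hs) hc' hR
    obtain ⟨h, hh, i, hi⟩ := mem_sup_zpowers hu.1 z.2
    have hκ1 : kap ρ s u = 1 := by
      have e1 := kap_pow_orderOf_left (hSfix s hs) hu hc'
      have hc'' : ⁅u, s⁆ ∈ H := by rw [← commutatorElement_inv]; exact H.inv_mem hc'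
      have e2 := kap_pow_orderOf_left hu (hSfix s hs) hc''
      rw [kap_swap (hSfix s hs) hu hc', inv_pow, inv_eq_one] at e2
      obtain ⟨j, hj⟩ := hS.exists_card_eq
      have hgcd : (orderOf s).Coprime (orderOf u) :=
        Nat.Coprime.coprime_dvd_left (hj ▸ S.orderOf_dvd_natCard hs)
          (((Fact.out : p.Prime).coprime_iff_not_dvd.mpr hup).pow_left j)
      have := pow_gcd_eq_one.mpr ⟨e1, e2⟩
      rwa [hgcd.gcd_eq_one, pow_one] at this
    show R.character z' = R.character z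
    rw [hν z z' e]
    have hz : z = Subgroup.inclusion le_sup_left (⟨h, hh⟩ : H) * (⟨u, huL⟩ : L) ^ i :=
      Subtype.ext hi
    rw [hz, map_mul, map_pow, hν1, one_mul, Units.val_pow_eq_pow_val, hνu, hκ1, inv_one, one_pow,
      one_mul]
  obtain ⟨γ, hγ⟩ := exists_corr_irr hSL hLp hS hLCeq hLCL hψinv
  -- `γ` lies over the character of `σ`
  have hCLC : C ≤ LC := le_sup_left
  set η : IrrCharacter C := ⟨σ.character, Chars.isIrrCharacter_character σ⟩
  have hγη : classInner (fun c : C => (γ : LC → ℂ) ⟨c, hCLC c.2⟩) (η : C → ℂ) ≠ 0 := by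
    intro h0
    have hexp := Chars.classFun_eq_sum (G := LC) (ψ := fun z : LC => (ψ : L → ℂ) ⟨z, hLCL z.2⟩)
      (Chars.isClassFunction_of_isCharacter (isCharacter_res hLCL (Chars.isCharacter_of_irr ψ.2)))
    choose a ha using fun δ : IrrCharacter LC =>
      Chars.inner_irr_right_nat (isCharacter_res hLCL (Chars.isCharacter_of_irr ψ.2)) δ
    choose b hb using fun δ : IrrCharacter LC =>
      Chars.inner_irr_right_nat (isCharacter_res hCLC (Chars.isCharacter_of_irr δ.2)) η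
    have hm : classInner (fun c : C => ρ.character ⟨c, hCH c.2⟩) (η : C → ℂ) =
        ((∑ δ, a δ * b δ : ℕ) : ℂ) := by
      have e : (fun c : C => ρ.character ⟨c, hCH c.2⟩) =
          ∑ δ : IrrCharacter LC, classInner (fun z : LC => (ψ : L → ℂ) ⟨z, hLCL z.2⟩) δ •
            fun c : C => (δ : LC → ℂ) ⟨c, hCLC c.2⟩ := by
        funext c
        have := congrFun hexp ⟨c, hCLC c.2⟩
        simp only [Finset.sum_apply, Pi.smul_apply] at this ⊢
        rw [← this]
        show LinearMap.trace ℂ V (ρ _) = LinearMap.trace ℂ V (R _)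
        rw [← hR]
        rfl
      rw [e, Chars.inner_sum_left, Nat.cast_sum]
      refine Finset.sum_congr rfl fun δ _ => ?_
      rw [Chars.inner_smul_left, ha, hb, Nat.cast_mul]
    refine (corr_iff hCH _ _).mp hρσ _ hm (Finset.dvd_sum fun δ _ => ?_)
    by_cases hδ : Corr p hLCL (ψ : L → ℂ) (δ : LC → ℂ)
    · obtain rfl := corr_unique hSL hLp hS hLCeq hLCL hψinv hγ hδ
      rw [hb] at h0
      rw [Nat.cast_eq_zero.mp h0, mul_zero]
      exact dvd_zero p
    · rw [corr_iff] at hδ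
      push Not at hδ
      obtain ⟨m, hm', hd⟩ := hδ
      rw [ha, Nat.cast_inj] at hm'
      exact (hm' ▸ hd).mul_right _
  -- so it is an extension times a character of the cyclic quotient
  set N := C.subgroupOf LC
  haveI : N.Normal := Subgroup.normal_subgroupOf_of_le_normalizer
    (sup_le Subgroup.le_normalizer (Subgroup.zpowers_le.mpr hu'.1))
  haveI := Fintype.ofFinite N
  set e := Subgroup.subgroupOfEquivOfLe hCLC
  have hres : (fun n : N => R'.character n) = fun n : N => (η : C → ℂ) (e n) := funext fun n =>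
    congrArg (LinearMap.trace ℂ W) (hR' (e n))
  have hresirr : IsIrrCharacter N (fun n : N => R'.character n) := by
    rw [hres]
    exact Chars.isIrrCharacter_comp e.toMonoidHom e.surjective η.2
  obtain ⟨β, hβ, hγβ⟩ := CharsMore.gallagher_exists N (Chars.isIrrCharacter_character R') hresirr γ.2
    (by
      rw [hres, ← CharsMore.inner_comp_equiv e (fun c : C => (γ : LC → ℂ) ⟨c, hCLC c.2⟩)] at *
      exact hγη)
  have hβu : (β : LC → ℂ) ⟨u, huLC⟩ ≠ 0 := by
    obtain ⟨k, B, hB, hBβ⟩ := β.2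
    haveI := hB
    have hcomm : ∀ z w : LC, ∃ n ∈ N, z * w = n * (w * z) := by
      intro z w
      refine ⟨⁅z, w⁆, Subgroup.mem_subgroupOf.mpr ?_, by simp [commutatorElement_def, mul_assoc]⟩
      obtain ⟨h, hh, i, hi⟩ := mem_sup_zpowers hu'.1 z.2
      obtain ⟨h', hh', j, hj⟩ := mem_sup_zpowers hu'.1 w.2
      show ⁅(z : Γ), (w : Γ)⁆ ∈ C
      rw [hi, hj]
      have hn : ∀ (g : Γ) (c : Γ), g ∈ Subgroup.normalizer (C : Set Γ) → c ∈ C → g * c * g⁻¹ ∈ C :=
        fun g c hg hc => (Subgroup.mem_normalizer_iff.mp hg c).mp hc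
      rw [show ⁅h * u ^ i, h' * u ^ j⁆ =
          h * (u ^ i * h' * (u ^ i)⁻¹) * (u ^ j * h⁻¹ * (u ^ j)⁻¹) * h'⁻¹ by
        simp only [commutatorElement_def, mul_inv_rev, mul_assoc]
        rw [← mul_assoc ((u ^ i)⁻¹) (u ^ j), show (u ^ i)⁻¹ * u ^ j = u ^ j * (u ^ i)⁻¹ from
          ((Commute.pow_pow_self u j i).inv_right).eq.symm]
        simp [mul_assoc]]
      exact mul_mem (mul_mem (mul_mem hh (hn _ _ (pow_mem hu'.1 i) hh'))
        (hn _ _ (pow_mem hu'.1 j) (C.inv_mem hh))) (C.inv_mem hh')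
    have hker : ∀ n ∈ N, B n = 1 := fun n hn =>
      (Chars.ker_iff B hBβ n).mp ((CharsMore.mem_quotIrr N).mp hβ hn)
    obtain ⟨a, ha⟩ := CharsMore.schur_scalar B (B ⟨u, huLC⟩) fun z => by
      obtain ⟨n, hn, e'⟩ := hcomm ⟨u, huLC⟩ z
      rw [← map_mul, ← map_mul, e', map_mul, hker n hn, one_mul]
    rw [← hBβ]
    show LinearMap.trace ℂ _ (B ⟨u, huLC⟩) ≠ 0
    haveI := CharsMore.nontrivial_of_isIrreducible B
    rw [ha, map_smul, LinearMap.trace_one, smul_eq_mul]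
    refine mul_ne_zero (fun h0 => ?_)
      (Nat.cast_ne_zero.mpr (CharsMore.finrank_pos_of_isIrreducible B).ne')
    rw [h0, zero_smul] at ha
    exact (B.toHomUnits ⟨u, huLC⟩).ne_zero ha
  -- the twists
  obtain ⟨ν, hν1, hνu, hν⟩ := ext_conj hu hy (hCH hc) hR
  obtain ⟨ν', hν1', hνu', hν'⟩ := ext_conj hu' hy' hc hR'
  have hyCS : y ∈ Subgroup.normalizer (C : Set Γ) := hy'.1
  have hyL : y ∈ Subgroup.normalizer ((H ⊔ Subgroup.zpowers u : Subgroup Γ) : Set Γ) ∧
      y ∈ Subgroup.normalizer ((C ⊔ Subgroup.zpowers u : Subgroup Γ) : Set Γ) := by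
    have key : ∀ K : Subgroup Γ, y ∈ Subgroup.normalizer (K : Set Γ) → ⁅y, u⁆ ∈ K →
        y ∈ Subgroup.normalizer ((K ⊔ Subgroup.zpowers u : Subgroup Γ) : Set Γ) := by
      intro K hK hKu
      haveI := Fintype.ofFinite Γ
      refine Subgroup.mem_normalizer_fintype fun z hz => ?_
      rw [SetLike.mem_coe] at hz ⊢
      have hle : K ⊔ Subgroup.zpowers u ≤
          (K ⊔ Subgroup.zpowers u).comap (MulAut.conj y).toMonoidHom := by
        refine sup_le (fun k hk => Subgroup.mem_sup_left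
          ((Subgroup.mem_normalizer_iff.mp hK k).mp hk)) (Subgroup.zpowers_le.mpr ?_)
        show y * u * y⁻¹ ∈ K ⊔ Subgroup.zpowers u
        rw [show y * u * y⁻¹ = ⁅y, u⁆ * u by simp [commutatorElement_def]]
        exact mul_mem (Subgroup.mem_sup_left hKu) (Subgroup.mem_sup_right (Subgroup.mem_zpowers u))
      exact hle hz
    exact ⟨key H hy.1 (hCH hc), key C hy'.1 hc⟩
  set ψν : IrrCharacter L := ⟨fun z => (ν z : ℂ) * R.character z,
    Chars.isIrrCharacter_linear_mul ν (Chars.isIrrCharacter_character R)⟩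
  set μ : LC →* ℂˣ := ν.comp (Subgroup.inclusion hLCL)
  set γμ : IrrCharacter LC := ⟨fun z => (μ z : ℂ) * (γ : LC → ℂ) z,
    Chars.isIrrCharacter_linear_mul μ γ.2⟩
  have hsrc : ∀ (K : Subgroup Γ), y ∈ Subgroup.normalizer (K : Set Γ) → ∀ w : K,
      ∃ z : K, (w : Γ) = y * z * y⁻¹ := fun K hK w =>
    ⟨⟨y⁻¹ * w * y, (Subgroup.mem_normalizer_iff''.mp hK w).mp w.2⟩, by simp [mul_assoc]⟩
  have hψν_inv : InvBy S L (fun z => (ν z : ℂ) * R.character z) := by
    intro s hs z z' e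
    obtain ⟨h, hh, i, hi⟩ := mem_sup_zpowers hu.1 z.2
    have hm : s * h * s⁻¹ ∈ H := (Subgroup.mem_normalizer_iff.mp (hSH hs) h).mp hh
    have hz : z = Subgroup.inclusion le_sup_left (⟨h, hh⟩ : H) * (⟨u, huL⟩ : L) ^ i :=
      Subtype.ext hi
    have hz' : z' = Subgroup.inclusion le_sup_left (⟨_, hm⟩ : H) * (⟨u, huL⟩ : L) ^ i := by
      apply Subtype.ext
      rw [e, hi]
      simp only [Subgroup.coe_mul, SubmonoidClass.coe_pow, Subgroup.coe_inclusion]
      conv_rhs => rw [← hcompat i s hs]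
      group
    show (ν z' : ℂ) * R.character z' = (ν z : ℂ) * R.character z
    have h2 : R.character z' = R.character z := hψinv s hs z z' e
    rw [h2, hz', hz, map_mul, map_mul, hν1, hν1]
  have hcorr2 : Corr p hLCL (ψν : L → ℂ) (γμ : LC → ℂ) := by
    rw [corr_iff] at hγ ⊢
    intro m hm
    refine hγ m ?_
    rw [← hm, Chars.inner_def, Chars.inner_def]
    congr 1
    refine Finset.sum_congr rfl fun z _ => ?_
    show (ψ : L → ℂ) _ * conj ((γ : LC → ℂ) z) =
      (ν (Subgroup.inclusion hLCL z) : ℂ) * R.character _ *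
        conj ((ν (Subgroup.inclusion hLCL z) : ℂ) * (γ : LC → ℂ) z)
    rw [map_mul]
    linear_combination (-((ψ : L → ℂ) ⟨z, hLCL z.2⟩ * conj ((γ : LC → ℂ) z))) *
      conj_hom_mul ν (Subgroup.inclusion hLCL z)
  -- the transported characters
  obtain ⟨ψν', hψν'⟩ := exists_conjIrr hyL.1 ψν
  have hψν'eq : (ψν' : L → ℂ) = R.character := by
    funext w
    obtain ⟨z, hz⟩ := hsrc L hyL.1 w
    rw [hψν' z w hz]
    exact (hν z w hz).symm
  obtain ⟨γμ', hγμ'⟩ := exists_conjIrr hyL.2 γμ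
  have hcorr3 : Corr p hLCL (ψ : L → ℂ) (γμ' : LC → ℂ) := by
    have := corr_conj hLCL hyL.2 hψν' hγμ' hcorr2
    rwa [hψν'eq] at this
  obtain rfl : γ = γμ' := corr_unique hSL hLp hS hLCeq hLCL hψinv hγ hcorr3
  obtain ⟨c, hcne⟩ : ∃ c : C, R'.character (Subgroup.inclusion le_sup_left c * ⟨u, huLC⟩) ≠ 0 := by
    by_contra hno
    push Not at hno
    have havg := CharsMore.coset_norm_avg N (Chars.isIrrCharacter_character R') hresirr ⟨u, huLC⟩
    rw [Finset.sum_eq_zero fun n _ => ?_, mul_zero] at havg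
    · exact zero_ne_one havg
    · rw [show ((n : LC)) = Subgroup.inclusion le_sup_left (e n) from rfl, hno (e n), zero_mul]
  set w : LC := Subgroup.inclusion le_sup_left c * ⟨u, huLC⟩
  have hcy : y * c * y⁻¹ ∈ C := (Subgroup.mem_normalizer_iff.mp hy'.1 c).mp c.2
  set w' : LC := Subgroup.inclusion le_sup_left (⟨_, C.mul_mem hcy hc⟩ : C) * ⟨u, huLC⟩
  have hw : (w' : Γ) = y * w * y⁻¹ := by
    simp [w, w', commutatorElement_def, mul_assoc]
  have hγw : (γ : LC → ℂ) w ≠ 0 := by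
    rw [hγβ, Pi.mul_apply]
    refine mul_ne_zero ?_ hcne
    rw [show w = ((e.symm c : N) : LC) * ⟨u, huLC⟩ from rfl, CharsMore.quotIrr_mul N hβ]
    exact hβu
  have h3 := hγμ' w w' hw
  have h4 : (γ : LC → ℂ) w' = (kap σ y u)⁻¹ * (γ : LC → ℂ) w := by
    rw [hγβ, Pi.mul_apply, Pi.mul_apply, hν' w w' hw,
      show w = ((e.symm c : N) : LC) * ⟨u, huLC⟩ from rfl,
      show w' = ((e.symm ⟨_, C.mul_mem hcy hc⟩ : N) : LC) * ⟨u, huLC⟩ from rfl,
      CharsMore.quotIrr_mul N hβ, CharsMore.quotIrr_mul N hβ, map_mul, Units.val_mul,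
      show ((e.symm c : N) : LC) = Subgroup.inclusion le_sup_left c from rfl, hν1', hνu',
      Units.val_one, one_mul]
    ring
  change (γ : LC → ℂ) w' = (μ w : ℂ) * (γ : LC → ℂ) w at h3
  have hμw : (μ w : ℂ) = (kap ρ y u)⁻¹ := by
    show (ν (Subgroup.inclusion hLCL w) : ℂ) = _
    rw [show Subgroup.inclusion hLCL w = Subgroup.inclusion le_sup_left (⟨c, hCH c.2⟩ : H) *
      ⟨u, huL⟩ from rfl, map_mul, hν1, one_mul, hνu]
  rw [hμw, h4] at h3
  exact (inv_injective (mul_right_cancel₀ hγw h3)).symm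

end CfsgLib.RelMcKay
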