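import Cfsg.Agent.Lib.RelMcKay.Pairing
import Cfsg.Agent.Lib.Chars.Irr
import Cfsg.Agent.Lib.CharsMore.Clifford

/-!
# Counting the irreducible characters over an invariant character

The number of irreducible characters of `A` over an `A`-invariant irreducible character of a normal
subgroup `M`, times `|A| * |M|`, is the sum of the pairing over the pairs commuting modulo `M`.
-/

set_option autoImplicit false
set_option linter.unusedSectionVars false
set_option linter.style.haveILetI false

open scoped commutatorElement ComplexConjugate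
open Cfsg Module

namespace CfsgLib.RelMcKay

open CfsgLib

universe u

variable {Γ : Type u} [Group Γ] [Finite Γ]

section Schur

variable {M : Type u} [Group M] [Fintype M] {V : Type*} [AddCommGroup V] [Module ℂ V]
  [FiniteDimensional ℂ V] (ρ : Representation ℂ M V) [ρ.IsIrreducible]

theorem sum_conj_eq_trace (X : Module.End ℂ V) :
    ∑ m : M, ρ m * X * ρ m⁻¹ =
      ((Nat.card M : ℂ) / (finrank ℂ V : ℂ) * LinearMap.trace ℂ V X) • 1 := by
  obtain ⟨c, hc⟩ := CharsMore.schur_scalar ρ (∑ m : M, ρ m * X * ρ m⁻¹) fun h => by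
    rw [Finset.sum_mul, Finset.mul_sum]
    refine Fintype.sum_equiv (Equiv.mulLeft h⁻¹) _ _ fun m => ?_
    show ρ m * X * ρ m⁻¹ * ρ h = ρ h * (ρ (h⁻¹ * m) * X * ρ (h⁻¹ * m)⁻¹)
    simp only [← mul_assoc, ← map_mul, mul_inv_rev, inv_inv, mul_inv_cancel, one_mul]
    rw [mul_assoc (ρ m * X), ← map_mul]
  have h1 : c * (finrank ℂ V : ℂ) = (Nat.card M : ℂ) * LinearMap.trace ℂ V X := by
    have := congrArg (LinearMap.trace ℂ V) hc
    rw [map_sum, map_smul, LinearMap.trace_one, smul_eq_mul] at this
    rw [← this]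
    rw [Finset.sum_congr rfl fun x _ => show LinearMap.trace ℂ V (ρ x * X * ρ x⁻¹) =
      LinearMap.trace ℂ V X by
        rw [LinearMap.trace_mul_cycle, ← map_mul, inv_mul_cancel, map_one, one_mul]]
    simp
  have hd : (finrank ℂ V : ℂ) ≠ 0 :=
    Nat.cast_ne_zero.mpr (CharsMore.finrank_pos_of_isIrreducible ρ).ne'
  rw [hc, div_mul_eq_mul_div, ← h1, mul_div_assoc, div_self hd, mul_one]

theorem sum_trace_smul (B : Module.End ℂ V) :
    ∑ n : M, LinearMap.trace ℂ V (ρ n⁻¹ * B) • ρ n =
      ((Nat.card M : ℂ) / (finrank ℂ V : ℂ)) • B := by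
  classical
  set b := Module.finBasis ℂ V with hb
  refine LinearMap.ext fun v => ?_
  have key : ∀ i, ∑ n : M, b.coord i (ρ n⁻¹ (B (b i))) • ρ n v =
      ((Nat.card M : ℂ) / (finrank ℂ V : ℂ) * b.coord i v) • B (b i) := by
    intro i
    have h := congrArg (fun f => f (B (b i))) (sum_conj_eq_trace ρ ((b.coord i).smulRight v))
    simp only [LinearMap.sum_apply, Module.End.mul_apply, LinearMap.smulRight_apply, map_smul,
      LinearMap.trace_smulRight, LinearMap.smul_apply, Module.End.one_apply] at h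
    exact h
  have htr : ∀ X : Module.End ℂ V, LinearMap.trace ℂ V X = ∑ i, b.coord i (X (b i)) := fun X => by
    rw [LinearMap.trace_eq_matrix_trace ℂ b, Matrix.trace]
    exact Finset.sum_congr rfl fun i _ => by
      rw [Matrix.diag_apply, LinearMap.toMatrix_apply, Basis.coord_apply]
  simp only [LinearMap.sum_apply, LinearMap.smul_apply, htr, Finset.sum_smul, Module.End.mul_apply]
  rw [Finset.sum_comm, Finset.sum_congr rfl fun i _ => key i]
  simp only [mul_smul, ← Finset.smul_sum]
  congr 1
  conv_rhs => rw [← b.sum_repr v, map_sum]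
  exact Finset.sum_congr rfl fun i _ => by rw [map_smul, Basis.coord_apply]

theorem sum_trace_mul (A B : Module.End ℂ V) :
    ∑ n : M, LinearMap.trace ℂ V (A * ρ n) * LinearMap.trace ℂ V (ρ n⁻¹ * B) =
      (Nat.card M : ℂ) / (finrank ℂ V : ℂ) * LinearMap.trace ℂ V (A * B) := by
  have h := congrArg (fun f => LinearMap.trace ℂ V (A * f)) (sum_trace_smul ρ B)
  simp only [Finset.mul_sum, mul_smul_comm, map_sum, map_smul, smul_eq_mul] at h
  rw [← h]
  exact Finset.sum_congr rfl fun n _ => mul_comm _ _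

end Schur

variable {M A : Subgroup Γ}
variable {V : Type*} [AddCommGroup V] [Module ℂ V] [FiniteDimensional ℂ V]
variable {ρ : Representation ℂ M V}

theorem Intw.character_eq {g : Γ} {T : (Module.End ℂ V)ˣ} (hT : Intw ρ g T) {m m' : M}
    (e : (m' : Γ) = g * m * g⁻¹) : ρ.character m' = ρ.character m := by
  have h : (T : Module.End ℂ V) * ρ m * ↑T⁻¹ = ρ m' := by
    rw [hT m m' e, mul_assoc, Units.mul_inv, mul_one]
  show LinearMap.trace ℂ V (ρ m') = LinearMap.trace ℂ V (ρ m)
  rw [← h, LinearMap.trace_mul_cycle, Units.inv_mul, one_mul]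

variable [ρ.IsIrreducible]

theorem sum_coset_commutator [Fintype M] {g x : Γ} (hg : Fixes ρ g) (hx : Fixes ρ x)
    (hc : ⁅g, x⁆ ∈ M) (F : Γ → ℂ) (hF : ∀ m : M, F m = ρ.character m) :
    ∑ m : M, ∑ n : M, F ⁅g * m, x * n⁆ =
      (kap ρ g x)⁻¹ * ((Nat.card M : ℂ) ^ 2 / (finrank ℂ V : ℂ)) := by
  obtain ⟨T, hT⟩ := hg.2
  obtain ⟨U, hU⟩ := hx.2
  have key : ∀ m n : M, F ⁅g * m, x * n⁆ = (kap ρ g x)⁻¹ * LinearMap.trace ℂ V
      ((T : Module.End ℂ V) * (ρ m * (↑U * ρ n) * ρ m⁻¹) * ↑T⁻¹ * (ρ n⁻¹ * ↑U⁻¹)) := by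
    intro m n
    obtain ⟨hmn, hk⟩ := kap_coset hg hx hc m.2 n.2
    have hT' := hT.mul (intw_rep m) (Subgroup.le_normalizer m.2)
    have hU' := hU.mul (intw_rep n) (Subgroup.le_normalizer n.2)
    have hgm := hg.mul (fixes_of_mem (ρ := ρ) m.2)
    have hxn := hx.mul (fixes_of_mem (ρ := ρ) n.2)
    have h := kap_spec hgm hxn hmn _ _ hT' hU' ⟨_, hmn⟩ rfl
    rw [hk] at h
    rw [show ⁅g * (m : Γ), x * n⁆ = ((⟨_, hmn⟩ : M) : Γ) from rfl, hF]
    set a := T * ρ.toHomUnits m
    set b := U * ρ.toHomUnits n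
    have h' : (a : Module.End ℂ V) * b * ↑a⁻¹ * ↑b⁻¹ = kap ρ g x • ρ ⟨_, hmn⟩ := by
      rw [h, smul_mul_assoc, smul_mul_assoc]
      congr 1
      simp [mul_assoc]
    rw [show ρ.character ⟨_, hmn⟩ = (kap ρ g x)⁻¹ * LinearMap.trace ℂ V
      ((a : Module.End ℂ V) * b * ↑a⁻¹ * ↑b⁻¹) by
        rw [h', map_smul, smul_eq_mul, ← mul_assoc, inv_mul_cancel₀ (kap_ne_zero hg hx hc), one_mul]
        rfl]
    congr 2
  simp only [key, ← Finset.mul_sum]
  congr 1
  rw [Finset.sum_comm]
  have e1 : ∀ n : M, ∑ m : M, LinearMap.trace ℂ V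
      ((T : Module.End ℂ V) * (ρ m * (↑U * ρ n) * ρ m⁻¹) * ↑T⁻¹ * (ρ n⁻¹ * ↑U⁻¹)) =
      (Nat.card M : ℂ) / (finrank ℂ V : ℂ) *
        (LinearMap.trace ℂ V (↑U * ρ n) * LinearMap.trace ℂ V (ρ n⁻¹ * ↑U⁻¹)) := by
    intro n
    rw [← map_sum, ← Finset.sum_mul, ← Finset.sum_mul, ← Finset.mul_sum, sum_conj_eq_trace,
      mul_smul_comm, smul_mul_assoc, smul_mul_assoc, mul_one, Units.mul_inv, one_mul, map_smul,
      smul_eq_mul, mul_assoc]
  rw [Finset.sum_congr rfl fun n _ => e1 n, ← Finset.mul_sum, sum_trace_mul, Units.mul_inv,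
    LinearMap.trace_one]
  have hd : (finrank ℂ V : ℂ) ≠ 0 :=
    Nat.cast_ne_zero.mpr (CharsMore.finrank_pos_of_isIrreducible ρ).ne'
  field_simp

section Count

variable [Fintype M] [Fintype A]

open scoped Classical in
/-- The characters of `A` over the invariant character afforded by `ρ`. -/
theorem card_over_mul (hMA : M ≤ A) (hA : ∀ a ∈ A, Fixes ρ a) :
    (Nat.card {χ : IrrCharacter A //
        classInner (fun m : M => (χ : A → ℂ) ⟨m, hMA m.2⟩) ρ.character ≠ 0} : ℂ) *
        (Nat.card A : ℂ) * (Nat.card M : ℂ) =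
      ∑ g : A, ∑ x : A, if ⁅(g : Γ), (x : Γ)⁆ ∈ M then conj (kap ρ g x)⁻¹ else 0 := by
  haveI := Chars.irrFintype A
  set d : ℂ := (finrank ℂ V : ℂ) with hd
  have hd0 : d ≠ 0 := Nat.cast_ne_zero.mpr (CharsMore.finrank_pos_of_isIrreducible ρ).ne'
  set F : Γ → ℂ := fun y => if h : y ∈ M then ρ.character ⟨y, h⟩ else 0 with hFdef
  have hFm : ∀ m : M, F m = ρ.character m := fun m => by simp [hFdef]
  set f : A → ℂ := fun a => F a with hfdef
  have hf : IsClassFunction A f := by
    intro y z
    obtain ⟨T, hT⟩ := (hA _ z.2).2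
    have hn := (hA _ z.2).1
    show F ((z * y * z⁻¹ : A) : Γ) = F (y : Γ)
    simp only [Subgroup.coe_mul, Subgroup.coe_inv]
    by_cases hy : (y : Γ) ∈ M
    · have hy' : (z : Γ) * y * (z : Γ)⁻¹ ∈ M := (Subgroup.mem_normalizer_iff.mp hn _).mp hy
      simp only [hFdef, dif_pos hy, dif_pos hy']
      exact hT.character_eq rfl
    · simp only [hFdef, dif_neg hy,
        dif_neg (fun h => hy ((Subgroup.mem_normalizer_iff.mp hn _).mpr h))]
  -- the projection onto the characters over `ρ`
  let Q : IrrCharacter A → Prop := fun χ =>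
    classInner (fun m : M => (χ : A → ℂ) ⟨m, hMA m.2⟩) ρ.character ≠ 0
  have proj : ∀ (χ : IrrCharacter A) (x : A),
      d * ∑ h : M, conj (ρ.character h) * (χ : A → ℂ) (⟨h, hMA h.2⟩ * x) =
        if Q χ then (Nat.card M : ℂ) * (χ : A → ℂ) x else 0 := by
    intro χ x
    obtain ⟨k, R, hR, hRχ⟩ := χ.2
    haveI := hR
    obtain ⟨c, hc, hcn⟩ := Chars.avgOp_eq_scalar R hf
    have hsum : Chars.avgOp R f = ∑ h : M, conj (ρ.character h) • R ⟨h, hMA h.2⟩ := by
      rw [Chars.avgOp]
      symm
      refine Finset.sum_of_injOn (fun h : M => (⟨h, hMA h.2⟩⁻¹ : A)) ?_ (by simp) ?_ ?_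
      · intro a _ b _ e
        exact Subtype.ext (congrArg Subtype.val (inv_injective (show (⟨a, hMA a.2⟩ : A)⁻¹ = (⟨b, hMA b.2⟩ : A)⁻¹ from e)) : _)
      · intro a _ ha
        rw [smul_eq_zero]
        left
        show F (a : Γ) = 0
        simp only [hFdef]
        rw [dif_neg]
        intro haM
        exact ha ⟨⟨_, M.inv_mem haM⟩, Finset.mem_univ _, Subtype.ext (inv_inv (a : Γ))⟩
      · intro h _
        show _ = F ((⟨h, hMA h.2⟩⁻¹ : A) : Γ) • _
        rw [inv_inv, Subgroup.coe_inv, show (h : Γ)⁻¹ = ((h⁻¹ : M) : Γ) from rfl, hFm,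
          Chars.character_inv]
    have e1 : ∑ h : M, conj (ρ.character h) * (χ : A → ℂ) (⟨h, hMA h.2⟩ * x) =
        c * (χ : A → ℂ) x := by
      have h := congrArg (fun S => LinearMap.trace ℂ _ (S * R x)) (hsum.symm.trans hc)
      simp only [Finset.sum_mul, map_sum, smul_mul_assoc, map_smul, smul_eq_mul] at h
      rw [← hRχ]
      show ∑ h : M, conj (ρ.character h) * LinearMap.trace ℂ _ (R (⟨h, hMA h.2⟩ * x)) =
        c * LinearMap.trace ℂ _ (R x)
      simp only [map_mul]
      rw [h, ← Module.End.one_eq_id, one_mul]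
    rw [e1]
    set ι : M →* A := Subgroup.inclusion hMA
    have hres : IsCharacter M (fun m : M => (χ : A → ℂ) ⟨m, hMA m.2⟩) :=
      Chars.isCharacter_comp ι (Chars.isCharacter_of_irr χ.2)
    obtain ⟨r, hr⟩ := Chars.inner_irr_right_nat hres
      ⟨ρ.character, Chars.isIrrCharacter_character ρ⟩
    simp only at hr
    have hinner : (Nat.card A : ℂ) * classInner f R.character = (Nat.card M : ℂ) * r := by
      rw [← hr, Chars.inner_def, Chars.inner_def, ← mul_assoc,
        mul_inv_cancel₀ (Chars.card_ne_zero A), one_mul, ← mul_assoc,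
        mul_inv_cancel₀ (Chars.card_ne_zero M), one_mul, ← hRχ]
      have hzero : ∀ a : A, a ∉ Set.range ι → f a * conj (R.character a) = 0 := fun a ha => by
        rw [mul_eq_zero]
        left
        show F (a : Γ) = 0
        simp only [hFdef]
        rw [dif_neg fun h => ha ⟨⟨a, h⟩, rfl⟩]
      rw [← Finset.sum_subset (Finset.subset_univ (Finset.univ.image ι)) (fun a _ ha =>
        hzero a (by simpa using ha)), Finset.sum_image fun a _ b _ e =>
        Subgroup.inclusion_injective hMA e]
      refine Fintype.sum_equiv (Equiv.inv M) _ _ fun m => ?_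
      show F (m : Γ) * conj (R.character (ι m)) =
        R.character (ι m⁻¹) * conj (ρ.character m⁻¹)
      rw [hFm, map_inv, Chars.character_inv, Chars.character_inv, Complex.conj_conj, mul_comm]
    rw [hinner] at hcn
    by_cases hQ : Q χ
    · rw [if_pos hQ]
      have hdeg : (k : ℂ) = r * d := by
        haveI : (M.subgroupOf A).Normal := Subgroup.normal_subgroupOf_of_le_normalizer
          fun a ha => (hA a ha).1
        let e := Subgroup.subgroupOfEquivOfLe hMA
        haveI := Fintype.ofFinite (M.subgroupOf A)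
        have hirr : IsIrrCharacter (M.subgroupOf A) (fun y => ρ.character (e y)) :=
          Chars.isIrrCharacter_comp e.toMonoidHom e.surjective (Chars.isIrrCharacter_character ρ)
        have hi : classInner (fun y : M.subgroupOf A => (χ : A → ℂ) y)
            (fun y => ρ.character (e y)) = r := by
          rw [← hr, Chars.inner_def, Chars.inner_def, Nat.card_congr e.toEquiv]
          congr 1
          exact Fintype.sum_equiv e.toEquiv _ _ fun y => rfl
        have hinv : ∀ (g : A) (y : M.subgroupOf A),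
            ρ.character (e (CharsMore.conjBy (M.subgroupOf A) g y)) = ρ.character (e y) := by
          intro g y
          obtain ⟨T, hT⟩ := (hA _ g.2).2
          exact hT.character_eq rfl
        have h1 := CharsMore.restrict_eq_mul_of_invariant (M.subgroupOf A) χ.2 hirr hinv
          (by rw [hi]; exact fun h0 => hQ (hr.trans h0)) 1
        rw [hi, Subgroup.coe_one, ← hRχ, Representation.char_one, Module.finrank_fin_fun,
          map_one, Representation.char_one] at h1
        exact h1
      have hk0 : (r : ℂ) ≠ 0 := fun h0 => hQ (hr.trans h0)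
      rw [Module.finrank_fin_fun, hdeg] at hcn
      rw [← mul_assoc]
      congr 1
      apply mul_left_cancel₀ hk0
      linear_combination hcn
    · rw [if_neg hQ]
      have hr0 : (r : ℂ) = 0 := by rw [← hr]; exact not_not.mp hQ
      rw [hr0, mul_zero, Module.finrank_fin_fun, mul_eq_zero] at hcn
      rcases hcn with hcn | hcn
      · rw [hcn, zero_mul, mul_zero]
      · exfalso
        haveI := Chars.nontrivial_of_isIrreducible R
        have := Module.finrank_pos (R := ℂ) (M := Fin k → ℂ)
        rw [Module.finrank_fin_fun] at this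
        exact this.ne' (Nat.cast_eq_zero.mp hcn)
  -- conjugating elements
  have orth : ∀ a x : A, ∑ χ : IrrCharacter A, (χ : A → ℂ) a * conj ((χ : A → ℂ) x) =
      ∑ g : A, if g * x * g⁻¹ = a then (1 : ℂ) else 0 := by
    intro a x
    rw [Chars.second_orthogonality a x, Finset.sum_boole]
    split_ifs with h
    · obtain ⟨g₀, hg₀⟩ := isConj_iff.mp h
      norm_cast
      rw [← Fintype.card_subtype, ← Nat.card_eq_fintype_card]
      refine Nat.card_congr
        { toFun := fun c => ⟨(c : A) * g₀, ?_⟩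
          invFun := fun g => ⟨(g : A) * g₀⁻¹, ?_⟩
          left_inv := fun c => by simp
          right_inv := fun g => by simp }
      · have hc := Subgroup.mem_centralizer_iff.mp c.2 a rfl
        calc (c : A) * g₀ * x * ((c : A) * g₀)⁻¹ = c * (g₀ * x * g₀⁻¹) * (c : A)⁻¹ := by group
          _ = a := by rw [hg₀, ← hc]; group
      · have hg := g.2
        rw [Subgroup.mem_centralizer_iff]
        rintro _ rfl
        have e : (g : A) * g₀⁻¹ * (g₀ * x * g₀⁻¹) * ((g : A) * g₀⁻¹)⁻¹ = (g : A) * x * (g : A)⁻¹ := by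
          group
        rw [hg₀, hg, mul_inv_eq_iff_eq_mul] at e
        exact e.symm
    · have : (Finset.univ.filter fun g : A => g * x * g⁻¹ = a) = ∅ :=
        Finset.filter_eq_empty_iff.mpr fun g _ e => h (isConj_iff.mpr ⟨g, e⟩)
      simp [this]
  set P : A → A → ℂ := fun g x => conj (F ⁅(g : Γ), (x : Γ)⁆) with hP
  have hcount : (Nat.card {χ : IrrCharacter A // Q χ} : ℂ) * (Nat.card A : ℂ) * (Nat.card M : ℂ) =
      d * ∑ g : A, ∑ x : A, P g x := by
    have h1 : ∀ χ : IrrCharacter A,
        ∑ x : A, (χ : A → ℂ) x * conj ((χ : A → ℂ) x) = (Nat.card A : ℂ) := fun χ => by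
      have := Chars.inner_irr_self χ
      rw [Chars.inner_def, inv_mul_eq_one₀ (Chars.card_ne_zero A)] at this
      exact this.symm
    calc _ = ∑ χ ∈ Finset.univ.filter Q, ∑ x : A,
          (Nat.card M : ℂ) * (χ : A → ℂ) x * conj ((χ : A → ℂ) x) := by
          simp only [mul_assoc, ← Finset.mul_sum, h1, Finset.sum_const, nsmul_eq_mul]
          rw [Nat.card_eq_fintype_card, Fintype.card_subtype]
          ring
      _ = ∑ χ : IrrCharacter A, ∑ x : A, d * ∑ h : M,
          conj (ρ.character h) * (χ : A → ℂ) (⟨h, hMA h.2⟩ * x) * conj ((χ : A → ℂ) x) := by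
          rw [Finset.sum_filter]
          refine Finset.sum_congr rfl fun χ _ => ?_
          simp only [← Finset.sum_mul, ← mul_assoc, proj]
          split_ifs with h <;> simp
      _ = d * ∑ x : A, ∑ h : M, conj (ρ.character h) *
          ∑ g : A, if g * x * g⁻¹ = ⟨h, hMA h.2⟩ * x then (1 : ℂ) else 0 := by
          rw [Finset.sum_comm, Finset.mul_sum]
          refine Finset.sum_congr rfl fun x _ => ?_
          rw [← Finset.mul_sum]
          congr 1
          rw [Finset.sum_comm]
          refine Finset.sum_congr rfl fun h _ => ?_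
          rw [← orth, Finset.mul_sum]
          exact Finset.sum_congr rfl fun χ _ => mul_assoc _ _ _
      _ = _ := by
          rw [Finset.sum_comm (γ := A) (α := A)]
          congr 1
          refine Finset.sum_congr rfl fun x _ => ?_
          simp only [Finset.mul_sum]
          rw [Finset.sum_comm]
          refine Finset.sum_congr rfl fun g _ => ?_
          by_cases hc : ⁅(g : Γ), (x : Γ)⁆ ∈ M
          · rw [Finset.sum_eq_single ⟨_, hc⟩]
            · rw [if_pos, mul_one, hP]
              · simp [hFdef, hc]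
              · apply Subtype.ext
                simp [commutatorElement_def, mul_assoc]
            · intro h _ hne
              rw [if_neg, mul_zero]
              intro e
              apply hne
              have e' := congrArg Subtype.val e
              simp only [Subgroup.coe_mul, Subgroup.coe_inv] at e'
              apply Subtype.ext
              simp only [commutatorElement_def, e']
              group
            · simp
          · rw [Finset.sum_eq_zero fun h _ => ?_]
            · simp [hP, hFdef, hc]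
            · rw [if_neg, mul_zero]
              intro e
              apply hc
              have e' := congrArg Subtype.val e
              simp only [Subgroup.coe_mul, Subgroup.coe_inv] at e'
              rw [commutatorElement_def, e', mul_inv_cancel_right]
              exact h.2
  rw [hcount]
  -- average over the cosets
  set ι : M →* A := Subgroup.inclusion hMA
  have havg : (Nat.card M : ℂ) ^ 2 * ∑ g : A, ∑ x : A, P g x =
      ∑ g : A, ∑ x : A, ∑ m : M, ∑ n : M, P (g * ι m) (x * ι n) := by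
    have hshift : ∀ m n : M, ∑ g : A, ∑ x : A, P (g * ι m) (x * ι n) = ∑ g : A, ∑ x : A, P g x :=
      fun m n => Fintype.sum_equiv (Equiv.mulRight (ι m)) _ _ fun g =>
        Fintype.sum_equiv (Equiv.mulRight (ι n)) _ _ fun x => rfl
    calc _ = ∑ _m : M, ∑ _n : M, ∑ g : A, ∑ x : A, P g x := by
          simp only [Finset.sum_const, Finset.card_univ, nsmul_eq_mul, Nat.card_eq_fintype_card]
          ring
      _ = ∑ m : M, ∑ n : M, ∑ g : A, ∑ x : A, P (g * ι m) (x * ι n) :=
          Finset.sum_congr rfl fun m _ => Finset.sum_congr rfl fun n _ => (hshift m n).symm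
      _ = _ := by
          simp only [Finset.sum_comm (γ := M) (α := A)]
  have hterm : ∀ g x : A, ∑ m : M, ∑ n : M, P (g * ι m) (x * ι n) =
      (Nat.card M : ℂ) ^ 2 / d *
        if ⁅(g : Γ), (x : Γ)⁆ ∈ M then conj (kap ρ g x)⁻¹ else 0 := by
    intro g x
    by_cases hc : ⁅(g : Γ), (x : Γ)⁆ ∈ M
    · rw [if_pos hc]
      simp only [hP, Subgroup.coe_mul, ← map_sum]
      have h := sum_coset_commutator (hA _ g.2) (hA _ x.2) hc F hFm
      refine (congrArg conj h).trans ?_
      rw [map_mul, map_div₀, map_pow, Complex.conj_natCast, Complex.conj_natCast, mul_comm]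
    · rw [if_neg hc, mul_zero]
      refine Finset.sum_eq_zero fun m _ => Finset.sum_eq_zero fun n _ => ?_
      show conj (F ⁅((g * ι m : A) : Γ), ((x * ι n : A) : Γ)⁆) = 0
      simp only [hFdef]
      rw [dif_neg, map_zero]
      intro h
      apply hc
      obtain ⟨h', -⟩ : ⁅((g * ι m : A) : Γ) * ((m⁻¹ : M) : Γ), ((x * ι n : A) : Γ) * ((n⁻¹ : M) : Γ)⁆ ∈ M ∧ _ :=
        kap_coset (hA _ (g * ι m).2) (hA _ (x * ι n).2) h (m⁻¹).2 (n⁻¹).2
      simpa [ι] using h'
  simp only [hterm, ← Finset.mul_sum] at havg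
  have hM0 : (Nat.card M : ℂ) ^ 2 ≠ 0 := pow_ne_zero _ (Chars.card_ne_zero M)
  apply mul_left_cancel₀ hM0
  rw [mul_left_comm, havg]
  field_simp

end Count

end CfsgLib.RelMcKay
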