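import Cfsg.Prelude.Def_Blocks

/-!
# Relative McKay counts

`overCount p f ν` counts the irreducible characters of `X` of degree prime to `p` whose pullback
along `f` is not orthogonal to `ν`. `CentralCase p` is the central case of the relative McKay
statement for `p`-solvable groups.
-/

set_option autoImplicit false

open scoped ComplexConjugate
open Cfsg

namespace CfsgLib.RelMcKay

universe u

variable (p : ℕ)

/-- The number of irreducible characters of degree prime to `p` over `ν`. -/
noncomputable def overCount {X Y : Type u} [Group X] [Finite X] [Group Y] (f : Y →* X)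
    (ν : Y → ℂ) : ℕ :=
  Nat.card {χ : IrrCharacter X //
    ¬ p ∣ charDegree (χ : X → ℂ) ∧ (∑ᶠ y, (χ : X → ℂ) (f y) * conj (ν y)) ≠ 0}

/-- The central case: `Z` central with linear `ω`, `K / Z` a normal `p'`-section and `K ⊔ S`
normal. The Sylow `S` is the only one in `Z ⊔ S`, so the normaliser of `S` is that of `Z ⊔ S`. -/
def CentralCase : Prop :=
  ∀ (Q : Type u) [Group Q] [Finite Q] (Z K : Subgroup Q) (S : Sylow p Q) (ω : Z →* ℂˣ),
    Z ≤ Subgroup.center Q → K.Normal → Z ≤ K → ¬ p ∣ Z.relIndex K →
    (K ⊔ (S : Subgroup Q)).Normal →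
    ∀ hZN : Z ≤ Subgroup.normalizer ((S : Subgroup Q) : Set Q),
      overCount p Z.subtype (fun z => (ω z : ℂ)) =
        overCount p (Subgroup.inclusion hZN) (fun z => (ω z : ℂ))

end CfsgLib.RelMcKay
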