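import Cfsg.Agent.Lib.RelMcKay.Triple
import Cfsg.Agent.Lib.PLocal.PSolvable
import Cfsg.Agent.Lib.PLocal.NormalizeSylow
import Cfsg.Prelude.Def_BlockLocal

/-!
# Relative McKay for `p`-solvable groups from the central case

Induction on the index of the normal subgroup: non-invariant characters go down to their inertia
groups, invariant ones climb to a chief step, and a `p'`-step with normal `K ⊔ S` is the central
case.
-/

set_option autoImplicit false
set_option linter.unusedSectionVars false
set_option linter.style.haveILetI false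

open scoped ComplexConjugate Pointwise
open Cfsg

namespace CfsgLib.RelMcKay

open CfsgLib CfsgLib.CharsMore

universe u

variable {p : ℕ} [Fact p.Prime]

/-- A normal step above `L` that is a `p`-section or a `p'`-section. -/
theorem exists_step {G : Type u} [Group G] [Finite G] (hG : IsPSolvable p G) (L : Subgroup G)
    [L.Normal] (hL : L ≠ ⊤) :
    ∃ K : Subgroup G, K.Normal ∧ L < K ∧
      ((∃ m, L.relIndex K = p ^ m) ∨ ¬ p ∣ L.relIndex K) := by
  classical
  obtain ⟨n, H, h0, hn, hmono, hnormal, hstep⟩ := hG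
  have hex : ∃ i, ∃ hi : i < n + 1, ¬ H ⟨i, hi⟩ ≤ L := ⟨n, Nat.lt_succ_self n, fun h => hL (by
    rw [eq_top_iff, ← hn]; exact h)⟩
  obtain ⟨hi, hiL⟩ := Nat.find_spec hex
  obtain ⟨j, hj⟩ : ∃ j, Nat.find hex = j + 1 := by
    refine ⟨Nat.find hex - 1, ?_⟩
    rcases Nat.eq_zero_or_pos (Nat.find hex) with h | h
    · refine absurd ?_ hiL
      rw [show (⟨Nat.find hex, hi⟩ : Fin (n + 1)) = 0 from Fin.ext h, h0]
      exact bot_le
    · omega
  have hjn : j < n := by omega
  let i : Fin n := ⟨j, hjn⟩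
  have hprev : H i.castSucc ≤ L := by
    by_contra h
    exact Nat.find_min hex (show j < Nat.find hex by omega) ⟨by omega, h⟩
  have hiL' : ¬ H i.succ ≤ L := by
    convert hiL using 3
    exact Fin.ext hj.symm
  haveI := hnormal i.succ
  refine ⟨L ⊔ H i.succ, inferInstance, lt_of_le_of_ne le_sup_left fun h => hiL' ?_, ?_⟩
  · rw [h]; exact le_sup_right
  have hd : L.relIndex (L ⊔ H i.succ) ∣ (H i.castSucc).relIndex (H i.succ) := by
    rw [PLocal.NormalizeSylow.relIndex_sup_of_normal L (H i.succ)]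
    exact Subgroup.relIndex_dvd_of_le_left (H i.succ) hprev
  rcases hstep i with ⟨m, hm⟩ | hc
  · rw [hm] at hd
    obtain ⟨k, -, hk⟩ := (Nat.dvd_prime_pow Fact.out).1 hd
    exact Or.inl ⟨k, hk⟩
  · exact Or.inr ((Nat.Prime.coprime_iff_not_dvd Fact.out).1 (hc.coprime_dvd_left hd).symm)

theorem over_pullFn {G : Type u} [Group G] {L K B : Subgroup G} (hLK : L ≤ K) (hKB : K ≤ B)
    (hLK' : L.subgroupOf B ≤ K.subgroupOf B) (ν : L → ℂ) (θ : K → ℂ) :
    Over (Subgroup.inclusion hLK') (pullFn L B ν) (pullFn K B θ) ↔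
      Over (Subgroup.inclusion hLK) ν θ := by
  rw [Over, Over, ← finsum_comp_equiv (Subgroup.subgroupOfEquivOfLe (hLK.trans hKB)).symm.toEquiv]
  rfl

/-- Sorting inside a subgroup containing the normaliser of the Sylow subgroup. -/
theorem overCount_eq_sum_sub {G : Type u} [Group G] [Fintype G] {L K : Subgroup G} [L.Normal]
    [K.Normal] (hLK : L ≤ K) {ν : L → ℂ} (hν : IsIrrCharacter L ν) (hinv : inertia L ν = ⊤)
    (S : Sylow p G) {B : Subgroup G} (hKB : K ≤ B)
    (hNB : Subgroup.normalizer ((S : Subgroup G) : Set G) ≤ B) {ι : Type u} [Fintype ι]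
    (θ : ι → IrrCharacter K) (hθS : ∀ i, (S : Subgroup G) ≤ inertia K (θ i : K → ℂ))
    (hθν : ∀ i, Over (Subgroup.inclusion hLK) ν (θ i))
    (hcov : ∀ η : IrrCharacter K, (S : Subgroup G) ≤ inertia K (η : K → ℂ) →
      Over (Subgroup.inclusion hLK) ν η →
      ∃ i, ∃ n ∈ Subgroup.normalizer ((S : Subgroup G) : Set G),
        conjFn K n (θ i : K → ℂ) = η)
    (huniq : ∀ i j, ∀ n ∈ Subgroup.normalizer ((S : Subgroup G) : Set G),
      conjFn K n (θ i : K → ℂ) = θ j → i = j) :
    overCount p (Subgroup.inclusion (hLK.trans hKB)) ν =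
      ∑ i, overCount p (Subgroup.inclusion hKB) (θ i : K → ℂ) := by
  classical
  have hSB : (S : Subgroup G) ≤ B := Subgroup.le_normalizer.trans hNB
  have hLB := hLK.trans hKB
  let _ := Fintype.ofFinite B
  let SB := S.subtype hSB
  have hLK' : L.subgroupOf B ≤ K.subgroupOf B := fun x hx => hLK hx
  have hnorm : ∀ x : B, x ∈ Subgroup.normalizer ((SB : Subgroup B) : Set B) ↔
      (x : G) ∈ Subgroup.normalizer ((S : Subgroup G) : Set G) := by
    intro x
    show x ∈ Subgroup.normalizer (((S : Subgroup G).subgroupOf B : Subgroup B) : Set B) ↔ _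
    rw [← Subgroup.subgroupOf_normalizer_eq hSB]
    rfl
  have hinv' : inertia (L.subgroupOf B) (pullFn L B ν) = ⊤ := by
    rw [inertia_pullFn L hLB, hinv]; rfl
  have hS' : ∀ η : K → ℂ, (S : Subgroup G) ≤ inertia K η →
      (SB : Subgroup B) ≤ inertia (K.subgroupOf B) (pullFn K B η) := fun η h x hx => by
    rw [inertia_pullFn K hKB, Subgroup.mem_subgroupOf]
    exact h hx
  rw [overCount_subgroupOf hLB, overCount_eq_sum (L.subgroupOf B) (K.subgroupOf B) hLK'
    (isIrr_pullFn L hLB hν) hinv' SB (fun i => ⟨_, isIrr_pullFn K hKB (θ i).2⟩)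
    (fun i => hS' _ (hθS i)) (fun i => (over_pullFn hLK hKB hLK' ν _).2 (hθν i)) ?_ ?_]
  · exact Finset.sum_congr rfl fun i _ => (overCount_subgroupOf hKB _).symm
  · intro η' hη'S hη'ν
    let e := Subgroup.subgroupOfEquivOfLe hKB
    let η : IrrCharacter K := ⟨fun k => (η' : K.subgroupOf B → ℂ) (e.symm k),
      Chars.isIrrCharacter_comp e.symm.toMonoidHom e.symm.surjective η'.2⟩
    have hpull : pullFn K B (η : K → ℂ) = η' := rfl
    obtain ⟨i, n, hn, hi⟩ := hcov η (fun s hs => by
      have := hη'S (show (⟨s, hSB hs⟩ : B) ∈ (SB : Subgroup B) from hs)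
      rw [← hpull, inertia_pullFn K hKB, Subgroup.mem_subgroupOf] at this
      exact this) ((over_pullFn hLK hKB hLK' ν _).1 (by rw [hpull]; exact hη'ν))
    refine ⟨i, ⟨n, hNB hn⟩, (hnorm _).2 hn, funext fun x => ?_⟩
    exact (congrFun hi (e x)).trans rfl
  · intro i j n hn h
    refine huniq i j n ((hnorm n).1 hn) (funext fun k => ?_)
    exact congrFun h ((Subgroup.subgroupOfEquivOfLe hKB).symm k)

/-- The induction. -/
theorem relMcKay_aux (hcc : CentralCase.{u} p) : ∀ (n : ℕ) (G : Type u) [Group G] [Fintype G],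
    IsPSolvable p G → ∀ (L : Subgroup G) [L.Normal] (S : Sylow p G) (ν : L → ℂ),
    IsIrrCharacter L ν → (S : Subgroup G) ≤ inertia L ν → L.index ≤ n →
    ∀ hLN : L ≤ Subgroup.normalizer ((L ⊔ (S : Subgroup G) : Subgroup G) : Set G),
      overCount p L.subtype ν = overCount p (Subgroup.inclusion hLN) ν := by
  intro n
  induction n with
  | zero => intro G _ _ _ L _ _ _ _ _ h; exact absurd (Nat.le_zero.1 h) Subgroup.index_ne_zero_of_finite
  | succ n ih =>
  intro G _ _ hG L _ S ν hν hSν hn hLN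
  classical
  set N := Subgroup.normalizer ((L ⊔ (S : Subgroup G) : Subgroup G) : Set G) with hNdef
  have hSN : (S : Subgroup G) ≤ N := le_sup_right.trans Subgroup.le_normalizer
  -- going down to a proper subgroup
  have ih_sub : ∀ (X : Subgroup G) (hLX : L ≤ X) (_ : (S : Subgroup G) ≤ X), X ≠ ⊤ →
      ∀ hLXN : L ≤ X ⊓ N,
        overCount p (Subgroup.inclusion hLX) ν = overCount p (Subgroup.inclusion hLXN) ν := by
    intro X hLX hSX hX hLXN
    let _ := Fintype.ofFinite X
    have hidx : (L.subgroupOf X).index ≤ n := by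
      show L.relIndex X ≤ n
      have h := Subgroup.relIndex_mul_index hLX
      have h1 : X.index ≠ 1 := fun h => hX (Subgroup.index_eq_one.1 h)
      have h2 : X.index ≠ 0 := Subgroup.index_ne_zero_of_finite
      have h3 : L.relIndex X ≠ 0 := fun h0 => Subgroup.index_ne_zero_of_finite (H := L.subgroupOf X) h0
      have : L.relIndex X * 2 ≤ L.index := by
        rw [← h]; exact Nat.mul_le_mul_left _ (by omega)
      omega
    have hS' : ((S.subtype hSX : Sylow p X) : Subgroup X) ≤
        inertia (L.subgroupOf X) (pullFn L X ν) := fun x hx => by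
      rw [inertia_pullFn L hLX, Subgroup.mem_subgroupOf]
      exact hSν hx
    have hNX : Subgroup.normalizer
        ((L.subgroupOf X ⊔ ((S.subtype hSX : Sylow p X) : Subgroup X) : Subgroup X) : Set X) =
        N.subgroupOf X := by
      rw [Sylow.coe_subtype, ← Subgroup.subgroupOf_sup hLX hSX,
        ← Subgroup.subgroupOf_normalizer_eq (sup_le hLX hSX)]
    have hle : L.subgroupOf X ≤ Subgroup.normalizer
        ((L.subgroupOf X ⊔ ((S.subtype hSX : Sylow p X) : Subgroup X) : Subgroup X) : Set X) := by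
      rw [hNX]; exact fun x hx => hLN hx
    rw [overCount_subgroupOf hLX, ih X (PLocal.isPSolvable_subgroup hG X) (L.subgroupOf X)
      (S.subtype hSX) (pullFn L X ν) (isIrr_pullFn L hLX hν) hS' hidx hle,
      overCount_congr_le hNX hle (fun x hx => hLN hx)]
    let e : (N.subgroupOf X : Subgroup X) ≃* (X ⊓ N : Subgroup G) :=
      { toFun := fun a => ⟨(a : X), (a : X).2, a.2⟩
        invFun := fun a => ⟨⟨a, a.2.1⟩, a.2.2⟩
        left_inv := fun _ => rfl
        right_inv := fun _ => rfl
        map_mul' := fun _ _ => rfl }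
    exact overCount_congr e (Subgroup.subgroupOfEquivOfLe hLX) (fun _ => rfl) fun _ => rfl
  have hLT : L ≤ inertia L ν :=
    le_inertia L (Chars.isClassFunction_of_isCharacter (Chars.isCharacter_of_irr hν))
  by_cases hN : N = ⊤
  · rw [overCount_congr_le hN hLN le_top, overCount_top]
  by_cases hT : inertia L ν = ⊤
  swap
  · -- the character is not invariant
    have hp1 : ¬ p ∣ (inertia L ν).index := fun h =>
      S.not_dvd_index (h.trans (Subgroup.index_dvd_of_le hSν))
    have hp2 : ¬ p ∣ (inertia L ν).relIndex N := fun h => by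
      rw [← Subgroup.inf_relIndex_right] at h
      exact S.not_dvd_index ((h.trans (Subgroup.relIndex_dvd_of_le_left N (le_inf hSν hSN))).trans
        (Dvd.intro _ (Subgroup.relIndex_mul_index hSN)))
    rw [overCount_inertia L hν rfl hLT hp1, ih_sub _ hLT hSν hT (le_inf hLT hLN),
      overCount_inertia_sub L hν hLN (le_inf hLN hLT) hp2]
    exact overCount_congr_le (inf_comm _ _) _ _ ν
  -- the character is invariant
  have hLtop : L ≠ ⊤ := fun h => hN (by
    rw [hNdef, eq_top_iff]; exact le_trans (h ▸ le_sup_left) Subgroup.le_normalizer)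
  obtain ⟨K, hK, hlt, hKstep⟩ := exists_step hG L hLtop
  haveI := hK
  have hLK : L ≤ K := hlt.le
  set B := Subgroup.normalizer ((K ⊔ (S : Subgroup G) : Subgroup G) : Set G) with hBdef
  have hKB : K ≤ B := le_sup_left.trans Subgroup.le_normalizer
  have hSB : (S : Subgroup G) ≤ B := le_sup_right.trans Subgroup.le_normalizer
  have hKtop : ∀ x : G, x ∈ Subgroup.normalizer (K : Set G) := fun x => by
    rw [Subgroup.normalizer_eq_top]; trivial
  have hNB : N ≤ B := fun x hx => by
    have h := mem_normalizer_sup (hKtop x) hx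
    rwa [← sup_assoc, sup_eq_left.2 hLK] at h
  by_cases hB : B = ⊤
  · -- the central case
    have hKSn : (K ⊔ (S : Subgroup G)).Normal := Subgroup.normalizer_eq_top_iff.1 hB
    have hrel : ¬ p ∣ L.relIndex K := by
      rcases hKstep with ⟨m, hm⟩ | h
      · exfalso
        apply hN
        have hKP : K ≤ L ⊔ (S : Subgroup G) := by
          rw [← Subgroup.relIndex_eq_one]
          have h1 : (L ⊔ (S : Subgroup G)).relIndex K ∣ p ^ m :=
            hm ▸ Subgroup.relIndex_dvd_of_le_left K le_sup_left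
          have h2 : (L ⊔ (S : Subgroup G)).relIndex K ∣ (S : Subgroup G).index := by
            rw [← PLocal.NormalizeSylow.relIndex_sup_of_normal]
            exact (Dvd.intro _ (Subgroup.relIndex_mul_index le_sup_left)).trans
              (Subgroup.index_dvd_of_le le_sup_right)
          obtain ⟨k, -, hk⟩ := (Nat.dvd_prime_pow Fact.out).1 h1
          rcases k with _ | k
          · simpa using hk
          · exact absurd ((dvd_pow_self p (Nat.succ_ne_zero k)).trans (hk ▸ h2)) S.not_dvd_index
        have he : L ⊔ (S : Subgroup G) = K ⊔ (S : Subgroup G) :=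
          le_antisymm (sup_le_sup_right hLK _) (sup_le hKP le_sup_right)
        rw [hNdef, he]
        exact hB
      · exact h
    exact step_central hcc L K hrel S hKSn hν hT hLN
  -- climbing
  let Θ := {θ : IrrCharacter K // (S : Subgroup G) ≤ inertia K (θ : K → ℂ) ∧
    Over (Subgroup.inclusion hLK) ν θ}
  let r : Setoid Θ :=
    { r := fun a b => ∃ x ∈ Subgroup.normalizer ((S : Subgroup G) : Set G),
        conjFn K x (a.1 : K → ℂ) = b.1
      iseqv :=
        { refl := fun a => ⟨1, one_mem _, conjFn_one K _⟩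
          symm := fun {a b} ⟨x, hx, h⟩ => ⟨x⁻¹, inv_mem hx, by
            rw [← h, ← conjFn_mul, mul_inv_cancel, conjFn_one]⟩
          trans := fun {a b c} ⟨x, hx, h⟩ ⟨y, hy, h'⟩ => ⟨x * y, mul_mem hx hy, by
            rw [conjFn_mul, h, h']⟩ } }
  let _ : Fintype (Quotient r) := Fintype.ofFinite _
  let θ : Quotient r → IrrCharacter K := fun i => i.out.1
  have hcov : ∀ η : IrrCharacter K, (S : Subgroup G) ≤ inertia K (η : K → ℂ) →
      Over (Subgroup.inclusion hLK) ν η →
      ∃ i, ∃ x ∈ Subgroup.normalizer ((S : Subgroup G) : Set G),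
        conjFn K x (θ i : K → ℂ) = η := fun η h1 h2 =>
    ⟨Quotient.mk r ⟨η, h1, h2⟩, Quotient.mk_out (s := r) ⟨η, h1, h2⟩⟩
  have huniq : ∀ i j, ∀ x ∈ Subgroup.normalizer ((S : Subgroup G) : Set G),
      conjFn K x (θ i : K → ℂ) = θ j → i = j := fun i j x hx h =>
    Quotient.out_equiv_out.1 (show r.r i.out j.out from ⟨x, hx, h⟩)
  have hNSB : Subgroup.normalizer ((S : Subgroup G) : Set G) ≤ B := fun x hx =>
    mem_normalizer_sup (hKtop x) hx
  rw [overCount_eq_sum L K hLK hν hT S θ (fun i => i.out.2.1) (fun i => i.out.2.2) hcov huniq,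
    Finset.sum_congr rfl (fun i _ => ih G hG K S (θ i : K → ℂ) (θ i).2 i.out.2.1 (by
      have := Subgroup.index_strictAnti hlt
      omega) hKB),
    ← overCount_eq_sum_sub hLK hν hT S hKB hNSB θ (fun i => i.out.2.1) (fun i => i.out.2.2) hcov
      huniq, ih_sub B (hLK.trans hKB) hSB hB (le_inf (hLK.trans hKB) hLN)]
  exact overCount_congr_le (inf_eq_right.2 hNB) _ _ ν

/-- Relative McKay for `p`-solvable groups, given the central case. -/
theorem relMcKay_of_central {G : Type u} [Group G] [Finite G] (p : ℕ) [Fact p.Prime]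
    (hcc : CentralCase.{u} p) (hG : IsPSolvable p G) (L : Subgroup G) [L.Normal] (S : Sylow p G)
    (P : Subgroup G) (hP : P = L ⊔ (S : Subgroup G))
    (hLN : L ≤ Subgroup.normalizer ((P : Subgroup G) : Set G)) (ν : IrrCharacter L)
    (hν : ∀ x ∈ P, IsConjCharOf L x (ν : L → ℂ) (ν : L → ℂ)) :
    Nat.card {χ : IrrCharacter G // ¬ p ∣ charDegree (χ : G → ℂ) ∧
        (∑ᶠ l : L, (χ : G → ℂ) (l : G) * (starRingEnd ℂ) ((ν : L → ℂ) l)) ≠ 0} =
      Nat.card {ψ : IrrCharacter (Subgroup.normalizer ((P : Subgroup G) : Set G)) //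
        ¬ p ∣ charDegree (ψ : Subgroup.normalizer ((P : Subgroup G) : Set G) → ℂ) ∧
        (∑ᶠ l : L, (ψ : Subgroup.normalizer ((P : Subgroup G) : Set G) → ℂ)
          (Subgroup.inclusion hLN l) * (starRingEnd ℂ) ((ν : L → ℂ) l)) ≠ 0} := by
  classical
  subst hP
  let _ := Fintype.ofFinite G
  exact relMcKay_aux hcc L.index G hG L S ν ν.2 (fun x hx => (mem_inertia L).2 fun m =>
    hν x (Subgroup.mem_sup_right hx) m (conjBy L x m) rfl) le_rfl hLN

end CfsgLib.RelMcKay
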