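import Cfsg.Agent.Lib.RelMcKay.Defs
import Cfsg.Agent.Lib.CharsMore.Clifford
import Cfsg.Agent.Lib.CharApps.Basic

/-!
# Lying over a character

Transport of `overCount`, transitivity of lying over, the Clifford correspondence and the sorting of
characters of degree prime to `p` by the invariant characters of an intermediate normal subgroup.
-/

set_option autoImplicit false
set_option linter.unusedSectionVars false
set_option linter.style.haveILetI false

open scoped ComplexConjugate Pointwise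
open Cfsg

namespace CfsgLib.RelMcKay

open CfsgLib CfsgLib.CharsMore

universe u

variable {p : ℕ}

/-- `χ` lies over `ν` along `f`. -/
def Over {X Y : Type u} [Group X] [Group Y] (f : Y →* X) (ν : Y → ℂ) (χ : X → ℂ) : Prop :=
  (∑ᶠ y, χ (f y) * conj (ν y)) ≠ 0

theorem overCount_eq {X Y : Type u} [Group X] [Finite X] [Group Y] (f : Y →* X) (ν : Y → ℂ) :
    overCount p f ν = Nat.card {χ : IrrCharacter X //
      ¬ p ∣ charDegree (χ : X → ℂ) ∧ Over f ν χ} := rfl

theorem over_iff {X Y : Type u} [Group X] [Group Y] [Fintype Y] {f : Y →* X} {ν : Y → ℂ}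
    {χ : X → ℂ} : Over f ν χ ↔ classInner (fun y => χ (f y)) ν ≠ 0 := by
  rw [Over, finsum_eq_sum_of_fintype, Chars.inner_def, mul_ne_zero_iff]
  simp

theorem Over.inner {X Y : Type u} [Group X] [Group Y] [Fintype Y] {f : Y →* X} {ν : Y → ℂ}
    {χ : X → ℂ} (h : Over f ν χ) : classInner (fun y => χ (f y)) ν ≠ 0 :=
  over_iff.1 h

/-- Transport along isomorphisms. -/
theorem overCount_congr {X Y X' Y' : Type u} [Group X] [Finite X] [Group Y] [Group X'] [Finite X']
    [Group Y'] (eX : X ≃* X') (eY : Y ≃* Y') {f : Y →* X} {f' : Y' →* X'} {ν : Y → ℂ} {ν' : Y' → ℂ}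
    (hf : ∀ y, f' (eY y) = eX (f y)) (hν : ∀ y, ν' (eY y) = ν y) :
    overCount p f ν = overCount p f' ν' := by
  let e : IrrCharacter X ≃ IrrCharacter X' :=
    { toFun := fun χ => ⟨fun x => (χ : X → ℂ) (eX.symm x),
        Chars.isIrrCharacter_comp eX.symm.toMonoidHom eX.symm.surjective χ.2⟩
      invFun := fun χ => ⟨fun x => (χ : X' → ℂ) (eX x),
        Chars.isIrrCharacter_comp eX.toMonoidHom eX.surjective χ.2⟩
      left_inv := fun χ => by ext x; simp
      right_inv := fun χ => by ext x; simp }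
  refine Nat.card_congr (Equiv.subtypeEquiv e fun χ => ?_)
  have h1 : (e χ : X' → ℂ) 1 = (χ : X → ℂ) 1 := congrArg (χ : X → ℂ) (map_one eX.symm)
  have hd : charDegree (e χ : X' → ℂ) = charDegree (χ : X → ℂ) := by rw [charDegree, charDegree, h1]
  have hs : (∑ᶠ y', (e χ : X' → ℂ) (f' y') * conj (ν' y')) =
      ∑ᶠ y, (χ : X → ℂ) (f y) * conj (ν y) := by
    rw [← finsum_comp_equiv eY.toEquiv]
    refine finsum_congr fun y => ?_
    show (χ : X → ℂ) (eX.symm (f' (eY y))) * conj (ν' (eY y)) = _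
    rw [hf, hν, eX.symm_apply_apply]
  rw [hd, hs]

theorem overCount_congr_le {G : Type u} [Group G] [Finite G] {L X X' : Subgroup G} (h : X = X')
    (hX : L ≤ X) (hX' : L ≤ X') (ν : L → ℂ) :
    overCount p (Subgroup.inclusion hX) ν = overCount p (Subgroup.inclusion hX') ν := by
  subst h; rfl

theorem overCount_top {G : Type u} [Group G] [Finite G] {L : Subgroup G} (hL : L ≤ ⊤) (ν : L → ℂ) :
    overCount p (Subgroup.inclusion hL) ν = overCount p L.subtype ν :=
  overCount_congr Subgroup.topEquiv (MulEquiv.refl _) (fun _ => rfl) fun _ => rfl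

/-- Restricted to a subgroup, a subgroup inclusion is a subtype map. -/
theorem overCount_subgroupOf {G : Type u} [Group G] [Finite G] {L X : Subgroup G} (hLX : L ≤ X)
    (ν : L → ℂ) :
    overCount p (Subgroup.inclusion hLX) ν = overCount p (L.subgroupOf X).subtype (pullFn L X ν) :=
  overCount_congr (MulEquiv.refl _) (Subgroup.subgroupOfEquivOfLe hLX).symm
    (fun _ => rfl) fun _ => rfl

/-- Lying over is transitive. -/
theorem Over.trans {X Y Z : Type u} [Group X] [Group Y] [Group Z] [Finite Y] [Finite Z]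
    {f : Y →* X} {g : Z →* Y} {χ : X → ℂ} {θ : Y → ℂ} {ν : Z → ℂ} (hχ : IsCharacter X χ)
    (hθ : IsIrrCharacter Y θ) (hν : IsCharacter Z ν) (h1 : Over f θ χ) (h2 : Over g ν θ) :
    Over (f.comp g) ν χ := by
  classical
  let _ := Fintype.ofFinite Y
  let _ := Fintype.ofFinite Z
  rw [over_iff] at h1 h2 ⊢
  have hres := Chars.isCharacter_comp f hχ
  have hθc := Chars.isCharacter_of_irr hθ
  have h := inner_restrict_ge g hres hν {⟨θ, hθ⟩}
  rw [Finset.sum_singleton] at h
  have a1 := multNat_ne_zero hres hθc h1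
  have a2 := multNat_ne_zero (Chars.isCharacter_comp g hθc) hν h2
  rw [inner_eq_multNat (Chars.isCharacter_comp (f.comp g) hχ) hν, Nat.cast_ne_zero]
  intro h0
  change multNat ((fun y => χ (f y)) ∘ g) ν = 0 at h0
  rw [h0, Nat.le_zero, mul_eq_zero] at h
  exact h.elim a1 a2

/-- Between a character and one it lies over there is an irreducible one. -/
theorem Over.exists_between {X Y Z : Type u} [Group X] [Group Y] [Group Z] [Finite Y] [Finite Z]
    {f : Y →* X} {g : Z →* Y} {χ : X → ℂ} {ν : Z → ℂ} (hχ : IsCharacter X χ)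
    (h : Over (f.comp g) ν χ) : ∃ θ : IrrCharacter Y, Over f θ χ ∧ Over g ν θ := by
  classical
  let _ := Fintype.ofFinite Y
  let _ := Fintype.ofFinite Z
  let _ := Chars.irrFintype Y
  simp only [over_iff] at h ⊢
  by_contra hno
  push Not at hno
  apply h
  have hd : (fun z => χ (f.comp g z)) = ∑ θ : IrrCharacter Y,
      classInner (fun y => χ (f y)) θ • (fun z => (θ : Y → ℂ) (g z)) := by
    funext z
    have := congrFun (Chars.classFun_eq_sum (Chars.isClassFunction_of_isCharacter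
      (Chars.isCharacter_comp f hχ))) (g z)
    simpa [Finset.sum_apply] using this
  rw [hd, Chars.inner_sum_left]
  refine Finset.sum_eq_zero fun θ _ => ?_
  rw [Chars.inner_smul_left]
  by_cases hz : classInner (fun y => χ (f y)) θ = 0
  · rw [hz, zero_mul]
  · rw [hno θ hz, mul_zero]

theorem mem_normalizer_sup {G : Type u} [Group G] {A B : Subgroup G} {x : G}
    (hA : x ∈ Subgroup.normalizer (A : Set G)) (hB : x ∈ Subgroup.normalizer (B : Set G)) :
    x ∈ Subgroup.normalizer ((A ⊔ B : Subgroup G) : Set G) := by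
  rw [Subgroup.mem_normalizer_iff_map_conj_eq] at hA hB ⊢
  rw [Subgroup.map_sup, hA, hB]

section Clifford

variable {G : Type u} [Group G] [Fintype G] (L : Subgroup G) [L.Normal] {ν : L → ℂ}

/-- The Clifford correspondence on degrees prime to `p`. -/
theorem overCount_inertia (hν : IsIrrCharacter L ν) {T : Subgroup G} (hT : T = inertia L ν)
    (hLT : L ≤ T) (hp : ¬ p ∣ T.index) [Fact p.Prime] :
    overCount p L.subtype ν = overCount p (Subgroup.inclusion hLT) ν := by
  classical
  let _ := Fintype.ofFinite T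
  let _ := Fintype.ofFinite L
  rw [overCount_eq, overCount_eq]
  have hdeg : ∀ ψ : IrrCharacter T,
      charDegree (indFun T (ψ : T → ℂ)) = T.index * charDegree (ψ : T → ℂ) := fun ψ => by
    have h := CharApps.deg_eq_of_isChar (Chars.isCharacter_indFun T (Chars.isCharacter_of_irr ψ.2))
    rw [Chars.indFun_one_apply, CharApps.deg_eq ψ] at h
    exact_mod_cast h.symm
  have hover : ∀ ψ : IrrCharacter T, Over (Subgroup.inclusion hLT) ν (ψ : T → ℂ) →
      IsIrrCharacter G (indFun T (ψ : T → ℂ)) ∧ Over L.subtype ν (indFun T (ψ : T → ℂ)) := by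
    intro ψ h
    rw [over_iff] at h ⊢
    have hi := isIrr_indFun_of_over L hLT hν hT ψ.2 h
    refine ⟨hi, ?_⟩
    have h1 : classInner (fun t : T => indFun T (ψ : T → ℂ) t) ψ ≠ 0 := by
      rw [conj_inner (Chars.isCharacter_of_irr ψ.2)
        (Chars.isCharacter_restrict T (Chars.isCharacter_of_irr hi)),
        ← Chars.inner_indFun T (ψ : T → ℂ)
          (Chars.isClassFunction_of_isCharacter (Chars.isCharacter_of_irr hi)),
        Chars.inner_irr_self ⟨_, hi⟩]
      exact one_ne_zero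
    show classInner (fun n : L => indFun T (ψ : T → ℂ) n) ν ≠ 0
    rw [← (correspondence_core L hLT hν hT ψ.2 h hi h1).2.1]
    exact h
  symm
  refine Nat.card_congr (Equiv.ofBijective
    (fun ψ => ⟨⟨indFun T (ψ.1 : T → ℂ), (hover ψ.1 ψ.2.2).1⟩, ?_, (hover ψ.1 ψ.2.2).2⟩) ⟨?_, ?_⟩)
  · show ¬ p ∣ charDegree (indFun T (ψ.1 : T → ℂ))
    rw [hdeg, (Fact.out : p.Prime).dvd_mul]
    exact not_or.2 ⟨hp, ψ.2.1⟩
  · intro ψ ψ' h
    refine Subtype.ext (Subtype.ext (indFun_injective_of_over L hLT hν hT ψ.1.2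
      (ψ.2.2).inner ψ'.1.2 (ψ'.2.2).inner ?_))
    exact congrArg (fun x => ((x.1 : IrrCharacter G) : G → ℂ)) h
  · rintro ⟨⟨χ, hχ⟩, hd, hχν⟩
    obtain ⟨ψ, hψ, hind, he, -⟩ := exists_correspondent L hLT hν hT hχ hχν.inner
    have hψν : Over (Subgroup.inclusion hLT) ν ψ := over_iff.2 (by
      show classInner (fun n : L => ψ ⟨n, hLT n.2⟩) ν ≠ 0
      rw [he]; exact hχν.inner)
    refine ⟨⟨⟨ψ, hψ⟩, fun h => hd ?_, hψν⟩, Subtype.ext (Subtype.ext hind)⟩
    show p ∣ charDegree χ
    rw [← hind, hdeg ⟨ψ, hψ⟩]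
    exact Dvd.dvd.mul_left h _

theorem inertia_pullFn {X : Subgroup G} [Fintype X] (hLX : L ≤ X) :
    inertia (L.subgroupOf X) (pullFn L X ν) = (inertia L ν).subgroupOf X := by
  ext x
  rw [Subgroup.mem_subgroupOf, mem_inertia, mem_inertia]
  exact ⟨fun h n => h ⟨⟨n, hLX n.2⟩, n.2⟩, fun h n => h ⟨(n : X), n.2⟩⟩

/-- The Clifford correspondence inside a subgroup. -/
theorem overCount_inertia_sub [Fact p.Prime] (hν : IsIrrCharacter L ν) {X : Subgroup G}
    (hLX : L ≤ X) (hLXT : L ≤ X ⊓ inertia L ν) (hp : ¬ p ∣ (inertia L ν).relIndex X) :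
    overCount p (Subgroup.inclusion hLX) ν = overCount p (Subgroup.inclusion hLXT) ν := by
  classical
  let _ := Fintype.ofFinite X
  let _ := Fintype.ofFinite L
  have hle : L.subgroupOf X ≤ (inertia L ν).subgroupOf X := fun x hx =>
    (le_inf_iff.1 hLXT).2 hx
  rw [overCount_subgroupOf hLX, overCount_inertia (L.subgroupOf X) (isIrr_pullFn L hLX hν)
    (inertia_pullFn L hLX).symm hle hp]
  let e : ((inertia L ν).subgroupOf X : Subgroup X) ≃* (X ⊓ inertia L ν : Subgroup G) :=
    { toFun := fun a => ⟨(a : X), (a : X).2, a.2⟩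
      invFun := fun a => ⟨⟨a, a.2.1⟩, a.2.2⟩
      left_inv := fun _ => rfl
      right_inv := fun _ => rfl
      map_mul' := fun _ _ => rfl }
  exact overCount_congr e (Subgroup.subgroupOfEquivOfLe hLX) (fun _ => rfl) fun _ => rfl

theorem mem_inertia_conj {θ : L → ℂ} {g s : G} (h : g * s * g⁻¹ ∈ inertia L θ) :
    s ∈ inertia L (conjFn L g θ) := by
  show conjFn L s (conjFn L g θ) = conjFn L g θ
  rw [← conjFn_mul, show g * s = g * s * g⁻¹ * g by group, conjFn_mul,
    show conjFn L (g * s * g⁻¹) θ = θ from h]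

end Clifford

section Between

variable {G : Type u} [Group G] [Fintype G] [Fact p.Prime] (L K : Subgroup G) [L.Normal] [K.Normal]
  (hLK : L ≤ K) {ν : L → ℂ} (hν : IsIrrCharacter L ν) (hinv : inertia L ν = ⊤) (S : Sylow p G)

include hν hinv

/-- An invariant constituent between. -/
theorem exists_invariant_between {χ : G → ℂ} (hχ : IsIrrCharacter G χ)
    (hd : ¬ p ∣ charDegree χ) (h : Over L.subtype ν χ) :
    ∃ θ : IrrCharacter K, (S : Subgroup G) ≤ inertia K (θ : K → ℂ) ∧ Over K.subtype θ χ ∧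
      Over (Subgroup.inclusion hLK) ν θ := by
  classical
  let _ := Fintype.ofFinite K
  let _ := Fintype.ofFinite L
  have hχc := Chars.isCharacter_of_irr hχ
  obtain ⟨θ₀, h₀, -⟩ := Over.exists_between (f := K.subtype) (g := Subgroup.inclusion hLK) hχc h
  set T := inertia K (θ₀ : K → ℂ) with hTdef
  have hTp : ¬ p ∣ T.index := by
    intro hp
    have hres := Chars.isCharacter_restrict K hχc
    have hθc := Chars.isCharacter_of_irr θ₀.2
    have h1 := clifford_degree K hχ θ₀.2 h₀.inner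
    rw [inner_eq_multNat hres hθc, CharApps.deg_eq θ₀, CharApps.deg_eq_of_isChar hχc] at h1
    exact hd ((show charDegree χ = _ * _ * _ by exact_mod_cast h1) ▸
      (hp.mul_left _).mul_right _)
  obtain ⟨R⟩ : Nonempty (Sylow p T) := inferInstance
  have hi : ¬ p ∣ ((R : Subgroup T).map T.subtype).index := by
    rw [Subgroup.index_map_subtype, (Fact.out : p.Prime).dvd_mul]
    exact not_or.mpr ⟨R.not_dvd_index, hTp⟩
  obtain ⟨g, hg⟩ := MulAction.exists_smul_eq G S ((R.2.map T.subtype).toSylow hi)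
  have hgT : ∀ s ∈ (S : Subgroup G), g * s * g⁻¹ ∈ T := by
    intro s hs
    have : g * s * g⁻¹ ∈ ((g • S : Sylow p G) : Subgroup G) := by
      rw [Sylow.coe_subgroup_smul]
      exact ⟨s, hs, rfl⟩
    rw [hg] at this
    exact Subgroup.map_subtype_le _ this
  set θ : IrrCharacter K := ⟨conjFn K g (θ₀ : K → ℂ), isIrr_conjFn K g θ₀.2⟩
  have hθ : Over K.subtype θ χ := by
    rw [over_iff]
    show classInner (fun n : K => χ n) (conjFn K g (θ₀ : K → ℂ)) ≠ 0
    rw [inner_restrict_conjFn K (Chars.isClassFunction_of_isCharacter hχc)]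
    exact h₀.inner
  refine ⟨θ, fun s hs => mem_inertia_conj K (hgT s hs), hθ, ?_⟩
  obtain ⟨φ, hφ⟩ := Chars.exists_constituent
    (Chars.isCharacter_comp (Subgroup.inclusion hLK) (Chars.isCharacter_of_irr θ.2))
    (fun h0 => Chars.irr_degree_ne_zero θ.2 (by
      have := congrFun h0 1
      simpa using this))
  have hθφ : Over (Subgroup.inclusion hLK) (φ : L → ℂ) θ := over_iff.2 hφ
  have hχφ := Over.trans hχc θ.2 (Chars.isCharacter_of_irr φ.2) hθ hθφ
  obtain ⟨x, hx⟩ := restrict_constituents_conj L hχ hν φ.2 h.inner hχφ.inner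
  have hxν : conjFn L x ν = ν := (show x ∈ inertia L ν by rw [hinv]; trivial)
  rw [show ν = (φ : L → ℂ) from hxν.symm.trans hx]
  exact hθφ

omit hν hinv in
/-- Two invariant constituents are conjugate in the normaliser. -/
theorem invariant_conj {χ : G → ℂ} (hχ : IsIrrCharacter G χ) {θ θ' : K → ℂ}
    (hθ : IsIrrCharacter K θ) (hθ' : IsIrrCharacter K θ') (hS : (S : Subgroup G) ≤ inertia K θ)
    (hS' : (S : Subgroup G) ≤ inertia K θ') (h : Over K.subtype θ χ) (h' : Over K.subtype θ' χ) :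
    ∃ n ∈ Subgroup.normalizer ((S : Subgroup G) : Set G), conjFn K n θ = θ' := by
  classical
  let _ := Fintype.ofFinite K
  obtain ⟨g, hg⟩ := restrict_constituents_conj K hχ hθ hθ' h.inner (h').inner
  have h2 : ((g⁻¹ • S : Sylow p G) : Subgroup G) ≤ inertia K θ' := by
    rw [Sylow.coe_subgroup_smul]
    rintro _ ⟨s, hs, rfl⟩
    rw [← hg]
    refine mem_inertia_conj K ?_
    convert hS hs using 1
    show g * (g⁻¹ * s * g⁻¹⁻¹) * g⁻¹ = s
    group
  obtain ⟨t, ht⟩ := MulAction.exists_smul_eq (inertia K θ') ((g⁻¹ • S).subtype h2) (S.subtype hS')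
  rw [Sylow.smul_subtype] at ht
  have ht' : ((t : G) * g⁻¹) • S = S := by
    rw [mul_smul]
    exact Sylow.subtype_injective ht
  refine ⟨g * (t : G)⁻¹, ?_, ?_⟩
  · have := inv_mem (Sylow.smul_eq_iff_mem_normalizer.1 ht')
    rwa [mul_inv_rev, inv_inv] at this
  · rw [conjFn_mul, hg]
    exact inv_mem t.2

/-- Sorting by the invariant characters of an intermediate normal subgroup. -/
theorem overCount_eq_sum {ι : Type u} [Fintype ι] (θ : ι → IrrCharacter K)
    (hθS : ∀ i, (S : Subgroup G) ≤ inertia K (θ i : K → ℂ))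
    (hθν : ∀ i, Over (Subgroup.inclusion hLK) ν (θ i))
    (hcov : ∀ η : IrrCharacter K, (S : Subgroup G) ≤ inertia K (η : K → ℂ) →
      Over (Subgroup.inclusion hLK) ν η →
      ∃ i, ∃ n ∈ Subgroup.normalizer ((S : Subgroup G) : Set G),
        conjFn K n (θ i : K → ℂ) = η)
    (huniq : ∀ i j, ∀ n ∈ Subgroup.normalizer ((S : Subgroup G) : Set G),
      conjFn K n (θ i : K → ℂ) = θ j → i = j) :
    overCount p L.subtype ν = ∑ i, overCount p K.subtype (θ i : K → ℂ) := by
  classical
  let _ := Fintype.ofFinite K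
  simp only [overCount_eq]
  rw [← Nat.card_sigma]
  symm
  refine Nat.card_congr (Equiv.ofBijective
    (fun x : Σ i, {χ : IrrCharacter G // ¬ p ∣ charDegree (χ : G → ℂ) ∧
        Over K.subtype (θ i : K → ℂ) χ} => (⟨x.2.1, x.2.2.1,
      Over.trans (Chars.isCharacter_of_irr x.2.1.2) (θ x.1).2 (Chars.isCharacter_of_irr hν)
        x.2.2.2 (hθν x.1)⟩ : {χ : IrrCharacter G // ¬ p ∣ charDegree (χ : G → ℂ) ∧
          Over L.subtype ν χ})) ⟨?_, ?_⟩)
  · rintro ⟨i, χ, hd, hi⟩ ⟨j, χ', hd', hj⟩ h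
    obtain rfl : χ = χ' := congrArg (fun x => x.1) h
    obtain ⟨n, hn, hn'⟩ := invariant_conj K S χ.2 (θ i).2 (θ j).2 (hθS i) (hθS j) hi hj
    obtain rfl := huniq i j n hn hn'
    rfl
  · rintro ⟨χ, hd, hχ⟩
    obtain ⟨η, hηS, hηχ, hην⟩ := exists_invariant_between L K hLK hν hinv S χ.2 hd hχ
    obtain ⟨i, n, hn, hi⟩ := hcov η hηS hην
    refine ⟨⟨i, χ, hd, over_iff.2 ?_⟩, rfl⟩
    show classInner (fun k : K => (χ : G → ℂ) k) (θ i : K → ℂ) ≠ 0
    rw [← inner_restrict_conjFn K (Chars.isClassFunction_irr χ) n, hi]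
    exact hηχ.inner

end Between

end CfsgLib.RelMcKay
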