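import Cfsg.Agent.Lib.RelMcKay.Parts

/-!
# One pair of corresponding characters in the central case

The normaliser side of `E : Side p Q`, and the equality of the numbers of characters of degree
prime to `p` over corresponding characters of `E.K` and of its fixed points.
-/

set_option autoImplicit false
set_option linter.unusedSectionVars false
set_option linter.style.haveILetI false

open scoped commutatorElement ComplexConjugate
open Cfsg

namespace CfsgLib.RelMcKay

open CfsgLib CfsgLib.CharsMore CfsgLib.Glauberman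

universe u

variable {p : ℕ} [Fact p.Prime] {Q : Type u} [Group Q] [Finite Q]

namespace Side

variable (E : Side p Q)

/-- The normaliser of the Sylow subgroup. -/
abbrev Nm : Subgroup Q := Subgroup.normalizer ((E.S : Subgroup Q) : Set Q)

/-- The fixed points of `S` in `K`. -/
abbrev Fix : Subgroup Q := E.K ⊓ Subgroup.centralizer ((E.S : Subgroup Q) : Set Q)

theorem fix_le : E.Fix ≤ E.K := inf_le_left

theorem inf_nm : E.K ⊓ E.Nm = E.Fix := by
  haveI := E.normalK
  refine le_antisymm (fun k hk => ⟨hk.1, Subgroup.mem_centralizer_iff.mpr fun s hs => ?_⟩)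
    (le_inf inf_le_left (inf_le_right.trans (Subgroup.centralizer_le_normalizer _)))
  have h : ⁅k, s⁆ ∈ E.K ⊓ (E.S : Subgroup Q) := by
    refine ⟨?_, ?_⟩
    · rw [show ⁅k, s⁆ = k * (s * k⁻¹ * s⁻¹) by simp [commutatorElement_def, mul_assoc]]
      exact E.K.mul_mem hk.1 (E.normalK.conj_mem _ (E.K.inv_mem hk.1) s)
    · exact (E.S : Subgroup Q).mul_mem ((Subgroup.mem_normalizer_iff.mp hk.2 s).mp hs)
        ((E.S : Subgroup Q).inv_mem hs)
  rw [E.inf_eq_bot, Subgroup.mem_bot] at h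
  exact (commutatorElement_eq_one_iff_commute.mp h).eq.symm

theorem fix_le_nm : E.Fix ≤ E.Nm := E.inf_nm.ge.trans inf_le_right

theorem nm_le_normalizer_fix : E.Nm ≤ Subgroup.normalizer (E.Fix : Set Q) := by
  haveI := E.normalK
  exact Coprime.le_normalizer_inf_inf (fun _ _ => mem_normalizer_of_normal _)
    (Coprime.le_normalizer_centralizer le_rfl)

theorem z_le_nm : E.Z ≤ E.Nm := fun z hz =>
  Subgroup.centralizer_le_normalizer _ (Subgroup.mem_centralizer_iff.mpr fun v _ =>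
    Subgroup.mem_center_iff.mp (E.central hz) v)

/-- The normaliser side. -/
noncomputable def normSide : Side p ↥E.Nm where
  Z := E.Z.subgroupOf E.Nm
  K := E.Fix.subgroupOf E.Nm
  S := E.S.subtype Subgroup.le_normalizer
  ω := E.ω.comp (Subgroup.subgroupOfEquivOfLe E.z_le_nm).toMonoidHom
  central z hz := Subgroup.mem_center_iff.mpr fun g =>
    Subtype.ext (Subgroup.mem_center_iff.mp (E.central hz) g)
  normalK := Subgroup.normal_subgroupOf_of_le_normalizer E.nm_le_normalizer_fix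
  normalKS := by
    haveI : (E.Fix.subgroupOf E.Nm).Normal :=
      Subgroup.normal_subgroupOf_of_le_normalizer E.nm_le_normalizer_fix
    rw [Sylow.coe_subtype]
    haveI : ((E.S : Subgroup Q).subgroupOf E.Nm).Normal :=
      Subgroup.normal_subgroupOf_of_le_normalizer le_rfl
    infer_instance
  not_dvd h := E.not_dvd ((h.trans (Nat.card_congr
    (Subgroup.subgroupOfEquivOfLe E.fix_le_nm).toEquiv).dvd).trans
    (Subgroup.card_dvd_of_le E.fix_le))
  le_sup z hz := by
    haveI := E.normalK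
    obtain ⟨s, hs, k, hk, e⟩ := (Coprime.mem_sup_iff_of_le_normalizer
      (fun _ _ => mem_normalizer_of_normal _)).mp
      (show (z : Q) ∈ ((E.S : Subgroup Q) ⊓ E.Z) ⊔ E.K by rw [sup_comm]; exact E.le_sup hz)
    have hkZ : k ∈ E.Z := by
      rw [show k = s⁻¹ * z by rw [← e]; group]
      exact E.Z.mul_mem (E.Z.inv_mem hs.2) hz
    have hkF : k ∈ E.Fix := ⟨hk, Subgroup.mem_centralizer_iff.mpr fun v _ =>
      Subgroup.mem_center_iff.mp (E.central hkZ) v⟩
    have hsN : s ∈ E.Nm := Subgroup.le_normalizer hs.1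
    have e' : z = (⟨s, hsN⟩ : E.Nm) * ⟨k, E.fix_le_nm hkF⟩ := Subtype.ext e.symm
    rw [e']
    refine mul_mem (Subgroup.mem_sup_right ⟨?_, hs.2⟩) (Subgroup.mem_sup_left hkF)
    show (⟨s, hsN⟩ : E.Nm) ∈ ((E.S.subtype (Subgroup.le_normalizer : (E.S : Subgroup Q) ≤ E.Nm) : Sylow p E.Nm) : Subgroup E.Nm)
    rw [Sylow.coe_subtype]
    exact hs.1
  good z hzS hzc := by
    rw [Sylow.coe_subtype] at hzS hzc
    refine E.good _ hzS ?_
    have h := Subgroup.mem_map_of_mem E.Nm.subtype hzc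
    rw [Subgroup.map_commutator, Subgroup.map_subgroupOf_eq_of_le Subgroup.le_normalizer] at h
    exact h

theorem mem_normSide_S {a : ↥E.Nm} :
    a ∈ (E.normSide.S : Subgroup ↥E.Nm) ↔ (a : Q) ∈ (E.S : Subgroup Q) := by
  show a ∈ ((E.S.subtype (Subgroup.le_normalizer : (E.S : Subgroup Q) ≤ E.Nm) : Sylow p E.Nm) : Subgroup E.Nm) ↔ _
  rw [Sylow.coe_subtype, Subgroup.mem_subgroupOf]

theorem map_normSide_D : E.normSide.D.map E.Nm.subtype = E.D := by
  have hS : ((E.normSide.S : Sylow p E.Nm) : Subgroup E.Nm) =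
      (E.S : Subgroup Q).subgroupOf E.Nm :=
    Sylow.coe_subtype E.S Subgroup.le_normalizer
  have hZ : E.normSide.Z = E.Z.subgroupOf E.Nm := rfl
  simp only [Side.D]
  rw [hS, hZ, Subgroup.map_sup, Subgroup.map_commutator,
    Subgroup.map_inf _ _ _ E.Nm.subtype_injective,
    Subgroup.map_subgroupOf_eq_of_le (Subgroup.le_normalizer : (E.S : Subgroup Q) ≤ E.Nm),
    Subgroup.map_subgroupOf_eq_of_le E.z_le_nm]

theorem mem_normSide_M {a : ↥E.Nm} : a ∈ E.normSide.M ↔ (a : Q) ∈ E.M := by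
  have hmap : E.normSide.M.map E.Nm.subtype = E.Fix ⊔ E.D := by
    show (E.Fix.subgroupOf E.Nm ⊔ E.normSide.D).map E.Nm.subtype = _
    rw [Subgroup.map_sup, E.map_normSide_D, Subgroup.map_subgroupOf_eq_of_le E.fix_le_nm]
  rw [← Subgroup.mem_map_iff_mem E.Nm.subtype_injective, hmap, E.Nm.coe_subtype]
  refine ⟨fun h => sup_le_sup_right E.fix_le _ h, fun h => ?_⟩
  haveI := E.normalK
  obtain ⟨d, hd, k, hk, e⟩ := (Coprime.mem_sup_iff_of_le_normalizer
    (fun _ _ => mem_normalizer_of_normal _)).mp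
    (show (a : Q) ∈ E.D ⊔ E.K by rw [sup_comm]; exact h)
  rw [← e]
  refine mul_mem (Subgroup.mem_sup_right hd) (Subgroup.mem_sup_left (E.inf_nm.le ⟨hk, ?_⟩))
  rw [show k = d⁻¹ * a by rw [← e]; group]
  exact E.Nm.mul_mem (E.Nm.inv_mem (Subgroup.le_normalizer (E.D_le hd))) a.2

theorem invBy_conj {n : Q} (hn : n ∈ E.Nm) {θ θ' : E.K → ℂ} (h : InvBy (E.S : Subgroup Q) E.K θ)
    (hc : ConjRel n E.K θ θ') : InvBy (E.S : Subgroup Q) E.K θ' := by
  intro s hs g g' e
  have h1 : n⁻¹ * g * n ∈ E.K := by simpa using E.normalK.conj_mem _ g.2 n⁻¹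
  have h2 : n⁻¹ * g' * n ∈ E.K := by simpa using E.normalK.conj_mem _ g'.2 n⁻¹
  rw [hc ⟨_, h1⟩ g (by simp [mul_assoc]), hc ⟨_, h2⟩ g' (by simp [mul_assoc])]
  exact h (n⁻¹ * s * n) ((Subgroup.mem_normalizer_iff''.mp hn s).mp hs) ⟨_, h1⟩ ⟨_, h2⟩
    (by show n⁻¹ * (g' : Q) * n = _; rw [e]; group)

theorem le_normalizerK : (E.S : Subgroup Q) ≤ Subgroup.normalizer (E.K : Set Q) := fun s _ => by
  haveI := E.normalK
  exact mem_normalizer_of_normal s

/-- The correspondence commutes with conjugation by the normaliser. -/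
theorem corr_equivariant {n : Q} (hn : n ∈ E.Nm) {θ θ' : IrrCharacter E.K}
    {β β' : IrrCharacter E.Fix} (hθ : InvBy (E.S : Subgroup Q) E.K (θ : E.K → ℂ))
    (hθ' : InvBy (E.S : Subgroup Q) E.K (θ' : E.K → ℂ))
    (h : Corr p E.fix_le (θ : E.K → ℂ) (β : E.Fix → ℂ))
    (h' : Corr p E.fix_le (θ' : E.K → ℂ) (β' : E.Fix → ℂ)) :
    ConjRel n E.K (θ : E.K → ℂ) θ' ↔ ConjRel n E.Fix (β : E.Fix → ℂ) β' := by
  haveI := E.normalK
  have hnC := E.nm_le_normalizer_fix hn
  have hp := corr_props E.le_normalizerK E.not_dvd E.S.2 (rfl : E.Fix = _) E.fix_le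
  constructor
  · intro hc
    obtain ⟨β'', hβ''⟩ := exists_conjIrr hnC β
    have h'' := corr_conj E.fix_le hnC hc hβ'' h
    obtain rfl := hp.2.1 θ' β'' β' hθ' h'' h'
    exact hβ''
  · intro hc
    obtain ⟨θ'', hθ''⟩ := exists_conjIrr (mem_normalizer_of_normal n) θ
    have h'' := corr_conj E.fix_le hnC hθ'' hc h
    obtain rfl := hp.2.2.1 θ'' θ' β' (E.invBy_conj hn hθ hθ'') hθ' h'' h'
    exact hθ''

theorem fixes_iff {k l : ℕ} (ρ : Representation ℂ E.K (Fin k → ℂ)) [ρ.IsIrreducible]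
    (σ : Representation ℂ E.Fix (Fin l → ℂ)) [σ.IsIrreducible]
    (hS : ∀ s ∈ (E.S : Subgroup Q), Fixes ρ s) (h : Corr p E.fix_le ρ.character σ.character)
    {n : Q} (hn : n ∈ E.Nm) : Fixes σ n ↔ Fixes ρ n := by
  haveI := E.normalK
  have hinv : InvBy (E.S : Subgroup Q) E.K ρ.character := fun s hs g g' e => by
    obtain ⟨T, hT⟩ := (hS s hs).2
    exact hT.character_eq e
  have key := E.corr_equivariant hn (θ := ⟨_, Chars.isIrrCharacter_character ρ⟩)
    (θ' := ⟨_, Chars.isIrrCharacter_character ρ⟩) (β := ⟨_, Chars.isIrrCharacter_character σ⟩)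
    (β' := ⟨_, Chars.isIrrCharacter_character σ⟩) hinv hinv h h
  constructor
  · rintro ⟨-, T, hT⟩
    exact fixes_of_character (mem_normalizer_of_normal n) (key.mpr fun g g' e => hT.character_eq e)
  · rintro ⟨-, T, hT⟩
    exact fixes_of_character (E.nm_le_normalizer_fix hn)
      (key.mp fun g g' e => hT.character_eq e)

open scoped Classical in
/-- The equality for one pair. -/
theorem card_pair_eq {k l : ℕ} (ρ : Representation ℂ E.K (Fin k → ℂ)) [ρ.IsIrreducible]
    (σ : Representation ℂ E.Fix (Fin l → ℂ)) [σ.IsIrreducible]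
    (hS : ∀ s ∈ (E.S : Subgroup Q), Fixes ρ s)
    (hρω : E.Compat ρ.character) (hσω : E.normSide.Compat
      (fun x => σ.character (Subgroup.subgroupOfEquivOfLe E.fix_le_nm x)))
    (hcorr : Corr p E.fix_le ρ.character σ.character) :
    Nat.card {χ : IrrCharacter Q // ¬ p ∣ charDegree (χ : Q → ℂ) ∧
        Over E.Z.subtype (fun z => (E.ω z : ℂ)) (χ : Q → ℂ) ∧
        Over E.K.subtype ρ.character (χ : Q → ℂ)} =
      Nat.card {χ : IrrCharacter ↥E.Nm // ¬ p ∣ charDegree (χ : ↥E.Nm → ℂ) ∧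
        Over E.normSide.Z.subtype (fun z => (E.normSide.ω z : ℂ)) (χ : ↥E.Nm → ℂ) ∧
        Over E.normSide.K.subtype
          (fun x => σ.character (Subgroup.subgroupOfEquivOfLe E.fix_le_nm x))
          (χ : ↥E.Nm → ℂ)} := by
  haveI := E.normalK
  haveI := E.normalM
  haveI := E.normSide.normalK
  haveI := E.normSide.normalM
  set e : ↥E.normSide.K ≃* ↥E.Fix := Subgroup.subgroupOfEquivOfLe E.fix_le_nm
  have he : ∀ h, ((e h : E.Fix) : Q) = E.Nm.subtype (h : ↥E.Nm) := fun h => rfl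
  let σ' : Representation ℂ E.normSide.K (Fin l → ℂ) := σ.comp e.toMonoidHom
  haveI : σ'.IsIrreducible := Chars.isIrreducible_comp e.toMonoidHom e.surjective σ
  have hfixσ : ∀ n : ↥E.Nm, Fixes σ' n ↔ Fixes ρ (n : Q) := fun n =>
    (fixes_map_iff E.Nm.subtype e he σ E.Nm.subtype_injective).trans
      (E.fixes_iff ρ σ hS hcorr n.2)
  have hS' : ∀ s ∈ (E.normSide.S : Subgroup ↥E.Nm), Fixes σ' s := fun s hs =>
    (hfixσ s).mpr (hS _ (E.mem_normSide_S.mp hs))
  obtain ⟨R, hRirr, hRK, hRfix, hRS, hRiff⟩ :=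
    E.exists_ext ρ hS (fun z hz => E.rep_of_compat ρ hρω z hz)
  obtain ⟨R', hR'irr, hR'K, hR'fix, hR'S, hR'iff⟩ :=
    E.normSide.exists_ext σ' hS' (fun z hz => E.normSide.rep_of_compat σ' hσω z hz)
  haveI := hRirr
  haveI := hR'irr
  haveI := Fintype.ofFinite Q
  haveI := Fintype.ofFinite E.M
  haveI := Fintype.ofFinite E.normSide.M
  haveI := Fintype.ofFinite (fixSub R)
  haveI := Fintype.ofFinite (fixSub R')
  -- the two counts as counts over the extensions
  refine (Nat.card_congr (Equiv.subtypeEquivRight fun χ =>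
    (hRiff χ).trans (over_iff (f := E.M.subtype)))).trans (Eq.trans ?_
      (Nat.card_congr (Equiv.subtypeEquivRight fun χ =>
        (hR'iff χ).trans (over_iff (f := E.normSide.M.subtype)))).symm)
  simp only [Subgroup.coe_subtype]
  have cQ := card_over_stab R
  have cN := card_over_stab R'
  set nQ := Nat.card {χ : IrrCharacter Q //
    classInner (fun m : E.M => (χ : Q → ℂ) m) R.character ≠ 0}
  set nN := Nat.card {χ : IrrCharacter ↥E.Nm //
    classInner (fun m : E.normSide.M => (χ : ↥E.Nm → ℂ) m) R'.character ≠ 0}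
  -- the pairings
  have hkap : ∀ g x : ↥E.Nm, Fixes σ' g → Fixes σ' x → ⁅g, x⁆ ∈ E.normSide.M →
      kap R (g : Q) (x : Q) = kap R' g x := by
    intro g x hg hx hc
    have hc' : ⁅(g : Q), (x : Q)⁆ ∈ E.M := by
      have h := E.mem_normSide_M.mp hc
      rwa [show ((⁅g, x⁆ : ↥E.Nm) : Q) = ⁅(g : Q), (x : Q)⁆ from
        map_commutatorElement E.Nm.subtype g x] at h
    have hgR := (hRfix _).mpr ((hfixσ g).mp hg)
    have hxR := (hRfix _).mpr ((hfixσ x).mp hx)
    have hgR' := (hR'fix _).mpr hg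
    have hxR' := (hR'fix _).mpr hx
    obtain ⟨a, b, ea, hga, hgb⟩ := exists_pow_split (p := p) g
    obtain ⟨a', b', ea', hxa, hxb⟩ := exists_pow_split (p := p) x
    have inS : ∀ (y : ↥E.Nm), (∃ i : ℕ, y ^ p ^ i = 1) → (y : Q) ∈ (E.S : Subgroup Q) := by
      intro y hy
      obtain ⟨i, hi⟩ := hy
      have hpg : IsPGroup p (Subgroup.zpowers (y : Q)) := by
        have hd : orderOf (y : Q) ∣ p ^ i := orderOf_dvd_of_pow_eq_one (by
          rw [← SubmonoidClass.coe_pow, hi, Subgroup.coe_one])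
        obtain ⟨j, -, hj⟩ := (Nat.dvd_prime_pow (Fact.out : p.Prime)).mp hd
        exact IsPGroup.of_card (n := j) (by rw [Nat.card_zpowers, hj])
      have hsup := hpg.to_sup_of_normal_right' E.S.2 (Subgroup.zpowers_le.mpr y.2)
      have := E.S.3 hsup le_sup_right
      exact this ▸ Subgroup.mem_sup_left (Subgroup.mem_zpowers _)
    have hp1 : kap R ((g : Q) ^ a) ((x : Q) ^ a') = 1 := by
      rw [← SubmonoidClass.coe_pow, ← SubmonoidClass.coe_pow]
      exact hRS _ (inS _ hga) _ (inS _ hxa)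
    have hp2 : kap R' (g ^ a) (x ^ a') = 1 :=
      hR'S _ (E.mem_normSide_S.mpr (inS _ hga)) _ (E.mem_normSide_S.mpr (inS _ hxa))
    have k2 := kap_eq_prime_part hgR' hxR' hc ea ea' hga hgb hxa hxb hp2
    have k1 := kap_eq_prime_part (p := p) hgR hxR hc' (a := a) (b := b) (a' := a') (b' := b')
      (by have := congrArg Subtype.val ea; simpa using this)
      (by have := congrArg Subtype.val ea'; simpa using this)
      (by obtain ⟨i, hi⟩ := hga; exact ⟨i, by have := congrArg Subtype.val hi; simpa using this⟩)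
      (by rwa [← SubmonoidClass.coe_pow, Subgroup.orderOf_coe])
      (by obtain ⟨i, hi⟩ := hxa; exact ⟨i, by have := congrArg Subtype.val hi; simpa using this⟩)
      (by rwa [← SubmonoidClass.coe_pow, Subgroup.orderOf_coe]) hp1
    have hcb : ⁅g ^ b, x ^ b'⁆ ∈ E.normSide.M := by
      have h2 : ⁅x, g ^ b⁆ ∈ E.normSide.M := by
        rw [← commutatorElement_inv]
        exact E.normSide.M.inv_mem (commutator_pow_mem hgR'.1 hc b)
      rw [← commutatorElement_inv]
      exact E.normSide.M.inv_mem (commutator_pow_mem hxR'.1 h2 b')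
    haveI : E.normSide.D.Normal := by
      rw [← Subgroup.normalizer_eq_top_iff, eq_top_iff]
      intro y _
      refine E.normSide.mem_normalizer_D ?_
      haveI := Fintype.ofFinite ↥E.Nm
      refine Subgroup.mem_normalizer_fintype fun s hs => ?_
      rw [SetLike.mem_coe, E.mem_normSide_S] at hs ⊢
      exact (Subgroup.mem_normalizer_iff.mp y.2 _).mp hs
    obtain ⟨d, hd, d', hd', hu, hv, huv⟩ := exists_adjust
      (C := E.normSide.K) (D := E.normSide.D) (E.normSide.S.2.to_le E.normSide.D_le)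
      E.normSide.not_dvd hgb hxb hcb
    have hdM : d ∈ E.normSide.M := Subgroup.mem_sup_right hd
    have hdM' : d' ∈ E.normSide.M := Subgroup.mem_sup_right hd'
    have hgb' : Fixes R' (g ^ b) := hgR'.pow b
    have hxb' : Fixes R' (x ^ b') := hxR'.pow b'
    have j2 := (kap_coset hgb' hxb' hcb hdM hdM').2
    have hu' : Fixes R' (g ^ b * d) := hgb'.mul (fixes_of_mem hdM)
    have hv' : Fixes R' (x ^ b' * d') := hxb'.mul (fixes_of_mem hdM')
    have j4 := kap_of_extension (ρ := σ') (σ := R') (M := E.normSide.M) (show E.normSide.K ≤ E.normSide.M from le_sup_left)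
      hR'K (mem_normalizer_of_normal _) (mem_normalizer_of_normal _) hu' hv' huv
    have hcbQ : ⁅((g ^ b : ↥E.Nm) : Q), ((x ^ b' : ↥E.Nm) : Q)⁆ ∈ E.M := by
      have h := E.mem_normSide_M.mp hcb
      rwa [show ((⁅g ^ b, x ^ b'⁆ : ↥E.Nm) : Q) =
        ⁅((g ^ b : ↥E.Nm) : Q), ((x ^ b' : ↥E.Nm) : Q)⁆ from
        map_commutatorElement E.Nm.subtype _ _] at h
    have hgbQ : Fixes R ((g ^ b : ↥E.Nm) : Q) := by
      rw [SubmonoidClass.coe_pow]; exact hgR.pow b
    have hxbQ : Fixes R ((x ^ b' : ↥E.Nm) : Q) := by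
      rw [SubmonoidClass.coe_pow]; exact hxR.pow b'
    have j1 := (kap_coset hgbQ hxbQ hcbQ (E.mem_normSide_M.mp hdM) (E.mem_normSide_M.mp hdM')).2
    rw [← Subgroup.coe_mul, ← Subgroup.coe_mul] at j1
    have huvQ : ⁅((g ^ b * d : ↥E.Nm) : Q), ((x ^ b' * d' : ↥E.Nm) : Q)⁆ ∈ E.Fix := by
      rw [← show ((⁅g ^ b * d, x ^ b' * d'⁆ : ↥E.Nm) : Q) =
        ⁅((g ^ b * d : ↥E.Nm) : Q), ((x ^ b' * d' : ↥E.Nm) : Q)⁆ from
        map_commutatorElement E.Nm.subtype _ _]
      exact huv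
    have huρ := (hfixσ _).mp ((hR'fix _).mp hu')
    have hvρ := (hfixσ _).mp ((hR'fix _).mp hv')
    have huσ := (E.fixes_iff ρ σ hS hcorr (g ^ b * d).2).mpr huρ
    have hvσ := (E.fixes_iff ρ σ hS hcorr (x ^ b' * d').2).mpr hvρ
    have j3 := kap_of_extension (ρ := ρ) (σ := R) (M := E.M) (show E.K ≤ E.M from le_sup_left) hRK
      (mem_normalizer_of_normal _) (mem_normalizer_of_normal _) ((hRfix _).mpr huρ)
      ((hRfix _).mpr hvρ) (E.fix_le huvQ)
    have j5 := kap_eq_of_corr (p := p) (E.S : Subgroup Q) E.K E.Fix k l E.le_normalizerK E.not_dvd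
      E.S.2 rfl E.fix_le ρ σ hcorr hS _ _ huρ hvρ huσ hvσ (g ^ b * d).2 (x ^ b' * d').2
      (by rwa [Subgroup.orderOf_coe]) (by rwa [Subgroup.orderOf_coe]) huvQ
    have j6 : kap σ' (g ^ b * d) (x ^ b' * d') =
        kap σ ((g ^ b * d : ↥E.Nm) : Q) ((x ^ b' * d' : ↥E.Nm) : Q) :=
      kap_map E.Nm.subtype e he σ E.Nm.subtype_injective huσ hvσ huv
    exact k1.trans (((congrArg₂ (kap R) (SubmonoidClass.coe_pow g b)
      (SubmonoidClass.coe_pow x b')).symm.trans j1.symm).trans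
      (j3.symm.trans (j5.trans (j6.symm.trans (j4.trans (j2.trans k2.symm))))))
  -- reindexing
  set T' := fixSub R ⊓ E.Nm
  have hKT : E.K ≤ (fixSub R) := fun a ha => fixes_of_mem (Subgroup.mem_sup_left ha)
  have hCT : E.Fix = E.K ⊓ T' := by
    rw [← inf_assoc, inf_eq_left.mpr hKT]
    exact E.inf_nm.symm
  have hdecT : ∀ t ∈ (fixSub R), ∃ n ∈ T', ∃ a ∈ E.K, t = n * a := by
    intro t ht
    obtain ⟨a, ha, n, hn, rfl⟩ := E.frattini t
    have hnT : n ∈ (fixSub R) := by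
      have := (fixSub R).mul_mem ((fixSub R).inv_mem (hKT ha)) ht
      rwa [inv_mul_cancel_left] at this
    refine ⟨n, ⟨hnT, hn⟩, n⁻¹ * a * n, ?_, by group⟩
    simpa using E.normalK.conj_mem a ha n⁻¹
  let F : Q → Q → ℂ := fun g x => if ⁅g, x⁆ ∈ E.M then conj (kap R g x)⁻¹ else 0
  have hFc : ∀ g ∈ (fixSub R), ∀ x ∈ (fixSub R), ∀ a ∈ E.K, ∀ c ∈ E.K, F (g * a) (x * c) = F g x := by
    intro g hg x hx a ha c hc
    have ha' : a ∈ E.M := Subgroup.mem_sup_left ha
    have hc' : c ∈ E.M := Subgroup.mem_sup_left hc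
    by_cases h : ⁅g, x⁆ ∈ E.M
    · obtain ⟨h', e'⟩ := kap_coset hg hx h ha' hc'
      simp only [F, if_pos h, if_pos h', e']
    · have h' : ¬ ⁅g * a, x * c⁆ ∈ E.M := fun h' => h (by
        have hga : Fixes R (g * a) := (fixSub R).mul_mem hg (hKT ha)
        have hxc : Fixes R (x * c) := (fixSub R).mul_mem hx (hKT hc)
        have := (kap_coset hga hxc h' (E.M.inv_mem ha') (E.M.inv_mem hc')).1
        simpa using this)
      simp only [F, if_neg h, if_neg h']
  haveI := Fintype.ofFinite T'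
  have hsum : (Nat.card E.Fix : ℂ) ^ 2 * ∑ g : (fixSub R), ∑ x : (fixSub R), F g x =
      (Nat.card E.K : ℂ) ^ 2 * ∑ g : T', ∑ x : T', F g x := by
    have inner : ∀ g ∈ (fixSub R), (Nat.card E.Fix : ℂ) * ∑ x : (fixSub R), F g x =
        (Nat.card E.K : ℂ) * ∑ x : T', F g x := by
      intro g hg
      have := sum_coset_reindex hKT inf_le_left hCT hdecT (fun x => F g x) (fun x hx c hc => by
        simpa using hFc g hg x hx 1 (one_mem _) c hc)
      simpa [nsmul_eq_mul] using this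
    have outer := sum_coset_reindex hKT inf_le_left hCT hdecT (fun g => ∑ x : T', F g x)
      (fun g hg a ha => Finset.sum_congr rfl fun x _ => by
        simpa using hFc g hg x x.2.1 a ha 1 (one_mem _))
    simp only [nsmul_eq_mul] at outer
    rw [pow_two, mul_assoc, Finset.mul_sum]
    rw [Finset.sum_congr rfl fun (g : (fixSub R)) _ => inner (g : Q) g.2, ← Finset.mul_sum,
      mul_left_comm, outer, ← mul_assoc, ← pow_two]
  have hTe : ∀ a : ↥E.Nm, a ∈ fixSub R' ↔ (a : Q) ∈ (fixSub R) := fun a =>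
    ((hR'fix a).trans (hfixσ a)).trans (hRfix _).symm
  let eT : T' ≃ fixSub R' :=
    { toFun := fun a => ⟨⟨a, a.2.2⟩, (hTe _).mpr a.2.1⟩
      invFun := fun a => ⟨((a : ↥E.Nm) : Q), (hTe _).mp a.2, (a : ↥E.Nm).2⟩
      left_inv := fun _ => rfl
      right_inv := fun _ => rfl }
  have hF' : ∑ g : T', ∑ x : T', F g x = ∑ g : fixSub R', ∑ x : fixSub R',
      if ⁅(g : ↥E.Nm), (x : ↥E.Nm)⁆ ∈ E.normSide.M then conj (kap R' g x)⁻¹ else 0 := by
    refine Fintype.sum_equiv eT _ _ fun g => Fintype.sum_equiv eT _ _ fun x => ?_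
    have hiff : ⁅((eT g : fixSub R') : ↥E.Nm), ((eT x : fixSub R') : ↥E.Nm)⁆ ∈ E.normSide.M ↔
        ⁅(g : Q), (x : Q)⁆ ∈ E.M := by
      rw [E.mem_normSide_M]
      have : ((⁅((eT g : fixSub R') : ↥E.Nm), ((eT x : fixSub R') : ↥E.Nm)⁆ : ↥E.Nm) : Q) =
          ⁅(g : Q), (x : Q)⁆ := map_commutatorElement E.Nm.subtype _ _
      rw [this]
    simp only [F]
    by_cases h : ⁅(g : Q), (x : Q)⁆ ∈ E.M
    · rw [if_pos h, if_pos (hiff.mpr h),
        ← hkap _ _ ((hR'fix _).mp (eT g).2) ((hR'fix _).mp (eT x).2) (hiff.mpr h)]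
      rfl
    · rw [if_neg h, if_neg fun h' => h (hiff.mp h')]
  have hTcard : (Nat.card E.Fix : ℂ) * Nat.card (fixSub R) = (Nat.card E.K : ℂ) * Nat.card (fixSub R') := by
    rw [← Nat.card_congr eT]
    exact_mod_cast card_coset_reindex hKT inf_le_left hCT hdecT
  have hMcard : (Nat.card E.Fix : ℂ) * Nat.card E.M =
      (Nat.card E.K : ℂ) * Nat.card E.normSide.M := by
    let eM : (E.M ⊓ E.Nm : Subgroup Q) ≃ E.normSide.M :=
      { toFun := fun a => ⟨⟨a, a.2.2⟩, E.mem_normSide_M.mpr a.2.1⟩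
        invFun := fun a => ⟨((a : ↥E.Nm) : Q), E.mem_normSide_M.mp a.2, (a : ↥E.Nm).2⟩
        left_inv := fun _ => rfl
        right_inv := fun _ => rfl }
    rw [← Nat.card_congr eM]
    have hKM : E.K ≤ E.M := le_sup_left
    have hC : E.Fix = E.K ⊓ (E.M ⊓ E.Nm) := by
      rw [← inf_assoc, inf_eq_left.mpr hKM]
      exact E.inf_nm.symm
    have hdec : ∀ m ∈ E.M, ∃ n ∈ E.M ⊓ E.Nm, ∃ a ∈ E.K, m = n * a := by
      intro m hm
      obtain ⟨d, hd, a, ha, e'⟩ := (Coprime.mem_sup_iff_of_le_normalizer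
        (fun _ _ => mem_normalizer_of_normal _)).mp
        (show m ∈ E.D ⊔ E.K by rw [sup_comm]; exact hm)
      exact ⟨d, ⟨Subgroup.mem_sup_right hd, Subgroup.le_normalizer (E.D_le hd)⟩, a, ha, e'.symm⟩
    exact_mod_cast card_coset_reindex hKM inf_le_left hC hdec
  have main : (nQ : ℂ) * ((Nat.card E.K : ℂ) * Nat.card (fixSub R')) *
      ((Nat.card E.K : ℂ) * Nat.card E.normSide.M) =
      (nN : ℂ) * ((Nat.card E.K : ℂ) * Nat.card (fixSub R')) *
        ((Nat.card E.K : ℂ) * Nat.card E.normSide.M) := by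
    conv_lhs => rw [← hTcard, ← hMcard]
    have cQ' : (nQ : ℂ) * (Nat.card (fixSub R) : ℂ) * (Nat.card E.M : ℂ) = ∑ g : (fixSub R), ∑ x : (fixSub R), F g x := cQ
    rw [← hF'] at cN
    linear_combination (Nat.card E.Fix : ℂ) ^ 2 * cQ' + hsum - (Nat.card E.K : ℂ) ^ 2 * cN
  have := mul_right_cancel₀
    (mul_ne_zero (Chars.card_ne_zero E.K) (Chars.card_ne_zero E.normSide.M)) main
  exact_mod_cast mul_right_cancel₀
    (mul_ne_zero (Chars.card_ne_zero E.K) (Chars.card_ne_zero (fixSub R'))) this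

end Side

end CfsgLib.RelMcKay
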