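import Cfsg.Agent.Lib.RelMcKay.Corr
import Cfsg.Agent.Lib.RelMcKay.Count
import Cfsg.Agent.Lib.Coprime.Action2

/-!
# Corresponding characters have equal pairings

For commuting-modulo-`C` elements `g`, `x` of order prime to `p` normalising the `p`-group `S`, the
pairings of Glauberman correspondents agree: induct on `S`, using that a commutative group of order
prime to `p` acting irreducibly on an abelian layer of `S` is cyclic.
-/

set_option autoImplicit false
set_option linter.unusedSectionVars false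
set_option linter.style.haveILetI false

open scoped commutatorElement ComplexConjugate IsMulCommutative
open Cfsg

namespace CfsgLib.RelMcKay

open CfsgLib CfsgLib.Glauberman

universe u

section Aut

variable {W : Type u} [CommGroup W] [Finite W] [Nontrivial W]

/-- Two commuting automorphisms of coprime order acting irreducibly on an abelian group are powers
of one element of the group they generate. -/
theorem exists_pow_of_irreducible (X Y : MulAut W) (hXY : Commute X Y)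
    (hX : (orderOf X).Coprime (Nat.card W)) (hY : (orderOf Y).Coprime (Nat.card W))
    (hirr : ∀ U : Subgroup W, (∀ w ∈ U, X w ∈ U) → (∀ w ∈ U, Y w ∈ U) → U = ⊥ ∨ U = ⊤) :
    ∃ (Z : MulAut W) (a b : ℕ), Z ∈ Subgroup.closure ({X, Y} : Set (MulAut W)) ∧
      X = Z ^ a ∧ Y = Z ^ b := by
  haveI : IsMulCommutative (Subgroup.closure ({X, Y} : Set (MulAut W))) := by
    refine Subgroup.isMulCommutative_closure ?_
    rintro a (rfl | rfl) b (rfl | rfl)
    exacts [rfl, hXY.eq, hXY.eq.symm, rfl]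
  have hXm : X ∈ Subgroup.closure ({X, Y} : Set (MulAut W)) := Subgroup.subset_closure (by simp)
  have hYm : Y ∈ Subgroup.closure ({X, Y} : Set (MulAut W)) := Subgroup.subset_closure (by simp)
  by_cases hcyc : IsCyclic (Subgroup.closure ({X, Y} : Set (MulAut W)))
  · obtain ⟨Z, hZ⟩ := hcyc.exists_generator
    obtain ⟨a, ha⟩ := Submonoid.mem_powers_iff _ _ |>.mp (mem_powers_iff_mem_zpowers.mpr (hZ ⟨X, hXm⟩))
    obtain ⟨b, hb⟩ := Submonoid.mem_powers_iff _ _ |>.mp (mem_powers_iff_mem_zpowers.mpr (hZ ⟨Y, hYm⟩))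
    exact ⟨Z, a, b, Z.2, (congrArg Subtype.val ha).symm, (congrArg Subtype.val hb).symm⟩
  · exfalso
    obtain ⟨q, a, b, hq, haq, hbq, hb1, hab⟩ := Coprime.exists_pair_of_not_isCyclic hcyc
    set A : MulAut W := a.1 with hA
    set B : MulAut W := b.1 with hB
    have hcop : q.Coprime (Nat.card W) := by
      have hbo : orderOf B = q := by
        haveI := Fact.mk hq
        refine orderOf_eq_prime ?_ fun h => hb1 (Subtype.ext h)
        rw [hB, ← SubmonoidClass.coe_pow, hbq]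
        rfl
      have hdvd : orderOf B ∣ orderOf X * orderOf Y := by
        apply orderOf_dvd_of_pow_eq_one
        have hle : Subgroup.closure ({X, Y} : Set (MulAut W)) ≤
            Subgroup.zpowers X ⊔ Subgroup.zpowers Y := by
          rw [Subgroup.closure_le]
          rintro z (rfl | rfl)
          exacts [Subgroup.mem_sup_left (Subgroup.mem_zpowers _),
            Subgroup.mem_sup_right (Subgroup.mem_zpowers _)]
        have hYN : Y ∈ Subgroup.normalizer (Subgroup.zpowers X : Set (MulAut W)) :=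
          Subgroup.centralizer_le_normalizer _ (Subgroup.mem_centralizer_iff.mpr fun z hz => by
            obtain ⟨i, rfl⟩ := hz
            exact (hXY.zpow_left i).eq)
        obtain ⟨h, hh, i, hi⟩ := mem_sup_zpowers hYN (hle b.2)
        obtain ⟨j, rfl⟩ := hh
        rw [show B = X ^ j * Y ^ i from hi, (((hXY.zpow_left j).pow_right i)).mul_pow, pow_mul,
          ← zpow_natCast (X ^ j), ← zpow_mul, mul_comm j, zpow_mul, zpow_natCast,
          pow_orderOf_eq_one, one_zpow, one_pow, one_mul, ← pow_mul,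
          mul_comm (orderOf X), ← mul_assoc, mul_comm i, mul_assoc, pow_mul, pow_orderOf_eq_one,
          one_pow]
      exact Nat.Coprime.coprime_dvd_left (hbo ▸ hdvd) (hX.mul_left hY)
    have hinj : ∀ w : W, w ^ q = 1 → w = 1 := fun w hw => by
      have h2 : orderOf w ∣ 1 := hcop.gcd_eq_one ▸
        Nat.dvd_gcd (orderOf_dvd_of_pow_eq_one hw) (orderOf_dvd_natCard w)
      exact orderOf_eq_one_iff.mp (Nat.dvd_one.mp h2)
    have hfix : ∀ c : Subgroup.closure ({X, Y} : Set (MulAut W)), c ≠ 1 → ∀ w, (c : MulAut W) w = w →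
        w = 1 := by
      intro c hc
      set U := MonoidHom.eqLocus (c : MulAut W).toMonoidHom (MonoidHom.id W)
      have key : ∀ Z ∈ Subgroup.closure ({X, Y} : Set (MulAut W)), ∀ w ∈ U, Z w ∈ U := by
        intro Z hZ w (hw : (c : MulAut W) w = w)
        show (c : MulAut W) (Z w) = Z w
        rw [← MulAut.mul_apply, show (c : MulAut W) * Z = Z * c from
          congrArg Subtype.val (mul_comm' c (⟨Z, hZ⟩ : Subgroup.closure ({X, Y} : Set (MulAut W)))),
          MulAut.mul_apply, hw]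
      rcases hirr U (key X hXm) (key Y hYm) with h | h
      · intro w hw
        have : w ∈ U := hw
        rwa [h, Subgroup.mem_bot] at this
      · refine absurd (Subtype.ext ?_) hc
        refine MulEquiv.ext fun w => ?_
        have hwU : w ∈ U := h.ge (Subgroup.mem_top w)
        exact hwU
    obtain ⟨w, hw⟩ := exists_ne (1 : W)
    refine hw (Coprime.eq_one_of_fixedPointFree_pair hq hinj A B ?_ ?_ ?_ (hfix b hb1) ?_ w)
    · exact congrArg Subtype.val (mul_comm' a b)
    · rw [hA, ← SubmonoidClass.coe_pow, haq]; rfl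
    · rw [hB, ← SubmonoidClass.coe_pow, hbq]; rfl
    · intro i _
      refine hfix (a * b ^ i) fun h => hab ?_
      rw [eq_inv_of_mul_eq_one_left h]
      exact Subgroup.inv_mem _ (Subgroup.pow_mem _ (Subgroup.mem_zpowers b) i)

end Aut

variable {Γ : Type u} [Group Γ] [Finite Γ] {p : ℕ} [Fact p.Prime]

theorem commutator_mem_closure {D : Subgroup Γ} {g x : Γ}
    (hg : g ∈ Subgroup.normalizer (D : Set Γ)) (hx : x ∈ Subgroup.normalizer (D : Set Γ))
    (hc : ⁅g, x⁆ ∈ D) {a b : Γ} (ha : a ∈ Subgroup.closure ({g, x} : Set Γ))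
    (hb : b ∈ Subgroup.closure ({g, x} : Set Γ)) : ⁅a, b⁆ ∈ D := by
  have hN : Subgroup.closure ({g, x} : Set Γ) ≤ Subgroup.normalizer (D : Set Γ) := by
    rw [Subgroup.closure_le]
    rintro z (rfl | rfl)
    exacts [hg, hx]
  have step : ∀ c : Γ, ⁅g, c⁆ ∈ D → ⁅x, c⁆ ∈ D → ∀ z ∈ Subgroup.closure ({g, x} : Set Γ),
      ⁅z, c⁆ ∈ D := by
    intro c h1 h2 z hz
    induction hz using Subgroup.closure_induction with
    | mem z hz => rcases hz with rfl | rfl <;> assumption
    | one => simp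
    | mul z z' hz hz' ih ih' =>
      rw [show ⁅z * z', c⁆ = z * ⁅z', c⁆ * z⁻¹ * ⁅z, c⁆ by simp [commutatorElement_def, mul_assoc]]
      exact D.mul_mem ((Subgroup.mem_normalizer_iff.mp (hN hz) _).mp ih') ih
    | inv z hz ih =>
      rw [show ⁅z⁻¹, c⁆ = z⁻¹ * ⁅z, c⁆⁻¹ * z by simp [commutatorElement_def, mul_assoc]]
      exact (Subgroup.mem_normalizer_iff''.mp (hN hz) _).mp (D.inv_mem ih)
  have hxg : ⁅x, g⁆ ∈ D := by rw [← commutatorElement_inv]; exact D.inv_mem hc
  have hbg : ⁅g, b⁆ ∈ D := by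
    rw [← commutatorElement_inv]
    exact D.inv_mem (step g (by simp) hxg b hb)
  have hbx : ⁅x, b⁆ ∈ D := by
    rw [← commutatorElement_inv]
    exact D.inv_mem (step x hc (by simp) b hb)
  exact step b hbg hbx a ha

theorem mem_normalizer_sup_zpowers {K : Subgroup Γ} {y u : Γ}
    (hK : y ∈ Subgroup.normalizer (K : Set Γ)) (hKu : ⁅y, u⁆ ∈ K) :
    y ∈ Subgroup.normalizer ((K ⊔ Subgroup.zpowers u : Subgroup Γ) : Set Γ) := by
  haveI := Fintype.ofFinite Γ
  refine Subgroup.mem_normalizer_fintype fun z hz => ?_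
  rw [SetLike.mem_coe] at hz ⊢
  have hle : K ⊔ Subgroup.zpowers u ≤
      (K ⊔ Subgroup.zpowers u).comap (MulAut.conj y).toMonoidHom := by
    refine sup_le (fun k hk => Subgroup.mem_sup_left
      ((Subgroup.mem_normalizer_iff.mp hK k).mp hk)) (Subgroup.zpowers_le.mpr ?_)
    show y * u * y⁻¹ ∈ K ⊔ Subgroup.zpowers u
    rw [show y * u * y⁻¹ = ⁅y, u⁆ * u by simp [commutatorElement_def]]
    exact mul_mem (Subgroup.mem_sup_left hKu) (Subgroup.mem_sup_right (Subgroup.mem_zpowers u))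
  exact hle hz

theorem not_dvd_orderOf_closure {D : Subgroup Γ} {g x : Γ} (hD : ¬ p ∣ Nat.card D)
    (hg : g ∈ Subgroup.normalizer (D : Set Γ)) (hx : x ∈ Subgroup.normalizer (D : Set Γ))
    (hgp : ¬ p ∣ orderOf g) (hxp : ¬ p ∣ orderOf x) (hc : ⁅g, x⁆ ∈ D) {z : Γ}
    (hz : z ∈ Subgroup.closure ({g, x} : Set Γ)) : ¬ p ∣ orderOf z := by
  have hp : p.Prime := Fact.out
  have hxg : ⁅x, g⁆ ∈ D := by rw [← commutatorElement_inv]; exact D.inv_mem hc
  have h1 : ¬ p ∣ Nat.card (D ⊔ Subgroup.zpowers g : Subgroup Γ) := fun hd => by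
    have := hd.trans ((sup_comm D (Subgroup.zpowers g)) ▸
      Coprime.card_sup_dvd (Subgroup.zpowers_le.mpr hg))
    rw [Nat.card_zpowers] at this
    rcases hp.dvd_mul.mp this with h | h
    exacts [hgp h, hD h]
  have hle : Subgroup.closure ({g, x} : Set Γ) ≤
      D ⊔ Subgroup.zpowers g ⊔ Subgroup.zpowers x := by
    rw [Subgroup.closure_le]
    rintro w (rfl | rfl)
    exacts [Subgroup.mem_sup_left (Subgroup.mem_sup_right (Subgroup.mem_zpowers _)),
      Subgroup.mem_sup_right (Subgroup.mem_zpowers _)]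
  intro hd
  have := (hd.trans (Subgroup.orderOf_dvd_natCard _ (hle hz))).trans
    ((sup_comm (D ⊔ Subgroup.zpowers g) (Subgroup.zpowers x)) ▸
      Coprime.card_sup_dvd (Subgroup.zpowers_le.mpr (mem_normalizer_sup_zpowers hx hxg)))
  rw [Nat.card_zpowers] at this
  rcases hp.dvd_mul.mp this with h | h
  exacts [hxp h, h1 h]

theorem mem_normalizer_commutator {S : Subgroup Γ} {y : Γ}
    (hy : y ∈ Subgroup.normalizer (S : Set Γ)) :
    y ∈ Subgroup.normalizer ((⁅S, S⁆ : Subgroup Γ) : Set Γ) := by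
  haveI := Fintype.ofFinite Γ
  refine Subgroup.mem_normalizer_fintype fun z hz => ?_
  rw [SetLike.mem_coe] at hz ⊢
  have hle : ⁅S, S⁆ ≤ (⁅S, S⁆ : Subgroup Γ).comap (MulAut.conj y).toMonoidHom := by
    rw [Subgroup.commutator_le]
    intro a ha b hb
    show y * ⁅a, b⁆ * y⁻¹ ∈ ⁅S, S⁆
    rw [show y * ⁅a, b⁆ * y⁻¹ = ⁅y * a * y⁻¹, y * b * y⁻¹⁆ by
      simp [commutatorElement_def, mul_assoc]]
    exact Subgroup.commutator_mem_commutator ((Subgroup.mem_normalizer_iff.mp hy a).mp ha)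
      ((Subgroup.mem_normalizer_iff.mp hy b).mp hb)
  exact hle hz

/-- The elements fixing a representation. -/
def fixSub {H : Subgroup Γ} {V : Type*} [AddCommGroup V] [Module ℂ V] [FiniteDimensional ℂ V]
    (ρ : Representation ℂ H V) [ρ.IsIrreducible] : Subgroup Γ where
  carrier := {g | Fixes ρ g}
  one_mem' := fixes_one
  mul_mem' h h' := h.mul h'
  inv_mem' h := h.inv

theorem kap_self {H : Subgroup Γ} {V : Type*} [AddCommGroup V] [Module ℂ V] [FiniteDimensional ℂ V]
    (ρ : Representation ℂ H V) [ρ.IsIrreducible] {z : Γ} (hz : Fixes ρ z) : kap ρ z z = 1 := by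
  obtain ⟨T, hT⟩ := hz.2
  refine kap_eq hz.1 hz.1 hT hT (c := 1) (by simp) ?_
  rw [map_one, one_smul, one_mul]

/-- Bilinearity of the pairing on a group commuting modulo `H`. -/
theorem kap_pow_mul_pow_mul {H : Subgroup Γ} {V : Type*} [AddCommGroup V] [Module ℂ V]
    [FiniteDimensional ℂ V] (ρ : Representation ℂ H V) [ρ.IsIrreducible] (M : Subgroup Γ)
    (hM : ∀ z ∈ M, Fixes ρ z) (hc : ∀ a ∈ M, ∀ b ∈ M, ⁅a, b⁆ ∈ H) {z u u' : Γ} (hz : z ∈ M)
    (hu : u ∈ M) (hu' : u' ∈ M) (a b : ℕ) :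
    kap ρ (z ^ a * u) (z ^ b * u') =
      (kap ρ z u')^a * ((kap ρ z u)⁻¹) ^ b * kap ρ u u' := by
  have hza : z ^ a ∈ M := M.pow_mem hz a
  have hzb : z ^ b ∈ M := M.pow_mem hz b
  have hzz : kap ρ (z ^ a) (z ^ b) = 1 := by
    rw [kap_pow_left (hM _ hz) (hM _ hzb) (hc _ hz _ hzb),
      kap_swap (hM _ hzb) (hM _ hz) (hc _ hzb _ hz), kap_pow_left (hM _ hz) (hM _ hz) (hc _ hz _ hz),
      kap_self ρ (hM _ hz), one_pow, inv_one, one_pow]
  rw [kap_mul_left (hM _ hza) (hM _ hu) (hM _ (M.mul_mem hzb hu')) (hc _ hza _ (M.mul_mem hzb hu'))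
      (hc _ hu _ (M.mul_mem hzb hu')),
    kap_mul_right (hM _ hza) (hM _ hzb) (hM _ hu') (hc _ hza _ hzb) (hc _ hza _ hu'), hzz, one_mul,
    kap_mul_right (hM _ hu) (hM _ hzb) (hM _ hu') (hc _ hu _ hzb) (hc _ hu _ hu'),
    kap_swap (hM _ hzb) (hM _ hu) (hc _ hzb _ hu), kap_pow_left (hM _ hz) (hM _ hu) (hc _ hz _ hu),
    kap_pow_left (hM _ hz) (hM _ hu') (hc _ hz _ hu'), inv_pow, mul_assoc]

section Layer

variable {H C : Subgroup Γ} {S T : Subgroup Γ}

/-- The composite of two correspondences along `T ≤ S`. -/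
theorem exists_middle (hSH : S ≤ Subgroup.normalizer (H : Set Γ)) (hH : ¬ p ∣ Nat.card H)
    (hS : IsPGroup p S) (hC : C = H ⊓ Subgroup.centralizer (S : Set Γ)) (hCH : C ≤ H)
    (hTS : T ≤ S) {k l : ℕ}
    (ρ : Representation ℂ H (Fin k → ℂ)) [ρ.IsIrreducible]
    (σ : Representation ℂ C (Fin l → ℂ)) [σ.IsIrreducible]
    (hρσ : Corr p hCH ρ.character σ.character) (hSfix : ∀ s ∈ S, Fixes ρ s) :
    ∃ (m : ℕ) (τ : Representation ℂ ↥(H ⊓ Subgroup.centralizer (T : Set Γ)) (Fin m → ℂ))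
      (hCH1 : C ≤ H ⊓ Subgroup.centralizer (T : Set Γ)),
      τ.IsIrreducible ∧ Corr p (inf_le_left) ρ.character τ.character ∧
      Corr p hCH1 τ.character σ.character ∧
      ∀ w, Fixes ρ w → w ∈ Subgroup.normalizer (T : Set Γ) →
        w ∈ Subgroup.normalizer ((H ⊓ Subgroup.centralizer (T : Set Γ) : Subgroup Γ) : Set Γ) ∧
        ∀ a a' : ↥(H ⊓ Subgroup.centralizer (T : Set Γ)), (a' : Γ) = w * a * w⁻¹ →
          τ.character a' = τ.character a := by
  set H1 := H ⊓ Subgroup.centralizer (T : Set Γ) with hH1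
  have hCH1 : C ≤ H1 := hC.le.trans (inf_le_inf_left _ (Subgroup.centralizer_le hTS))
  have hTH : T ≤ Subgroup.normalizer (H : Set Γ) := hTS.trans hSH
  have hTp : IsPGroup p T := hS.to_le hTS
  set χ : IrrCharacter H := ⟨ρ.character, Chars.isIrrCharacter_character ρ⟩
  have hchar : ∀ w, Fixes ρ w → ∀ a a' : H, (a' : Γ) = w * a * w⁻¹ →
      ρ.character a' = ρ.character a := fun w hw a a' e => by
    obtain ⟨T', hT'⟩ := hw.2
    exact hT'.character_eq e
  have hinvT : InvBy T H (χ : H → ℂ) := fun s hs a a' e => hchar s (hSfix s (hTS hs)) a a' e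
  obtain ⟨β, hβ⟩ := exists_corr_irr hTH hH hTp hH1 inf_le_left hinvT
  obtain ⟨m, τ, hτ, hτβ⟩ := β.2
  haveI := hτ
  have hequiv : ∀ w, Fixes ρ w → w ∈ Subgroup.normalizer (T : Set Γ) →
      w ∈ Subgroup.normalizer (H1 : Set Γ) ∧
        ∀ a a' : H1, (a' : Γ) = w * a * w⁻¹ → τ.character a' = τ.character a := by
    intro w hw hwT
    have hwH1 : w ∈ Subgroup.normalizer (H1 : Set Γ) :=
      Coprime.le_normalizer_inf_inf (Subgroup.zpowers_le.mpr hw.1)
        (Coprime.le_normalizer_centralizer (Subgroup.zpowers_le.mpr hwT))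
        (Subgroup.mem_zpowers w)
    refine ⟨hwH1, fun a a' e => ?_⟩
    obtain ⟨β', hβ'⟩ := exists_conjIrr hwH1 β
    have h2 := corr_conj (p := p) (inf_le_left : H1 ≤ H) hwH1
      (χ := (χ : H → ℂ)) (χ' := (χ : H → ℂ)) (fun b b' e' => hchar w hw b b' e') hβ' hβ
    obtain rfl := corr_unique hTH hH hTp hH1 inf_le_left hinvT hβ h2
    rw [hτβ]
    exact hβ' a a' e
  refine ⟨m, τ, hCH1, hτ, by rw [hτβ]; exact hβ, ?_, hequiv⟩
  -- multiplicities compose modulo `p`
  haveI := Fintype.ofFinite C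
  haveI := Fintype.ofFinite H1
  haveI := Chars.irrFintype H1
  rw [corr_iff]
  intro n hn hdn
  choose a ha using fun δ : IrrCharacter H1 =>
    Chars.inner_irr_right_nat (isCharacter_res (inf_le_left : H1 ≤ H) (Chars.isCharacter_of_irr χ.2)) δ
  choose b hb using fun δ : IrrCharacter H1 => Chars.inner_irr_right_nat
    (isCharacter_res hCH1 (Chars.isCharacter_of_irr δ.2))
    (⟨σ.character, Chars.isIrrCharacter_character σ⟩ : IrrCharacter C)
  have hexp := Chars.classFun_eq_sum (G := H1)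
    (ψ := fun z : H1 => (χ : H → ℂ) ⟨z, (inf_le_left : H1 ≤ H) z.2⟩)
    (Chars.isClassFunction_of_isCharacter
      (isCharacter_res (inf_le_left : H1 ≤ H) (Chars.isCharacter_of_irr χ.2)))
  have hm : classInner (fun c : C => ρ.character ⟨c, hCH c.2⟩) σ.character =
      ((∑ δ, a δ * b δ : ℕ) : ℂ) := by
    have e : (fun c : C => ρ.character ⟨c, hCH c.2⟩) =
        ∑ δ : IrrCharacter H1,
          classInner (fun z : H1 => (χ : H → ℂ) ⟨z, (inf_le_left : H1 ≤ H) z.2⟩) δ •
            fun c : C => (δ : H1 → ℂ) ⟨c, hCH1 c.2⟩ := by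
      funext c
      have := congrFun hexp ⟨c, hCH1 c.2⟩
      simp only [Finset.sum_apply, Pi.smul_apply] at this ⊢
      rw [← this]
    rw [e, Chars.inner_sum_left, Nat.cast_sum]
    refine Finset.sum_congr rfl fun δ _ => ?_
    rw [Chars.inner_smul_left, ha, hb, Nat.cast_mul]
  refine (corr_iff hCH _ _).mp hρσ _ hm (Finset.dvd_sum fun δ _ => ?_)
  by_cases hδ : Corr p (inf_le_left : H1 ≤ H) (χ : H → ℂ) (δ : H1 → ℂ)
  · obtain rfl := corr_unique hTH hH hTp hH1 inf_le_left hinvT hβ hδ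
    have h3 := hb β
    rw [← hτβ] at h3
    rw [hn, Nat.cast_inj] at h3
    exact (h3 ▸ hdn).mul_left _
  · rw [corr_iff] at hδ
    push Not at hδ
    obtain ⟨j, hj, hd⟩ := hδ
    rw [ha, Nat.cast_inj] at hj
    exact (hj ▸ hd).mul_right _

end Layer

/-- Corresponding characters have the same pairing on elements of order prime to `p`. -/
theorem kap_eq_of_corr (S : Subgroup Γ) :
    ∀ (H C : Subgroup Γ) (k l : ℕ), S ≤ Subgroup.normalizer (H : Set Γ) → ¬ p ∣ Nat.card H →
    IsPGroup p S → C = H ⊓ Subgroup.centralizer (S : Set Γ) → ∀ hCH : C ≤ H,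
    ∀ (ρ : Representation ℂ H (Fin k → ℂ)) [ρ.IsIrreducible]
      (σ : Representation ℂ C (Fin l → ℂ)) [σ.IsIrreducible],
    Corr p hCH ρ.character σ.character → (∀ s ∈ S, Fixes ρ s) →
    ∀ g x : Γ, Fixes ρ g → Fixes ρ x → Fixes σ g → Fixes σ x →
    g ∈ Subgroup.normalizer (S : Set Γ) → x ∈ Subgroup.normalizer (S : Set Γ) →
    ¬ p ∣ orderOf g → ¬ p ∣ orderOf x → ⁅g, x⁆ ∈ C → kap ρ g x = kap σ g x := by
  induction S using WellFoundedLT.induction with
  | ind S IH =>
  intro H C k l hSH hH hS hC hCH ρ _ σ _ hρσ hSfix g x hg hx hg' hx' hgS hxS hgp hxp hc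
  rcases eq_or_ne S ⊥ with rfl | hne
  · exact kap_eq_of_centralizes hSH hH hS hC hCH ρ σ hρσ hSfix hx hx' hg hg'
      (Subgroup.mem_centralizer_iff.mpr fun s hs => by
        rw [Subgroup.mem_bot.mp hs, one_mul, mul_one]) hxp hc
  set M := Subgroup.closure ({g, x} : Set Γ) with hM
  have hgM : g ∈ M := Subgroup.subset_closure (by simp)
  have hxM : x ∈ M := Subgroup.subset_closure (by simp)
  have hCcard : ¬ p ∣ Nat.card C := fun h => hH (h.trans (Subgroup.card_dvd_of_le hCH))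
  have hMρ : ∀ z ∈ M, Fixes ρ z := by
    refine fun z hz => (Subgroup.closure_le (fixSub ρ)).mpr ?_ hz
    rintro w (rfl | rfl)
    exacts [hg, hx]
  have hMσ : ∀ z ∈ M, Fixes σ z := by
    refine fun z hz => (Subgroup.closure_le (fixSub σ)).mpr ?_ hz
    rintro w (rfl | rfl)
    exacts [hg', hx']
  have hMS : M ≤ Subgroup.normalizer (S : Set Γ) := by
    rw [hM, Subgroup.closure_le]
    rintro w (rfl | rfl)
    exacts [hgS, hxS]
  have hMc : ∀ a ∈ M, ∀ b ∈ M, ⁅a, b⁆ ∈ C := fun a ha b hb =>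
    commutator_mem_closure hg'.1 hx'.1 hc ha hb
  have hMp : ∀ z ∈ M, ¬ p ∣ orderOf z := fun z hz =>
    not_dvd_orderOf_closure hCcard hg'.1 hx'.1 hgp hxp hc hz
  -- a maximal invariant layer
  let 𝒯 : Set (Subgroup Γ) := {T | T < S ∧ g ∈ Subgroup.normalizer (T : Set Γ) ∧
    x ∈ Subgroup.normalizer (T : Set Γ) ∧ ∀ a ∈ S, ∀ b ∈ S, ⁅a, b⁆ ∈ T}
  have h𝒯 : 𝒯.Nonempty := by
    haveI : Group.IsSolvable S := haveI := hS.isNilpotent; inferInstance
    refine ⟨⁅S, S⁆, ?_, ?_, ?_, fun a ha b hb => Subgroup.commutator_mem_commutator ha hb⟩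
    · haveI : Nontrivial S := (Subgroup.nontrivial_iff_ne_bot S).mpr hne
      have h := Group.IsSolvable.commutator_lt_top_of_nontrivial S
      have h2 : (commutator S).map S.subtype = ⁅S, S⁆ := by
        rw [commutator_def, Subgroup.map_commutator, ← MonoidHom.range_eq_map, Subgroup.range_subtype]
      rw [← h2]
      have h3 := (Subgroup.map_lt_map_iff_of_injective S.subtype_injective).mpr h
      rwa [← MonoidHom.range_eq_map, Subgroup.range_subtype] at h3
    · exact mem_normalizer_commutator hgS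
    · exact mem_normalizer_commutator hxS
  obtain ⟨T, hT, hTmax⟩ := Set.Finite.exists_maximal (Set.toFinite 𝒯) h𝒯
  obtain ⟨hTS, hgT, hxT, hST⟩ := hT
  have hMT : M ≤ Subgroup.normalizer (T : Set Γ) := by
    rw [hM, Subgroup.closure_le]
    rintro w (rfl | rfl)
    exacts [hgT, hxT]
  have hSNT : S ≤ Subgroup.normalizer (T : Set Γ) := by
    haveI := Fintype.ofFinite Γ
    refine fun s hs => Subgroup.mem_normalizer_fintype fun t ht => ?_
    rw [show s * t * s⁻¹ = ⁅s, t⁆ * t by simp [commutatorElement_def]]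
    exact T.mul_mem (hST s hs t (hTS.le ht)) ht
  obtain ⟨m, τ, hCH1, hτ, hρτ, hτσ, hfix⟩ :=
    exists_middle hSH hH hS hC hCH hTS.le ρ σ hρσ hSfix
  haveI := hτ
  have hτfix : ∀ w, Fixes ρ w → w ∈ Subgroup.normalizer (T : Set Γ) → Fixes τ w := fun w hw hwT =>
    fixes_of_character (hfix w hw hwT).1 (hfix w hw hwT).2
  -- elements centralising the layer
  have hkey : ∀ y ∈ M, ∀ u ∈ M, (∀ s ∈ S, ⁅u, s⁆ ∈ T) → kap ρ y u = kap σ y u := by
    intro y hy u hu huS
    have hyu : ⁅y, u⁆ ∈ C := hMc y hy u hu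
    have h1 : kap ρ y u = kap τ y u := IH T hTS H (H ⊓ Subgroup.centralizer (T : Set Γ)) k m (hTS.le.trans hSH) hH (hS.to_le hTS.le) rfl
      inf_le_left ρ τ hρτ (fun s hs => hSfix s (hTS.le hs)) y u (hMρ y hy) (hMρ u hu)
      (hτfix y (hMρ y hy) (hMT hy)) (hτfix u (hMρ u hu) (hMT hu)) (hMT hy) (hMT hu) (hMp y hy)
      (hMp u hu) (hCH1 hyu)
    set S' := S ⊓ Subgroup.centralizer ({u} : Set Γ) with hS'
    have hcop : (Nat.card (Subgroup.zpowers u)).Coprime (Nat.card T) := by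
      rw [Nat.card_zpowers]
      obtain ⟨i, hi⟩ := (hS.to_le hTS.le).exists_card_eq
      rw [hi]
      exact (((Fact.out : p.Prime).coprime_iff_not_dvd.mpr (hMp u hu)).symm).pow_right i
    have hdec : ∀ s ∈ S, ∃ c ∈ S', s⁻¹ * c ∈ T := by
      intro s hs
      obtain ⟨c, hc, hcT⟩ := Coprime.exists_centralizing_in_coset
        (A := Subgroup.zpowers u) (N := T) (Subgroup.zpowers_le.mpr (hMT hu)) hcop
        (Or.inl inferInstance) (k := s) (fun a ha => by
          obtain ⟨i, rfl⟩ : ∃ i : ℕ, u ^ i = a := by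
            rwa [← mem_powers_iff_mem_zpowers, Submonoid.mem_powers_iff] at ha
          have hmem : ⁅u ^ i, s⁆ ∈ T := by
            clear hcop
            induction i with
            | zero => simp
            | succ i ih =>
              rw [pow_succ', show ⁅u * u ^ i, s⁆ = u * ⁅u ^ i, s⁆ * u⁻¹ * ⁅u, s⁆ by
                simp [commutatorElement_def, mul_assoc]]
              exact T.mul_mem ((Subgroup.mem_normalizer_iff.mp (hMT hu) _).mp
                (ih (Subgroup.pow_mem _ (Subgroup.mem_zpowers u) _))) (huS s hs)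
          have := (Subgroup.mem_normalizer_iff''.mp (hSNT hs) _).mp hmem
          simpa [commutatorElement_def, mul_assoc] using this)
      refine ⟨c, ⟨?_, Subgroup.mem_centralizer_iff.mpr ?_⟩, hcT⟩
      · rw [show c = s * (s⁻¹ * c) by group]
        exact S.mul_mem hs (hTS.le hcT)
      · rintro w rfl
        exact Subgroup.mem_centralizer_iff.mp hc _ (Subgroup.mem_zpowers _)
    have hC1 : C = (H ⊓ Subgroup.centralizer (T : Set Γ)) ⊓ Subgroup.centralizer (S' : Set Γ) := by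
      refine le_antisymm (le_inf hCH1 (hC.le.trans (inf_le_right.trans
        (Subgroup.centralizer_le inf_le_left)))) fun z hz => ?_
      rw [hC]
      refine ⟨hz.1.1, Subgroup.mem_centralizer_iff.mpr fun s hs => ?_⟩
      obtain ⟨c, hc, hcT⟩ := hdec s hs
      have e1 := Subgroup.mem_centralizer_iff.mp hz.2 c hc
      have e2 := Subgroup.mem_centralizer_iff.mp hz.1.2 _ hcT
      rw [show s = c * (s⁻¹ * c)⁻¹ by group]
      exact ((show Commute c z from e1).mul_left (show Commute (s⁻¹ * c) z from e2).inv_left).eq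
    have h2 : kap τ y u = kap σ y u := by
      refine kap_eq_of_centralizes (S := S') (C := C) (H := (H ⊓ Subgroup.centralizer (T : Set Γ))) ?_
        (fun h => hH (h.trans (Subgroup.card_dvd_of_le inf_le_left))) (hS.to_le inf_le_left) hC1 hCH1
        τ σ hτσ (fun s hs => hτfix s (hSfix s hs.1) (hSNT hs.1)) (hτfix u (hMρ u hu) (hMT hu))
        (hMσ u hu) (hτfix y (hMρ y hy) (hMT hy)) (hMσ y hy) ?_ (hMp u hu) hyu
      · intro s hs
        exact (hfix s (hSfix s hs.1) (hSNT hs.1)).1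
      · exact Subgroup.mem_centralizer_iff.mpr fun s hs =>
          (Subgroup.mem_centralizer_iff.mp hs.2 u rfl).symm
    rw [h1, h2]
  -- the action on the layer
  haveI hTn : (T.subgroupOf S).Normal := Subgroup.normal_subgroupOf_of_le_normalizer hSNT
  let instW : CommGroup (S ⧸ T.subgroupOf S) :=
    { (inferInstance : Group (S ⧸ T.subgroupOf S)) with
      mul_comm := fun a b => by
        obtain ⟨a, rfl⟩ := QuotientGroup.mk_surjective a
        obtain ⟨b, rfl⟩ := QuotientGroup.mk_surjective b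
        rw [← QuotientGroup.mk_mul, ← QuotientGroup.mk_mul, QuotientGroup.eq,
          Subgroup.mem_subgroupOf]
        have h := hST _ (S.inv_mem b.2) _ (S.inv_mem a.2)
        simpa [commutatorElement_def, mul_assoc] using h }
  haveI hWnt : Nontrivial (S ⧸ T.subgroupOf S) := by
    rw [← Finite.one_lt_card_iff_nontrivial, ← Subgroup.index_eq_card]
    exact Subgroup.one_lt_index_of_ne_top fun h => hTS.not_ge (Subgroup.subgroupOf_eq_top.mp h)
  let φ : M →* MulAut (S ⧸ T.subgroupOf S) :=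
    { toFun := fun w => QuotientGroup.congr (T.subgroupOf S) (T.subgroupOf S)
        (Subgroup.normalizerMonoidHom S ⟨w, hMS w.2⟩) (by
          ext a
          rw [Subgroup.mem_map]
          constructor
          · rintro ⟨b, hb, rfl⟩
            exact (Subgroup.mem_normalizer_iff.mp (hMT w.2) _).mp hb
          · intro ha
            refine ⟨(Subgroup.normalizerMonoidHom S ⟨w, hMS w.2⟩).symm a, ?_,
              MulEquiv.apply_symm_apply _ a⟩
            rw [Subgroup.mem_subgroupOf, Subgroup.mem_normalizer_iff.mp (hMT w.2)]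
            exact (congrArg (fun z : S => (z : Γ) ∈ T)
              (MulEquiv.apply_symm_apply (Subgroup.normalizerMonoidHom S ⟨w, hMS w.2⟩) a)).mpr ha)
      map_one' := by
        ext q
        obtain ⟨a, rfl⟩ := QuotientGroup.mk_surjective q
        show ((_ : S) : S ⧸ T.subgroupOf S) = _
        congr 1
        apply Subtype.ext
        show (1 : Γ) * a * 1⁻¹ = a
        simp
      map_mul' := fun w w' => by
        ext q
        obtain ⟨a, rfl⟩ := QuotientGroup.mk_surjective q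
        show ((_ : S) : S ⧸ T.subgroupOf S) = ((_ : S) : S ⧸ T.subgroupOf S)
        congr 1
        apply Subtype.ext
        show ((w : Γ) * w') * a * ((w : Γ) * w')⁻¹ = w * (w' * a * (w' : Γ)⁻¹) * (w : Γ)⁻¹
        group }
  have hφ : ∀ (w : M) (s : S), φ w (s : S ⧸ T.subgroupOf S) =
      ((Subgroup.normalizerMonoidHom S ⟨w, hMS w.2⟩ s : S) : S ⧸ T.subgroupOf S) := fun w s => rfl
  have hker : ∀ w : M, φ w = 1 → ∀ s ∈ S, ⁅(w : Γ), s⁆ ∈ T := by
    intro w hw s hs
    have h := hφ w ⟨s, hs⟩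
    rw [hw, MulAut.one_apply, QuotientGroup.eq, Subgroup.mem_subgroupOf] at h
    have h' : s⁻¹ * (w * s * (w : Γ)⁻¹) ∈ T := h
    have := (Subgroup.mem_normalizer_iff.mp (hSNT hs) _).mp h'
    simpa [commutatorElement_def, mul_assoc] using this
  have hcopW : ∀ w : M, (orderOf (φ w)).Coprime (Nat.card (S ⧸ T.subgroupOf S)) := by
    intro w
    obtain ⟨i, hi⟩ := hS.exists_card_eq
    refine Nat.Coprime.coprime_dvd_left (orderOf_map_dvd φ w) ?_
    refine Nat.Coprime.coprime_dvd_right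
      ((Subgroup.index_eq_card (T.subgroupOf S)) ▸ Subgroup.index_dvd_card _) ?_
    rw [hi, ← Subgroup.orderOf_coe]
    exact (((Fact.out : p.Prime).coprime_iff_not_dvd.mpr (hMp w w.2)).symm).pow_right i
  have hirr : ∀ U : Subgroup (S ⧸ T.subgroupOf S), (∀ q ∈ U, φ ⟨g, hgM⟩ q ∈ U) →
      (∀ q ∈ U, φ ⟨x, hxM⟩ q ∈ U) → U = ⊥ ∨ U = ⊤ := by
    intro U hUg hUx
    set R := (U.comap (QuotientGroup.mk' (T.subgroupOf S))).map S.subtype with hR
    have hmem : ∀ s (hs : s ∈ S), s ∈ R ↔ ((⟨s, hs⟩ : S) : S ⧸ T.subgroupOf S) ∈ U := fun s hs => by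
      rw [hR]
      exact ⟨fun ⟨a, ha, e⟩ => (Subtype.ext e : a = ⟨s, hs⟩) ▸ ha, fun h => ⟨_, h, rfl⟩⟩
    have hRS : R ≤ S := Subgroup.map_subtype_le _
    have hTR : T ≤ R := fun t ht => (hmem t (hTS.le ht)).mpr (by
      rw [(QuotientGroup.eq_one_iff _).mpr (Subgroup.mem_subgroupOf.mpr ht)]
      exact U.one_mem)
    have hRn : ∀ w (hw : w ∈ M), (∀ q ∈ U, φ ⟨w, hw⟩ q ∈ U) →
        w ∈ Subgroup.normalizer (R : Set Γ) := by
      intro w hw hU
      haveI := Fintype.ofFinite Γ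
      refine Subgroup.mem_normalizer_fintype fun r hr => ?_
      have hrS : r ∈ S := hRS hr
      exact (hmem _ ((Subgroup.mem_normalizer_iff.mp (hMS hw) r).mp hrS)).mpr
        (hU _ ((hmem r hrS).mp hr))
    rcases hRS.eq_or_lt with h | h
    · right
      refine eq_top_iff.mpr fun q _ => ?_
      obtain ⟨a, rfl⟩ := QuotientGroup.mk_surjective q
      exact (hmem a a.2).mp (h.ge a.2)
    · left
      have hR𝒯 : R ∈ 𝒯 := ⟨h, hRn g hgM hUg, hRn x hxM hUx,
        fun a ha b hb => hTR (hST a ha b hb)⟩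
      refine eq_bot_iff.mpr fun q hq => ?_
      obtain ⟨a, rfl⟩ := QuotientGroup.mk_surjective q
      rw [Subgroup.mem_bot, QuotientGroup.eq_one_iff, Subgroup.mem_subgroupOf]
      exact hTmax hR𝒯 hTR ((hmem a a.2).mpr hq)
  have hcomm : Commute (φ ⟨g, hgM⟩) (φ ⟨x, hxM⟩) := by
    apply commutatorElement_eq_one_iff_commute.mp
    rw [← map_commutatorElement]
    ext q
    obtain ⟨a, rfl⟩ := QuotientGroup.mk_surjective q
    rw [hφ, MulAut.one_apply]
    congr 1
    apply Subtype.ext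
    show ((⁅(⟨g, hgM⟩ : M), ⟨x, hxM⟩⁆ : M) : Γ) * a * ((⁅(⟨g, hgM⟩ : M), ⟨x, hxM⟩⁆ : M) : Γ)⁻¹ = a
    have hcc : ⁅g, x⁆ ∈ Subgroup.centralizer (S : Set Γ) := (hC.le hc).2
    rw [show ((⁅(⟨g, hgM⟩ : M), ⟨x, hxM⟩⁆ : M) : Γ) = ⁅g, x⁆ from
      map_commutatorElement M.subtype _ _, ← Subgroup.mem_centralizer_iff.mp hcc _ a.2,
      mul_inv_cancel_right]
  obtain ⟨Z, a, b, hZ, hga, hxb⟩ :=
    exists_pow_of_irreducible (φ ⟨g, hgM⟩) (φ ⟨x, hxM⟩) hcomm (hcopW _) (hcopW _) hirr
  obtain ⟨z, rfl⟩ : Z ∈ φ.range :=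
    (Subgroup.closure_le _).mpr (by rintro w (rfl | rfl) <;> exact ⟨_, rfl⟩) hZ
  set u1 : M := (z ^ a)⁻¹ * ⟨g, hgM⟩ with hu1
  set u2 : M := (z ^ b)⁻¹ * ⟨x, hxM⟩ with hu2
  have k1 : ∀ s ∈ S, ⁅(u1 : Γ), s⁆ ∈ T :=
    hker u1 (by rw [hu1, map_mul, map_inv, map_pow, hga, inv_mul_cancel])
  have k2 : ∀ s ∈ S, ⁅(u2 : Γ), s⁆ ∈ T :=
    hker u2 (by rw [hu2, map_mul, map_inv, map_pow, hxb, inv_mul_cancel])
  rw [show g = (z : Γ) ^ a * u1 by simp [hu1], show x = (z : Γ) ^ b * u2 by simp [hu2],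
    kap_pow_mul_pow_mul ρ M hMρ (fun a ha b hb => hCH (hMc a ha b hb)) z.2 u1.2 u2.2,
    kap_pow_mul_pow_mul σ M hMσ hMc z.2 u1.2 u2.2,
    hkey _ z.2 _ u2.2 k2, hkey _ z.2 _ u1.2 k1, hkey _ u1.2 _ u2.2 k2]

end CfsgLib.RelMcKay
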