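import Cfsg.Agent.Lib.CharsMore.Extend

/-!
# The commutator pairing of an invariant irreducible representation

For a representation `ρ` of a subgroup `H` and elements `g, x` normalising `H`, fixing `ρ` and with
`⁅g, x⁆ ∈ H`, intertwiners `T, U` satisfy `T * U = κ • ρ ⁅g, x⁆ * (U * T)` for a scalar `κ` which
depends only on `g` and `x`.
-/

set_option autoImplicit false
set_option linter.unusedSectionVars false
set_option linter.style.haveILetI false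

open scoped commutatorElement
open Cfsg

namespace CfsgLib.RelMcKay

open CfsgLib

universe u v

variable {Γ : Type u} [Group Γ] [Finite Γ] {H : Subgroup Γ}
variable {V : Type v} [AddCommGroup V] [Module ℂ V] [FiniteDimensional ℂ V]
variable {ρ : Representation ℂ H V}

/-- `T` carries `ρ` to its conjugate by `g`. -/
def Intw (ρ : Representation ℂ H V) (g : Γ) (T : (Module.End ℂ V)ˣ) : Prop :=
  ∀ h h' : H, (h' : Γ) = g * h * g⁻¹ → (T : Module.End ℂ V) * ρ h = ρ h' * T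

/-- `g` normalises `H` and fixes `ρ` up to equivalence. -/
def Fixes (ρ : Representation ℂ H V) (g : Γ) : Prop :=
  g ∈ Subgroup.normalizer (H : Set Γ) ∧ ∃ T, Intw ρ g T

theorem Intw.mul {g x : Γ} {T U : (Module.End ℂ V)ˣ} (hT : Intw ρ g T) (hU : Intw ρ x U)
    (hx : x ∈ Subgroup.normalizer (H : Set Γ)) : Intw ρ (g * x) (T * U) := by
  intro h h' e
  have hm : x * h * x⁻¹ ∈ H := (Subgroup.mem_normalizer_iff.mp hx h).mp h.2
  rw [Units.val_mul, mul_assoc, hU h ⟨_, hm⟩ rfl, ← mul_assoc,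
    hT ⟨_, hm⟩ h' (by rw [e]; simp [mul_assoc]), mul_assoc]

theorem intw_rep (k : H) : Intw ρ (k : Γ) (ρ.toHomUnits k) := by
  intro h h' e
  show ρ k * ρ h = ρ h' * ρ k
  rw [← map_mul, ← map_mul]
  congr 1
  apply Subtype.ext
  simp [e, mul_assoc]

theorem Fixes.mul {g x : Γ} (hg : Fixes ρ g) (hx : Fixes ρ x) : Fixes ρ (g * x) :=
  ⟨mul_mem hg.1 hx.1, let ⟨T, hT⟩ := hg.2; let ⟨U, hU⟩ := hx.2; ⟨T * U, hT.mul hU hx.1⟩⟩

theorem fixes_of_mem {k : Γ} (hk : k ∈ H) : Fixes ρ k :=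
  ⟨Subgroup.le_normalizer hk, ρ.toHomUnits ⟨k, hk⟩, intw_rep ⟨k, hk⟩⟩

theorem fixes_one : Fixes ρ (1 : Γ) := fixes_of_mem H.one_mem

theorem Fixes.pow {g : Γ} (hg : Fixes ρ g) (n : ℕ) : Fixes ρ (g ^ n) := by
  induction n with
  | zero => rw [pow_zero]; exact fixes_one
  | succ n ih => rw [pow_succ]; exact ih.mul hg

theorem Fixes.inv {g : Γ} (hg : Fixes ρ g) : Fixes ρ g⁻¹ := by
  obtain ⟨n, hn⟩ : ∃ n : ℕ, g⁻¹ = g ^ n := ⟨orderOf g - 1, inv_eq_of_mul_eq_one_right (by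
    rw [← pow_succ', Nat.sub_add_cancel (orderOf_pos g), pow_orderOf_eq_one])⟩
  rw [hn]
  exact hg.pow n

/-- An element fixing the character fixes the representation. -/
theorem fixes_of_character [ρ.IsIrreducible] {g : Γ} (hg : g ∈ Subgroup.normalizer (H : Set Γ))
    (h : ∀ k k' : H, (k' : Γ) = g * k * g⁻¹ → ρ.character k' = ρ.character k) : Fixes ρ g := by
  set c := Subgroup.normalizerMonoidHom H ⟨g, hg⟩ with hc
  obtain ⟨e⟩ := CharsMore.equiv_of_character_eq ρ (ρ.comp c.toMonoidHom)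
    (funext fun n => (h n (c n) rfl).symm)
  refine ⟨hg, LinearMap.GeneralLinearGroup.ofLinearEquiv e.toLinearEquiv, fun n n' hn => ?_⟩
  ext w
  have := e.toIntertwiningMap.isIntertwining ρ (ρ.comp c.toMonoidHom) n w
  rw [show n' = c n from Subtype.ext hn]
  exact this

theorem Intw.scalar [ρ.IsIrreducible] {g : Γ} (hg : g ∈ Subgroup.normalizer (H : Set Γ))
    {T T' : (Module.End ℂ V)ˣ} (hT : Intw ρ g T) (hT' : Intw ρ g T') :
    ∃ a : ℂ, a ≠ 0 ∧ (T' : Module.End ℂ V) = a • (T : Module.End ℂ V) := by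
  obtain ⟨a, ha⟩ := CharsMore.schur_scalar ρ ((T⁻¹ * T' : (Module.End ℂ V)ˣ) : Module.End ℂ V)
    fun h => by
      have hm : g * h * g⁻¹ ∈ H := (Subgroup.mem_normalizer_iff.mp hg h).mp h.2
      have e1 : (↑T⁻¹ : Module.End ℂ V) * ρ ⟨_, hm⟩ = ρ h * ↑T⁻¹ := by
        rw [Units.eq_mul_inv_iff_mul_eq, mul_assoc, ← hT h ⟨_, hm⟩ rfl, Units.inv_mul_cancel_left]
      rw [Units.val_mul, mul_assoc, hT' h ⟨_, hm⟩ rfl, ← mul_assoc, e1, mul_assoc]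
  have e : (T' : Module.End ℂ V) = a • (T : Module.End ℂ V) := by
    rw [← mul_one (T : Module.End ℂ V), ← mul_smul_comm, ← ha, Units.val_mul, ← mul_assoc,
      Units.mul_inv, one_mul]
  refine ⟨a, fun h0 => ?_, e⟩
  haveI := CharsMore.nontrivial_of_isIrreducible ρ
  rw [h0, zero_smul] at e
  exact T'.ne_zero e

/-- The defining property of the pairing. -/
def IsKap (ρ : Representation ℂ H V) (g x : Γ) (κ : ℂ) : Prop :=
  ∀ T U : (Module.End ℂ V)ˣ, Intw ρ g T → Intw ρ x U → ∀ c : H, (c : Γ) = ⁅g, x⁆ →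
    (T : Module.End ℂ V) * U = κ • (ρ c * (U * T))

variable [ρ.IsIrreducible]

theorem eq_of_isKap_witness {g x : Γ} {T U : (Module.End ℂ V)ˣ} {c : H} {κ κ' : ℂ}
    (h : (T : Module.End ℂ V) * U = κ • (ρ c * (U * T)))
    (h' : (T : Module.End ℂ V) * U = κ' • (ρ c * (U * T))) : κ = κ' := by
  haveI := CharsMore.nontrivial_of_isIrreducible ρ
  refine smul_left_injective ℂ ?_ (h.symm.trans h')
  exact (ρ.toHomUnits c * (U * T)).ne_zero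

theorem isKap_of_witness {g x : Γ} (hg : g ∈ Subgroup.normalizer (H : Set Γ))
    (hx : x ∈ Subgroup.normalizer (H : Set Γ)) {T U : (Module.End ℂ V)ˣ} (hT : Intw ρ g T)
    (hU : Intw ρ x U) {c : H} (hc : (c : Γ) = ⁅g, x⁆) {κ : ℂ}
    (h : (T : Module.End ℂ V) * U = κ • (ρ c * (U * T))) : IsKap ρ g x κ := by
  intro T' U' hT' hU' c' hc'
  obtain rfl : c' = c := Subtype.ext (hc'.trans hc.symm)
  obtain ⟨a, -, ha⟩ := hT.scalar hg hT'
  obtain ⟨b, -, hb⟩ := hU.scalar hx hU'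
  rw [ha, hb]
  simp only [smul_mul_assoc, mul_smul_comm, h, smul_smul]
  congr 1
  ring

theorem exists_isKap {g x : Γ} (hg : Fixes ρ g) (hx : Fixes ρ x) (hc : ⁅g, x⁆ ∈ H) :
    ∃ κ, IsKap ρ g x κ := by
  obtain ⟨T, hT⟩ := hg.2
  obtain ⟨U, hU⟩ := hx.2
  have h2 : Intw ρ ((⟨⁅g, x⁆, hc⟩ : H) * (x * g) : Γ) (ρ.toHomUnits ⟨_, hc⟩ * (U * T)) :=
    (intw_rep _).mul (hU.mul hT hg.1) (mul_mem hx.1 hg.1)
  rw [show ((⟨⁅g, x⁆, hc⟩ : H) : Γ) * (x * g) = g * x by simp [commutatorElement_def, mul_assoc]]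
    at h2
  obtain ⟨κ, -, e⟩ := h2.scalar (mul_mem hg.1 hx.1) (hT.mul hU hx.1)
  exact ⟨κ, isKap_of_witness hg.1 hx.1 hT hU (c := ⟨_, hc⟩) rfl e⟩

/-- The pairing. -/
noncomputable def kap (ρ : Representation ℂ H V) (g x : Γ) : ℂ :=
  Classical.epsilon (IsKap ρ g x)

theorem kap_spec {g x : Γ} (hg : Fixes ρ g) (hx : Fixes ρ x) (hc : ⁅g, x⁆ ∈ H) :
    IsKap ρ g x (kap ρ g x) :=
  Classical.epsilon_spec (exists_isKap hg hx hc)

theorem kap_eq {g x : Γ} (hg : g ∈ Subgroup.normalizer (H : Set Γ))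
    (hx : x ∈ Subgroup.normalizer (H : Set Γ)) {T U : (Module.End ℂ V)ˣ} (hT : Intw ρ g T)
    (hU : Intw ρ x U) {c : H} (hc : (c : Γ) = ⁅g, x⁆) {κ : ℂ}
    (h : (T : Module.End ℂ V) * U = κ • (ρ c * (U * T))) : kap ρ g x = κ :=
  eq_of_isKap_witness (g := g) (x := x)
    (kap_spec ⟨hg, T, hT⟩ ⟨hx, U, hU⟩ (hc ▸ c.2) T U hT hU c hc) h

theorem kap_ne_zero {g x : Γ} (hg : Fixes ρ g) (hx : Fixes ρ x) (hc : ⁅g, x⁆ ∈ H) :
    kap ρ g x ≠ 0 := by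
  obtain ⟨T, hT⟩ := hg.2
  obtain ⟨U, hU⟩ := hx.2
  intro h0
  have h := kap_spec hg hx hc T U hT hU ⟨_, hc⟩ rfl
  haveI := CharsMore.nontrivial_of_isIrreducible ρ
  rw [h0, zero_smul] at h
  exact (T * U).ne_zero h

theorem kap_mem_left {k x : Γ} (hk : k ∈ H) (hx : Fixes ρ x) : kap ρ k x = 1 := by
  obtain ⟨U, hU⟩ := hx.2
  have hm : x * k * x⁻¹ ∈ H := (Subgroup.mem_normalizer_iff.mp hx.1 k).mp hk
  have hc : ⁅k, x⁆ ∈ H := by
    rw [show ⁅k, x⁆ = k * (x * k * x⁻¹)⁻¹ by simp [commutatorElement_def, mul_assoc]]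
    exact H.mul_mem hk (H.inv_mem hm)
  refine kap_eq (Subgroup.le_normalizer hk) hx.1 (intw_rep ⟨k, hk⟩) hU (c := ⟨_, hc⟩) rfl ?_
  show ρ _ * _ = (1 : ℂ) • (ρ _ * (_ * ρ _))
  rw [one_smul, hU ⟨k, hk⟩ ⟨_, hm⟩ rfl, ← mul_assoc, ← map_mul]
  congr 2
  apply Subtype.ext
  simp [commutatorElement_def, mul_assoc]

theorem kap_swap {g x : Γ} (hg : Fixes ρ g) (hx : Fixes ρ x) (hc : ⁅g, x⁆ ∈ H) :
    kap ρ x g = (kap ρ g x)⁻¹ := by
  obtain ⟨T, hT⟩ := hg.2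
  obtain ⟨U, hU⟩ := hx.2
  have hc' : ⁅x, g⁆ ∈ H := by
    rw [← commutatorElement_inv]
    exact H.inv_mem hc
  have h := kap_spec hg hx hc T U hT hU ⟨_, hc⟩ rfl
  refine kap_eq hx.1 hg.1 hU hT (c := ⟨_, hc'⟩) rfl ?_
  rw [h, mul_smul_comm, smul_smul, inv_mul_cancel₀ (kap_ne_zero hg hx hc), one_smul, ← mul_assoc,
    ← map_mul, show (⟨_, hc'⟩ : H) * ⟨_, hc⟩ = 1 from Subtype.ext (by
      simp [commutatorElement_def, mul_assoc]), map_one, one_mul]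

theorem kap_mul_right {g x y : Γ} (hg : Fixes ρ g) (hx : Fixes ρ x) (hy : Fixes ρ y)
    (h1 : ⁅g, x⁆ ∈ H) (h2 : ⁅g, y⁆ ∈ H) : kap ρ g (x * y) = kap ρ g x * kap ρ g y := by
  obtain ⟨T, hT⟩ := hg.2
  obtain ⟨U, hU⟩ := hx.2
  obtain ⟨W, hW⟩ := hy.2
  have hm : x * ⁅g, y⁆ * x⁻¹ ∈ H := (Subgroup.mem_normalizer_iff.mp hx.1 _).mp h2
  have hc : ⁅g, x * y⁆ = ⁅g, x⁆ * (x * ⁅g, y⁆ * x⁻¹) := by
    simp [commutatorElement_def, mul_assoc]
  refine kap_eq hg.1 (mul_mem hx.1 hy.1) hT (hU.mul hW hy.1)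
    (c := (⟨_, h1⟩ : H) * ⟨_, hm⟩) hc.symm ?_
  have e1 := kap_spec hg hx h1 T U hT hU ⟨_, h1⟩ rfl
  have e2 := kap_spec hg hy h2 T W hT hW ⟨_, h2⟩ rfl
  rw [Units.val_mul, ← mul_assoc, e1, smul_mul_assoc, mul_assoc, mul_assoc, e2, mul_smul_comm,
    mul_smul_comm, smul_smul, map_mul]
  congr 1
  rw [mul_assoc (ρ ⟨_, h1⟩), ← mul_assoc (U : Module.End ℂ V), hU ⟨_, h2⟩ ⟨_, hm⟩ rfl]
  simp only [mul_assoc]

theorem kap_mul_left {g g' x : Γ} (hg : Fixes ρ g) (hg' : Fixes ρ g') (hx : Fixes ρ x)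
    (h1 : ⁅g, x⁆ ∈ H) (h2 : ⁅g', x⁆ ∈ H) : kap ρ (g * g') x = kap ρ g x * kap ρ g' x := by
  have h1' : ⁅x, g⁆ ∈ H := by rw [← commutatorElement_inv]; exact H.inv_mem h1
  have h2' : ⁅x, g'⁆ ∈ H := by rw [← commutatorElement_inv]; exact H.inv_mem h2
  have h3 : ⁅x, g * g'⁆ ∈ H := by
    rw [show ⁅x, g * g'⁆ = ⁅x, g⁆ * (g * ⁅x, g'⁆ * g⁻¹) by simp [commutatorElement_def, mul_assoc]]
    exact H.mul_mem h1' ((Subgroup.mem_normalizer_iff.mp hg.1 _).mp h2')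
  rw [kap_swap hx (hg.mul hg') h3, kap_mul_right hx hg hg' h1' h2', mul_inv,
    ← kap_swap hx hg h1', ← kap_swap hx hg' h2']

theorem commutator_pow_mem {g x : Γ} (hg : g ∈ Subgroup.normalizer (H : Set Γ)) (hc : ⁅g, x⁆ ∈ H)
    (n : ℕ) : ⁅g ^ n, x⁆ ∈ H := by
  induction n with
  | zero => simp
  | succ n ih =>
    rw [pow_succ', show ⁅g * g ^ n, x⁆ = g * ⁅g ^ n, x⁆ * g⁻¹ * ⁅g, x⁆ by
      simp [commutatorElement_def, mul_assoc]]
    exact H.mul_mem ((Subgroup.mem_normalizer_iff.mp hg _).mp ih) hc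

theorem kap_pow_left {g x : Γ} (hg : Fixes ρ g) (hx : Fixes ρ x) (hc : ⁅g, x⁆ ∈ H) (n : ℕ) :
    kap ρ (g ^ n) x = kap ρ g x ^ n := by
  induction n with
  | zero => rw [pow_zero, pow_zero]; exact kap_mem_left H.one_mem hx
  | succ n ih =>
    rw [pow_succ, pow_succ, kap_mul_left (hg.pow n) hg hx (commutator_pow_mem hg.1 hc n) hc, ih]

theorem kap_pow_orderOf_left {g x : Γ} (hg : Fixes ρ g) (hx : Fixes ρ x) (hc : ⁅g, x⁆ ∈ H) :
    kap ρ g x ^ orderOf g = 1 := by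
  rw [← kap_pow_left hg hx hc, pow_orderOf_eq_one, kap_mem_left H.one_mem hx]

theorem kap_mem_right {g k : Γ} (hg : Fixes ρ g) (hk : k ∈ H) : kap ρ g k = 1 := by
  have hm : g * k * g⁻¹ ∈ H := (Subgroup.mem_normalizer_iff.mp hg.1 k).mp hk
  have hc : ⁅k, g⁆ ∈ H := by
    rw [show ⁅k, g⁆ = k * (g * k * g⁻¹)⁻¹ by simp [commutatorElement_def, mul_assoc]]
    exact H.mul_mem hk (H.inv_mem hm)
  rw [kap_swap (fixes_of_mem hk) hg hc, kap_mem_left hk hg, inv_one]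

/-- The pairing only depends on cosets. -/
theorem kap_coset {g x a b : Γ} (hg : Fixes ρ g) (hx : Fixes ρ x) (hc : ⁅g, x⁆ ∈ H) (ha : a ∈ H)
    (hb : b ∈ H) : ⁅g * a, x * b⁆ ∈ H ∧ kap ρ (g * a) (x * b) = kap ρ g x := by
  have hax : ⁅a, x⁆ ∈ H := by
    rw [show ⁅a, x⁆ = a * (x * a * x⁻¹)⁻¹ by simp [commutatorElement_def, mul_assoc]]
    exact H.mul_mem ha (H.inv_mem ((Subgroup.mem_normalizer_iff.mp hx.1 a).mp ha))
  have hgb : ⁅g, b⁆ ∈ H := by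
    rw [commutatorElement_def]
    exact H.mul_mem ((Subgroup.mem_normalizer_iff.mp hg.1 b).mp hb) (H.inv_mem hb)
  have hab : ⁅a, b⁆ ∈ H := H.mul_mem (H.mul_mem (H.mul_mem ha hb) (H.inv_mem ha)) (H.inv_mem hb)
  have hgax : ⁅g * a, x⁆ ∈ H := by
    rw [show ⁅g * a, x⁆ = g * ⁅a, x⁆ * g⁻¹ * ⁅g, x⁆ by simp [commutatorElement_def, mul_assoc]]
    exact H.mul_mem ((Subgroup.mem_normalizer_iff.mp hg.1 _).mp hax) hc
  have hgab : ⁅g * a, b⁆ ∈ H := by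
    rw [show ⁅g * a, b⁆ = g * ⁅a, b⁆ * g⁻¹ * ⁅g, b⁆ by simp [commutatorElement_def, mul_assoc]]
    exact H.mul_mem ((Subgroup.mem_normalizer_iff.mp hg.1 _).mp hab) hgb
  refine ⟨?_, ?_⟩
  · rw [show ⁅g * a, x * b⁆ = ⁅g * a, x⁆ * (x * ⁅g * a, b⁆ * x⁻¹) by
      simp [commutatorElement_def, mul_assoc]]
    exact H.mul_mem hgax ((Subgroup.mem_normalizer_iff.mp hx.1 _).mp hgab)
  · rw [kap_mul_right (hg.mul (fixes_of_mem ha)) hx (fixes_of_mem hb) hgax hgab,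
      kap_mem_right (hg.mul (fixes_of_mem ha)) hb, mul_one,
      kap_mul_left hg (fixes_of_mem ha) hx hc hax, kap_mem_left ha hx, mul_one]

/-- A representation extending `ρ` has the same pairing. -/
theorem kap_of_extension {M : Subgroup Γ} (hHM : H ≤ M) {σ : Representation ℂ M V}
    [σ.IsIrreducible] (hσ : ∀ h : H, σ (Subgroup.inclusion hHM h) = ρ h) {g x : Γ}
    (hgH : g ∈ Subgroup.normalizer (H : Set Γ)) (hxH : x ∈ Subgroup.normalizer (H : Set Γ))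
    (hg : Fixes σ g) (hx : Fixes σ x) (hc : ⁅g, x⁆ ∈ H) : kap ρ g x = kap σ g x := by
  obtain ⟨T, hT⟩ := hg.2
  obtain ⟨U, hU⟩ := hx.2
  have key : ∀ (y : Γ) (S : (Module.End ℂ V)ˣ), Intw σ y S → Intw ρ y S := fun y S hS h h' e => by
    rw [← hσ, ← hσ]
    exact hS (Subgroup.inclusion hHM h) (Subgroup.inclusion hHM h') e
  refine kap_eq hgH hxH (key g T hT) (key x U hU) (c := ⟨_, hc⟩) rfl ?_
  rw [← hσ]
  exact kap_spec hg hx (hHM hc) T U hT hU _ rfl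

end CfsgLib.RelMcKay
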