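import Cfsg.Agent.Lib.RelMcKay.Side

/-!
# Pieces of the central case

`p`-parts, adjusting commuting pairs into the complement of a normal `p`-subgroup, reindexing of
sums over cosets, and sorting the characters by invariant characters of the normal `p'`-subgroup.
-/

set_option autoImplicit false
set_option linter.unusedSectionVars false
set_option linter.style.haveILetI false

open scoped commutatorElement ComplexConjugate
open Cfsg

namespace CfsgLib.RelMcKay

open CfsgLib CfsgLib.CharsMore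

universe u

variable {p : ℕ} [Fact p.Prime] {G : Type u} [Group G] [Finite G]

theorem exists_pow_split (g : G) :
    ∃ a b : ℕ, g = g ^ a * g ^ b ∧ (∃ i : ℕ, (g ^ a) ^ p ^ i = 1) ∧ ¬ p ∣ orderOf (g ^ b) := by
  have hp : p.Prime := Fact.out
  obtain ⟨i, m, hm, hn⟩ := Nat.exists_eq_pow_mul_and_not_dvd (orderOf_pos g).ne' p hp.ne_one
  have hcop : (p ^ i).Coprime m := (hp.coprime_iff_not_dvd.mpr hm).pow_left i
  obtain ⟨a, ha1, ha2⟩ := Nat.chineseRemainder hcop 1 0
  obtain ⟨b, hb1, hb2⟩ := Nat.chineseRemainder hcop 0 1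
  refine ⟨a, b, ?_, ⟨i, ?_⟩, fun hd => hm (hd.trans ?_)⟩
  · rw [← pow_add]
    conv_lhs => rw [← pow_one g]
    refine pow_eq_pow_iff_modEq.mpr ?_
    rw [hn]
    exact ((Nat.modEq_and_modEq_iff_modEq_mul hcop).mp
      ⟨by simpa using ha1.add hb1, by simpa using ha2.add hb2⟩).symm
  · obtain ⟨c, hc⟩ := Nat.modEq_zero_iff_dvd.mp ha2
    rw [← pow_mul, hc, show m * c * p ^ i = orderOf g * c by rw [hn]; ring, pow_mul,
      pow_orderOf_eq_one, one_pow]
  · obtain ⟨c, hc⟩ := Nat.modEq_zero_iff_dvd.mp hb1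
    refine orderOf_dvd_of_pow_eq_one ?_
    rw [← pow_mul, hc, show p ^ i * c * m = orderOf g * c by rw [hn]; ring, pow_mul,
      pow_orderOf_eq_one, one_pow]

/-- Elements of order prime to `p` commuting modulo `C ⊔ D` can be moved modulo `D` to commute
modulo `C`. -/
theorem exists_adjust {C D : Subgroup G} [C.Normal] [D.Normal] (hD : IsPGroup p D)
    (hC : ¬ p ∣ Nat.card C) {g x : G} (hg : ¬ p ∣ orderOf g) (hx : ¬ p ∣ orderOf x)
    (hc : ⁅g, x⁆ ∈ C ⊔ D) :
    ∃ d ∈ D, ∃ d' ∈ D, ¬ p ∣ orderOf (g * d) ∧ ¬ p ∣ orderOf (x * d') ∧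
      ⁅g * d, x * d'⁆ ∈ C := by
  have hp : p.Prime := Fact.out
  set A := C ⊔ D ⊔ Subgroup.zpowers g ⊔ Subgroup.zpowers x with hA
  have hDA : D ≤ A := le_trans (le_trans le_sup_right le_sup_left) le_sup_left
  have hxn : x ∈ Subgroup.normalizer
      ((C ⊔ D ⊔ Subgroup.zpowers g : Subgroup G) : Set G) :=
    mem_normalizer_sup_zpowers (mem_normalizer_of_normal x)
      (by rw [← commutatorElement_inv]; exact inv_mem hc)
  have hcard : Nat.card A ∣ orderOf x * (orderOf g * (Nat.card C * Nat.card D)) := by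
    have e1 : Nat.card A ∣ Nat.card (Subgroup.zpowers x) *
        Nat.card (C ⊔ D ⊔ Subgroup.zpowers g : Subgroup G) := by
      rw [hA, sup_comm (C ⊔ D ⊔ Subgroup.zpowers g) (Subgroup.zpowers x)]
      exact Coprime.card_sup_dvd (Subgroup.zpowers_le.mpr hxn)
    have e2 : Nat.card (C ⊔ D ⊔ Subgroup.zpowers g : Subgroup G) ∣
        Nat.card (Subgroup.zpowers g) * Nat.card (C ⊔ D : Subgroup G) :=
      (sup_comm (C ⊔ D) (Subgroup.zpowers g)) ▸
        Coprime.card_sup_dvd (Subgroup.zpowers_le.mpr (mem_normalizer_of_normal g))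
    have e3 : Nat.card (C ⊔ D : Subgroup G) ∣ Nat.card C * Nat.card D :=
      Coprime.card_sup_dvd (fun _ _ => mem_normalizer_of_normal _)
    rw [Nat.card_zpowers] at e1 e2
    exact e1.trans (Nat.mul_dvd_mul_left _ (e2.trans (Nat.mul_dvd_mul_left _ e3)))
  have hrel : ¬ p ∣ D.relIndex A := by
    intro hd
    have h1 : Nat.card D * D.relIndex A = Nat.card A := by
      rw [Subgroup.relIndex, ← Nat.card_congr (Subgroup.subgroupOfEquivOfLe hDA).toEquiv,
        Subgroup.card_mul_index]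
    rw [← h1, show orderOf x * (orderOf g * (Nat.card C * Nat.card D)) =
      Nat.card D * (orderOf x * (orderOf g * Nat.card C)) by ring] at hcard
    rcases hp.dvd_mul.mp (hd.trans (Nat.dvd_of_mul_dvd_mul_left Nat.card_pos hcard)) with h | h
    · exact hx h
    rcases hp.dvd_mul.mp h with h | h
    exacts [hg h, hC h]
  obtain ⟨i, hi⟩ := hD.exists_card_eq
  have hcop : (Nat.card D).Coprime (D.relIndex A) := by
    rw [hi]; exact (hp.coprime_iff_not_dvd.mpr hrel).pow_left i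
  obtain ⟨B, hBA, hBcard, hBD⟩ :=
    Coprime.exists_complement_in hDA (fun _ _ => mem_normalizer_of_normal _) hcop
  have hBp : ∀ b ∈ B, ¬ p ∣ orderOf b := fun b hb hd =>
    hrel (hd.trans (hBcard ▸ B.orderOf_dvd_natCard hb))
  have dec : ∀ y ∈ A, ∃ d ∈ D, y * d ∈ B := by
    intro y hy
    obtain ⟨b, hb, d, hd, rfl⟩ := (Coprime.mem_sup_iff_of_le_normalizer
      (fun _ _ => mem_normalizer_of_normal _)).mp
      (show y ∈ B ⊔ D by rw [sup_comm, hBD]; exact hy)
    exact ⟨d⁻¹, inv_mem hd, by rwa [mul_inv_cancel_right]⟩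
  obtain ⟨d, hd, hgd⟩ :=
    dec g (Subgroup.mem_sup_left (Subgroup.mem_sup_right (Subgroup.mem_zpowers g)))
  obtain ⟨d', hd', hxd⟩ := dec x (Subgroup.mem_sup_right (Subgroup.mem_zpowers x))
  refine ⟨d, hd, d', hd', hBp _ hgd, hBp _ hxd, ?_⟩
  have hcB : ⁅g * d, x * d'⁆ ∈ B :=
    B.mul_mem (B.mul_mem (B.mul_mem hgd hxd) (B.inv_mem hgd)) (B.inv_mem hxd)
  have hcCD : ⁅g * d, x * d'⁆ ∈ C ⊔ D := by
    haveI : (C ⊔ D : Subgroup G).Normal := inferInstance
    have hd1 : (d : G ⧸ (C ⊔ D)) = 1 :=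
      (QuotientGroup.eq_one_iff d).mpr (Subgroup.mem_sup_right hd)
    have hd1' : (d' : G ⧸ (C ⊔ D)) = 1 :=
      (QuotientGroup.eq_one_iff d').mpr (Subgroup.mem_sup_right hd')
    rw [← QuotientGroup.eq_one_iff, ← QuotientGroup.mk'_apply, map_commutatorElement,
      QuotientGroup.mk'_apply, QuotientGroup.mk'_apply, QuotientGroup.mk_mul, QuotientGroup.mk_mul,
      hd1, hd1', mul_one, mul_one, ← QuotientGroup.mk'_apply, ← QuotientGroup.mk'_apply,
      ← map_commutatorElement, QuotientGroup.mk'_apply, QuotientGroup.eq_one_iff]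
    exact hc
  obtain ⟨c, hcC, e, heD, hce⟩ :=
    (Coprime.mem_sup_iff_of_le_normalizer (fun _ _ => mem_normalizer_of_normal _)).mp hcCD
  have he1 : e = 1 := by
    have hdisj : C ⊓ D = ⊥ := Coprime.inf_eq_bot_of_coprime (by
      rw [hi]; exact ((hp.coprime_iff_not_dvd.mpr hC).symm).pow_right i)
    have hcomm : Commute c e := by
      have h : ⁅c, e⁆ ∈ C ⊓ D := by
        refine ⟨?_, ?_⟩
        · rw [show ⁅c, e⁆ = c * (e * c⁻¹ * e⁻¹) by simp [commutatorElement_def, mul_assoc]]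
          exact C.mul_mem hcC (Subgroup.Normal.conj_mem inferInstance _ (inv_mem hcC) e)
        · exact D.mul_mem (Subgroup.Normal.conj_mem inferInstance _ heD c) (inv_mem heD)
      rw [hdisj, Subgroup.mem_bot] at h
      exact commutatorElement_eq_one_iff_commute.mp h
    set n := orderOf ⁅g * d, x * d'⁆
    have hpow : c ^ n * e ^ n = 1 := by rw [← hcomm.mul_pow, hce, pow_orderOf_eq_one]
    have hen : e ^ n = 1 := by
      rw [← Subgroup.mem_bot, ← hdisj]
      exact ⟨(eq_inv_of_mul_eq_one_right hpow) ▸ C.inv_mem (C.pow_mem hcC n), D.pow_mem heD n⟩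
    have hep : e ^ p ^ i = 1 := by
      rw [← hi]
      exact congrArg Subtype.val (pow_card_eq_one' (x := (⟨e, heD⟩ : D)))
    have hg' : n.gcd (p ^ i) = 1 :=
      ((hp.coprime_iff_not_dvd.mpr (hBp _ hcB)).symm).pow_right i
    have := pow_gcd_eq_one.mpr ⟨hen, hep⟩
    rwa [hg', pow_one] at this
  rw [← hce, he1, mul_one]
  exact hcC

section Kap

variable {M : Subgroup G} {V : Type*} [AddCommGroup V] [Module ℂ V] [FiniteDimensional ℂ V]
  {R : Representation ℂ M V} [R.IsIrreducible]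

/-- Only the parts of order prime to `p` matter when the `p`-parts pair trivially. -/
theorem kap_eq_prime_part {g x : G} (hg : Fixes R g) (hx : Fixes R x) (hc : ⁅g, x⁆ ∈ M)
    {a b a' b' : ℕ} (e : g = g ^ a * g ^ b) (e' : x = x ^ a' * x ^ b')
    (hga : ∃ i : ℕ, (g ^ a) ^ p ^ i = 1) (hgb : ¬ p ∣ orderOf (g ^ b))
    (hxa : ∃ i : ℕ, (x ^ a') ^ p ^ i = 1) (hxb : ¬ p ∣ orderOf (x ^ b'))
    (h1 : kap R (g ^ a) (x ^ a') = 1) :
    kap R g x = kap R (g ^ b) (x ^ b') := by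
  have hp : p.Prime := Fact.out
  have hcc : ∀ m n : ℕ, ⁅g ^ m, x ^ n⁆ ∈ M := fun m n => by
    have h2 : ⁅x, g ^ m⁆ ∈ M := by
      rw [← commutatorElement_inv]; exact M.inv_mem (commutator_pow_mem hg.1 hc m)
    rw [← commutatorElement_inv]
    exact M.inv_mem (commutator_pow_mem hx.1 h2 n)
  have mixed : ∀ m n : ℕ, (orderOf (g ^ m)).Coprime (orderOf (x ^ n)) →
      kap R (g ^ m) (x ^ n) = 1 := fun m n hcop => by
    have a1 := kap_pow_orderOf_left (hg.pow m) (hx.pow n) (hcc m n)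
    have hc' : ⁅x ^ n, g ^ m⁆ ∈ M := by rw [← commutatorElement_inv]; exact M.inv_mem (hcc m n)
    have a2 := kap_pow_orderOf_left (hx.pow n) (hg.pow m) hc'
    rw [kap_swap (hg.pow m) (hx.pow n) (hcc m n), inv_pow, inv_eq_one] at a2
    have := pow_gcd_eq_one.mpr ⟨a1, a2⟩
    rwa [hcop.gcd_eq_one, pow_one] at this
  have copr : ∀ y z : G, (∃ i : ℕ, y ^ p ^ i = 1) → ¬ p ∣ orderOf z →
      (orderOf y).Coprime (orderOf z) := fun y z ⟨i, hi⟩ hz =>
    Nat.Coprime.coprime_dvd_left (orderOf_dvd_of_pow_eq_one hi)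
      ((hp.coprime_iff_not_dvd.mpr hz).pow_left i)
  have hgx : ∀ m : ℕ, ⁅g ^ m, x ^ a' * x ^ b'⁆ ∈ M := fun m => by
    rw [← pow_add]; exact hcc _ _
  conv_lhs => rw [e, e']
  rw [kap_mul_left (hg.pow a) (hg.pow b) ((hx.pow a').mul (hx.pow b')) (hgx a) (hgx b),
    kap_mul_right (hg.pow a) (hx.pow a') (hx.pow b') (hcc _ _) (hcc _ _),
    kap_mul_right (hg.pow b) (hx.pow a') (hx.pow b') (hcc _ _) (hcc _ _), h1,
    mixed a b' (copr _ _ hga hxb), mixed b a' (copr _ _ hxa hgb).symm, one_mul, one_mul, one_mul]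

end Kap

/-- Sums of functions constant on the cosets of `K` reindex to a supplement. -/
theorem sum_coset_reindex {K C T T' : Subgroup G} (hKT : K ≤ T) (hT'T : T' ≤ T)
    (hC : C = K ⊓ T') (hdec : ∀ t ∈ T, ∃ n ∈ T', ∃ k ∈ K, t = n * k) [Fintype T] [Fintype T']
    {β : Type*} [AddCommMonoid β] (f : G → β) (hf : ∀ t ∈ T, ∀ k ∈ K, f (t * k) = f t) :
    Nat.card C • ∑ t : T, f t = Nat.card K • ∑ n : T', f n := by
  classical
  haveI := Fintype.ofFinite K
  let F : T' × K → T := fun nk => ⟨nk.1 * nk.2, mul_mem (hT'T nk.1.2) (hKT nk.2.2)⟩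
  calc Nat.card C • ∑ t : T, f t = ∑ t : T, ∑ nk ∈ Finset.univ.filter (fun nk => F nk = t),
        f t := by
        rw [Finset.smul_sum]
        refine Finset.sum_congr rfl fun t _ => ?_
        rw [Finset.sum_const, ← Fintype.card_subtype, ← Nat.card_eq_fintype_card]
        congr 1
        obtain ⟨n, hn, k, hk, e⟩ := hdec t t.2
        refine (Nat.card_congr ?_).symm
        refine
          { toFun := fun nk => (⟨n⁻¹ * nk.1.1, ?_⟩ : C)
            invFun := fun c => ⟨(⟨n * c, ?_⟩, ⟨(c : G)⁻¹ * k, ?_⟩), ?_⟩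
            left_inv := fun nk => ?_
            right_inv := fun c => Subtype.ext (inv_mul_cancel_left n (c : G)) }
        · have h : (nk.1.1 : G) * nk.1.2 = t := congrArg Subtype.val nk.2
          rw [hC]
          refine ⟨?_, T'.mul_mem (T'.inv_mem hn) nk.1.1.2⟩
          rw [show n⁻¹ * (nk.1.1 : G) = k * (nk.1.2 : G)⁻¹ by
            rw [eq_mul_inv_iff_mul_eq, mul_assoc, h, e, inv_mul_cancel_left]]
          exact K.mul_mem hk (K.inv_mem nk.1.2.2)
        · exact T'.mul_mem hn (hC.le c.2).2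
        · exact K.mul_mem (K.inv_mem (hC.le c.2).1) hk
        · apply Subtype.ext
          show n * (c : G) * ((c : G)⁻¹ * k) = t
          rw [e]; group
        · have h : (nk.1.1 : G) * nk.1.2 = t := congrArg Subtype.val nk.2
          refine Subtype.ext (Prod.ext (Subtype.ext (mul_inv_cancel_left n (nk.1.1 : G)))
            (Subtype.ext ?_))
          show (n⁻¹ * (nk.1.1 : G))⁻¹ * k = nk.1.2
          rw [e] at h
          rw [mul_inv_rev, inv_inv, mul_assoc, ← h, inv_mul_cancel_left]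
    _ = ∑ nk : T' × K, f (F nk) := by
        rw [← Finset.sum_fiberwise (s := Finset.univ) F fun nk => f (F nk)]
        exact Finset.sum_congr rfl fun t _ => Finset.sum_congr rfl fun nk hnk => by
          rw [(Finset.mem_filter.mp hnk).2]
    _ = ∑ n : T', ∑ _k : K, f n := by
        rw [Fintype.sum_prod_type]
        exact Finset.sum_congr rfl fun n _ => Finset.sum_congr rfl fun k _ =>
          hf n (hT'T n.2) k k.2
    _ = Nat.card K • ∑ n : T', f n := by
        rw [Finset.smul_sum]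
        refine Finset.sum_congr rfl fun n _ => ?_
        rw [Finset.sum_const, Finset.card_univ, Nat.card_eq_fintype_card]

theorem card_coset_reindex {K C T T' : Subgroup G} (hKT : K ≤ T) (hT'T : T' ≤ T)
    (hC : C = K ⊓ T') (hdec : ∀ t ∈ T, ∃ n ∈ T', ∃ k ∈ K, t = n * k) :
    Nat.card C * Nat.card T = Nat.card K * Nat.card T' := by
  haveI := Fintype.ofFinite T
  haveI := Fintype.ofFinite T'
  have h := sum_coset_reindex hKT hT'T hC hdec (fun _ => (1 : ℕ)) fun _ _ _ _ => rfl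
  simpa [Nat.card_eq_fintype_card] using h

/-- No character of degree prime to `p` when `ω` is nontrivial on a `p`-element of the derived
group. -/
theorem card_eq_zero_of_bad {Z : Subgroup G} (hZ : Z ≤ Subgroup.center G) (ω : Z →* ℂˣ) {z : Z}
    (hzp : ∃ i : ℕ, (z : G) ^ p ^ i = 1) (hzc : (z : G) ∈ commutator G) (hω : ω z ≠ 1) :
    Nat.card {χ : IrrCharacter G // ¬ p ∣ charDegree (χ : G → ℂ) ∧
      Over Z.subtype (fun z => (ω z : ℂ)) (χ : G → ℂ)} = 0 := by
  refine Nat.card_eq_zero.mpr (Or.inl ⟨?_⟩)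
  rintro ⟨χ, hd, ho⟩
  obtain ⟨n, W, hW, hWχ⟩ := χ.2
  haveI := hW
  have hz := (over_central_iff Z.subtype (fun z => hZ z.2) ω W).mp (by rw [hWχ]; exact ho) z
  refine hω (Units.ext ?_)
  rw [Units.val_one]
  exact eq_one_of_commutator W (by rwa [← hWχ, charDegree_character] at hd) hz hzp hzc

namespace Side

variable (E : Side p G)

/-- The characters considered. -/
abbrev Chi : Type u :=
  {χ : IrrCharacter G // ¬ p ∣ charDegree (χ : G → ℂ) ∧
    Over E.Z.subtype (fun z => (E.ω z : ℂ)) (χ : G → ℂ)}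

/-- Compatibility with `ω` of a character of `K`. -/
def Compat (θ : E.K → ℂ) : Prop :=
  ∀ (z : E.Z) (hz : (z : G) ∈ E.K), θ ⟨z, hz⟩ = (E.ω z : ℂ) * θ 1

theorem rep_of_compat {k : ℕ} (ρ : Representation ℂ E.K (Fin k → ℂ)) [ρ.IsIrreducible]
    (h : E.Compat ρ.character) (z : E.Z) (hz : (z : G) ∈ E.K) :
    ρ ⟨z, hz⟩ = (E.ω z : ℂ) • 1 := by
  haveI := nontrivial_of_isIrreducible ρ
  obtain ⟨c, hc⟩ := schur_scalar ρ (ρ ⟨z, hz⟩) fun w => by
    rw [← map_mul, ← map_mul, show (⟨z, hz⟩ : E.K) * w = w * ⟨z, hz⟩ from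
      Subtype.ext ((Subgroup.mem_center_iff.mp (E.central z.2)) w).symm]
  rw [hc]
  congr 1
  have h1 := h z hz
  change LinearMap.trace ℂ _ (ρ ⟨z, hz⟩) = _ * LinearMap.trace ℂ _ (ρ 1) at h1
  rw [hc, map_one, map_smul, LinearMap.trace_one, smul_eq_mul] at h1
  exact mul_right_cancel₀ (Nat.cast_ne_zero.mpr (finrank_pos_of_isIrreducible ρ).ne') h1

theorem compat_of_over {χ : IrrCharacter G}
    (hω : Over E.Z.subtype (fun z => (E.ω z : ℂ)) (χ : G → ℂ)) {θ : IrrCharacter E.K}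
    (h : Over E.K.subtype (θ : E.K → ℂ) (χ : G → ℂ)) : E.Compat (θ : E.K → ℂ) := by
  intro z hz
  obtain ⟨n, W, hW, hWχ⟩ := χ.2
  haveI := hW
  obtain ⟨m, A, hA, hAθ⟩ := θ.2
  haveI := hA
  have hWz := (over_central_iff E.Z.subtype (fun z => E.central z.2) E.ω W).mp
    (by rw [hWχ]; exact hω) z
  haveI := nontrivial_of_isIrreducible A
  obtain ⟨c, hc⟩ := schur_scalar A (A ⟨z, hz⟩) fun w => by
    rw [← map_mul, ← map_mul, show (⟨z, hz⟩ : E.K) * w = w * ⟨z, hz⟩ from
      Subtype.ext ((Subgroup.mem_center_iff.mp (E.central z.2)) w).symm]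
  have hcp : c ^ orderOf (⟨z, hz⟩ : E.K) = 1 := by
    have h2 := congrArg A (pow_orderOf_eq_one (⟨z, hz⟩ : E.K))
    rw [map_pow, hc, smul_pow, one_pow, map_one] at h2
    exact smul_left_injective ℂ one_ne_zero (h2.trans (one_smul ℂ _).symm)
  have hcc : c * conj c = 1 := by
    rw [Complex.mul_conj, Complex.normSq_eq_norm_sq,
      Complex.norm_eq_one_of_pow_eq_one hcp (orderOf_pos _).ne']
    simp
  have heq : (E.ω z : ℂ) = c := by
    refine scalar_eq_of_over (χ := (χ : G → ℂ)) (ξ := (θ : E.K → ℂ)) (⟨z, hz⟩ : E.K) ?_ ?_ hcc h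
    · intro w
      rw [← hWχ]
      exact character_smul_mul W hWz _
    · intro w
      rw [← hAθ]
      exact character_smul_mul A hc w
  rw [heq, ← hAθ]
  conv_lhs => rw [← mul_one (⟨z, hz⟩ : E.K)]
  exact character_smul_mul A hc 1

open scoped Classical in
/-- Sorting by representatives of the invariant compatible characters of `K`. -/
theorem card_eq_sum_reps [Fintype G] {ι : Type u} [Fintype ι] (θ : ι → IrrCharacter E.K)
    [E.K.Normal]
    (hθS : ∀ i, (E.S : Subgroup G) ≤ inertia E.K (θ i : E.K → ℂ))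
    (hcov : ∀ η : IrrCharacter E.K, (E.S : Subgroup G) ≤ inertia E.K (η : E.K → ℂ) →
      E.Compat (η : E.K → ℂ) → ∃ i, ∃ n ∈ Subgroup.normalizer ((E.S : Subgroup G) : Set G),
        conjFn E.K n (θ i : E.K → ℂ) = η)
    (huniq : ∀ i j, ∀ n ∈ Subgroup.normalizer ((E.S : Subgroup G) : Set G),
      conjFn E.K n (θ i : E.K → ℂ) = θ j → i = j) :
    Nat.card E.Chi = ∑ i, Nat.card {χ : IrrCharacter G // ¬ p ∣ charDegree (χ : G → ℂ) ∧
      Over E.Z.subtype (fun z => (E.ω z : ℂ)) (χ : G → ℂ) ∧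
      Over E.K.subtype (θ i : E.K → ℂ) (χ : G → ℂ)} := by
  rw [← Nat.card_sigma]
  symm
  refine Nat.card_congr (Equiv.ofBijective
    (fun x : Σ i, {χ : IrrCharacter G // ¬ p ∣ charDegree (χ : G → ℂ) ∧
      Over E.Z.subtype (fun z => (E.ω z : ℂ)) (χ : G → ℂ) ∧
      Over E.K.subtype (θ i : E.K → ℂ) (χ : G → ℂ)} =>
        (⟨x.2.1, x.2.2.1, x.2.2.2.1⟩ : E.Chi)) ⟨?_, ?_⟩)
  · rintro ⟨i, χ, hd, ho, hi⟩ ⟨j, χ', hd', ho', hj⟩ h
    obtain rfl : χ = χ' := congrArg (fun x => x.1) h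
    obtain ⟨n, hn, hn'⟩ := invariant_conj E.K E.S χ.2 (θ i).2 (θ j).2 (hθS i) (hθS j) hi hj
    obtain rfl := huniq i j n hn hn'
    rfl
  · rintro ⟨χ, hd, hχ⟩
    haveI := Fintype.ofFinite E.K
    haveI : (⊥ : Subgroup G).Normal := inferInstance
    have hbot : inertia (⊥ : Subgroup G) (fun _ => (1 : ℂ)) = ⊤ :=
      eq_top_iff.mpr fun g _ => (mem_inertia _).mpr fun _ => rfl
    have h1 : IsIrrCharacter (⊥ : Subgroup G) (fun _ => (1 : ℂ)) := by
      simpa [linFun_one] using isIrrCharacter_linFun (1 : (⊥ : Subgroup G) →* ℂˣ)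
    obtain ⟨η, hηS, hηχ, -⟩ := exists_invariant_between (⊥ : Subgroup G) E.K bot_le h1 hbot E.S
      χ.2 hd (by
        haveI := Fintype.ofFinite (⊥ : Subgroup G)
        rw [over_iff, Chars.inner_def]
        refine mul_ne_zero (inv_ne_zero (Chars.card_ne_zero _)) ?_
        rw [Fintype.sum_subsingleton _ (1 : (⊥ : Subgroup G))]
        simpa using Chars.irr_degree_ne_zero χ.2)
    obtain ⟨i, n, hn, hi⟩ := hcov η hηS (E.compat_of_over hχ hηχ)
    refine ⟨⟨i, χ, hd, hχ, ?_⟩, rfl⟩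
    refine over_iff.mpr ?_
    show classInner (fun k : E.K => (χ : G → ℂ) k) (θ i : E.K → ℂ) ≠ 0
    rw [← inner_restrict_conjFn E.K (Chars.isClassFunction_irr χ) n, hi]
    exact Over.inner (f := E.K.subtype) hηχ

end Side

end CfsgLib.RelMcKay
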