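import Cfsg.Agent.Lib.RelMcKay.Stab
import Cfsg.Agent.Lib.RelMcKay.Over
import Cfsg.Agent.Lib.CharsMore.Gallagher
import Cfsg.Agent.Lib.CharsMore.Extend
import Cfsg.Agent.Lib.Chars.Quotient

/-!
# The characters of `p'`-degree over a fixed character of a normal `p'`-subgroup `K`

For `Z` central with character `ω` and `K ⊔ S` normal they are the characters over a distinguished
extension of `θ` to `K ⊔ ⁅S, S⁆ ⊔ (S ⊓ Z)`.
-/

set_option autoImplicit false
set_option linter.unusedSectionVars false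
set_option linter.style.haveILetI false

open scoped commutatorElement ComplexConjugate
open Cfsg

namespace CfsgLib.RelMcKay

open CfsgLib CfsgLib.CharsMore

universe u

section General

variable {G : Type u} [Group G] [Finite G]

/-- Lying over passes through an intermediate subgroup. -/
theorem over_trans_iff {M L : Subgroup G} (hML : M ≤ L) {χ : G → ℂ} (hχ : IsCharacter G χ)
    (ψ : IrrCharacter M) :
    Over M.subtype (ψ : M → ℂ) χ ↔ ∃ δ : IrrCharacter L, Over L.subtype (δ : L → ℂ) χ ∧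
      Over (M.subgroupOf L).subtype
        (fun x => (ψ : M → ℂ) (Subgroup.subgroupOfEquivOfLe hML x)) (δ : L → ℂ) := by
  classical
  haveI := Fintype.ofFinite M
  haveI := Fintype.ofFinite L
  haveI := Fintype.ofFinite (M.subgroupOf L)
  haveI := Chars.irrFintype L
  have hres : IsCharacter L (fun l : L => χ l) := Chars.isCharacter_restrict L hχ
  choose a ha using fun δ : IrrCharacter L => Chars.inner_irr_right_nat hres δ
  choose b hb using fun δ : IrrCharacter L =>
    Chars.inner_irr_right_nat (isCharacter_res hML (Chars.isCharacter_of_irr δ.2)) ψ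
  have hexp := Chars.classFun_eq_sum (G := L) (Chars.isClassFunction_of_isCharacter hres)
  have hm : classInner (fun m : M => χ m) (ψ : M → ℂ) = ((∑ δ, a δ * b δ : ℕ) : ℂ) := by
    have e : (fun m : M => χ m) = ∑ δ : IrrCharacter L, classInner (fun l : L => χ l) δ •
        fun m : M => (δ : L → ℂ) ⟨m, hML m.2⟩ := by
      funext m
      have := congrFun hexp ⟨m, hML m.2⟩
      simp only [Finset.sum_apply, Pi.smul_apply] at this ⊢
      rw [← this]
    rw [e, Chars.inner_sum_left, Nat.cast_sum]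
    refine Finset.sum_congr rfl fun δ _ => ?_
    rw [Chars.inner_smul_left, ha, hb, Nat.cast_mul]
  have hb' : ∀ δ : IrrCharacter L, classInner (fun x : M.subgroupOf L => (δ : L → ℂ) x)
      (fun x => (ψ : M → ℂ) (Subgroup.subgroupOfEquivOfLe hML x)) = (b δ : ℂ) := fun δ => by
    rw [← hb δ, ← inner_comp_equiv (Subgroup.subgroupOfEquivOfLe hML)
      (fun m : M => (δ : L → ℂ) ⟨m, hML m.2⟩) (ψ : M → ℂ)]
    rfl
  simp only [over_iff, Subgroup.coe_subtype, hm, ha, hb', ne_eq, Nat.cast_eq_zero,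
    Finset.sum_eq_zero_iff, Finset.mem_univ, forall_const, mul_eq_zero]
  simp only [not_forall, not_or]

/-- Characters above one another agree on common central scalars. -/
theorem scalar_eq_of_over {L : Subgroup G} {χ : G → ℂ} {ξ : L → ℂ} (z : L) {c d : ℂ}
    (hc : ∀ x : L, χ ((z : G) * x) = c * χ x) (hd : ∀ x, ξ (z * x) = d * ξ x)
    (hdd : d * conj d = 1) (h : Over L.subtype ξ χ) : c = d := by
  classical
  haveI := Fintype.ofFinite L
  rw [over_iff, Chars.inner_def] at h
  simp only [Subgroup.coe_subtype] at h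
  have hs : (∑ x : L, χ x * conj (ξ x)) = (c * conj d) * ∑ x : L, χ x * conj (ξ x) := by
    rw [Finset.mul_sum]
    refine (Fintype.sum_equiv (Equiv.mulLeft z) _ _ fun x => ?_).symm
    show c * conj d * (χ x * conj (ξ x)) = χ ((z * x : L) : G) * conj (ξ (z * x))
    rw [hd, Subgroup.coe_mul, hc, map_mul]
    ring
  have h1 : c * conj d = 1 := by
    by_contra hne
    have h0 : (1 - c * conj d) * ∑ x : L, χ x * conj (ξ x) = 0 := by linear_combination hs
    rcases mul_eq_zero.mp h0 with h0 | h0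
    · exact hne (sub_eq_zero.mp h0).symm
    · exact h (by rw [h0, mul_zero])
  calc c = c * (d * conj d) := by rw [hdd, mul_one]
    _ = d * (c * conj d) := by ring
    _ = d := by rw [h1, mul_one]

theorem character_smul_mul {X : Type u} [Group X] {n : ℕ} (R : Representation ℂ X (Fin n → ℂ))
    {z : X} {c : ℂ} (hz : R z = c • 1) (x : X) : R.character (z * x) = c * R.character x := by
  show LinearMap.trace ℂ _ (R (z * x)) = c * LinearMap.trace ℂ _ (R x)
  rw [map_mul, hz, smul_mul_assoc, one_mul, map_smul, smul_eq_mul]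

/-- A representation multiplied by a linear character. -/
noncomputable def twistRep {X : Type u} [Group X] {V : Type*} [AddCommGroup V] [Module ℂ V]
    (μ : X →* ℂˣ) (R : Representation ℂ X V) : Representation ℂ X V where
  toFun x := (μ x : ℂ) • R x
  map_one' := by simp
  map_mul' x y := by rw [smul_mul_smul_comm, map_mul, map_mul, Units.val_mul]

theorem character_twistRep {X : Type u} [Group X] {V : Type*} [AddCommGroup V] [Module ℂ V]
    (μ : X →* ℂˣ) (R : Representation ℂ X V) (x : X) :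
    (twistRep μ R).character x = (μ x : ℂ) * R.character x := by
  show LinearMap.trace ℂ V ((μ x : ℂ) • R x) = _
  rw [map_smul, smul_eq_mul]
  rfl

end General

/-- The data of one side of the central case. -/
structure Side (p : ℕ) (G : Type u) [Group G] where
  /-- The central subgroup. -/
  Z : Subgroup G
  /-- The normal `p'`-subgroup. -/
  K : Subgroup G
  /-- The Sylow subgroup. -/
  S : Sylow p G
  /-- The linear character of `Z`. -/
  ω : Z →* ℂˣ
  central : Z ≤ Subgroup.center G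
  normalK : K.Normal
  normalKS : (K ⊔ (S : Subgroup G)).Normal
  not_dvd : ¬ p ∣ Nat.card K
  le_sup : Z ≤ K ⊔ ((S : Subgroup G) ⊓ Z)
  good : ∀ z : Z, (z : G) ∈ (S : Subgroup G) →
    (z : G) ∈ ⁅(S : Subgroup G), (S : Subgroup G)⁆ → ω z = 1

namespace Side

variable {p : ℕ} [Fact p.Prime] {G : Type u} [Group G] [Finite G] (E : Side p G)

/-- `⁅S, S⁆ ⊔ (S ⊓ Z)`. -/
def D : Subgroup G :=
  ⁅(E.S : Subgroup G), (E.S : Subgroup G)⁆ ⊔ ((E.S : Subgroup G) ⊓ E.Z)

/-- The subgroup carrying the extended character. -/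
def M : Subgroup G := E.K ⊔ E.D

theorem D_le : E.D ≤ E.S := sup_le (Subgroup.commutator_le_self _) inf_le_left

theorem frattini (g : G) :
    ∃ k ∈ E.K, ∃ n ∈ Subgroup.normalizer ((E.S : Subgroup G) : Set G), g = k * n := by
  haveI := E.normalKS
  haveI := E.normalK
  have h := Sylow.normalizer_sup_eq_top' (N := E.K ⊔ (E.S : Subgroup G)) E.S le_sup_right
  have h2 : g ∈ Subgroup.normalizer ((E.S : Subgroup G) : Set G) ⊔ E.K := by
    have hle : Subgroup.normalizer ((E.S : Subgroup G) : Set G) ⊔ (E.K ⊔ (E.S : Subgroup G)) ≤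
        Subgroup.normalizer ((E.S : Subgroup G) : Set G) ⊔ E.K :=
      sup_le le_sup_left (sup_le le_sup_right (le_trans Subgroup.le_normalizer le_sup_left))
    exact hle (h.ge (Subgroup.mem_top g))
  obtain ⟨n, hn, k, hk, rfl⟩ :=
    (Coprime.mem_sup_iff_of_le_normalizer (fun _ _ => mem_normalizer_of_normal _)).mp h2
  exact ⟨n * k * n⁻¹, E.normalK.conj_mem k hk n, n, hn, by group⟩

theorem mem_normalizer_D {n : G} (hn : n ∈ Subgroup.normalizer ((E.S : Subgroup G) : Set G)) :
    n ∈ Subgroup.normalizer (E.D : Set G) := by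
  refine Coprime.le_normalizer_sup_sup (Subgroup.zpowers_le.mpr (mem_normalizer_commutator hn))
    (Subgroup.zpowers_le.mpr ?_) (Subgroup.mem_zpowers n)
  refine Coprime.le_normalizer_inf_inf (Subgroup.zpowers_le.mpr hn) (Subgroup.zpowers_le.mpr ?_)
    (Subgroup.mem_zpowers n)
  refine Subgroup.centralizer_le_normalizer _ (Subgroup.mem_centralizer_iff.mpr fun z hz => ?_)
  exact (Subgroup.mem_center_iff.mp (E.central hz) n).symm

theorem normalM : E.M.Normal := by
  haveI := E.normalK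
  rw [← Subgroup.normalizer_eq_top_iff, eq_top_iff]
  intro g _
  obtain ⟨k, hk, n, hn, rfl⟩ := E.frattini g
  refine mul_mem (Subgroup.le_normalizer (Subgroup.mem_sup_left hk)) ?_
  exact Coprime.le_normalizer_sup_sup (Subgroup.zpowers_le.mpr (mem_normalizer_of_normal n))
    (Subgroup.zpowers_le.mpr (E.mem_normalizer_D hn)) (Subgroup.mem_zpowers n)

theorem Z_le_M : E.Z ≤ E.M :=
  E.le_sup.trans (sup_le_sup_left (by exact le_sup_right) _)

theorem M_le : E.M ≤ E.K ⊔ (E.S : Subgroup G) := sup_le_sup_left E.D_le _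

theorem commutator_mem_M {s t : G} (hs : s ∈ (E.S : Subgroup G)) (ht : t ∈ (E.S : Subgroup G)) :
    ⁅s, t⁆ ∈ E.M :=
  Subgroup.mem_sup_right (Subgroup.mem_sup_left (Subgroup.commutator_mem_commutator hs ht))

theorem inf_eq_bot : E.K ⊓ (E.S : Subgroup G) = ⊥ := by
  refine Coprime.inf_eq_bot_of_coprime ?_
  obtain ⟨i, hi⟩ := E.S.2.exists_card_eq
  rw [hi]
  exact (((Fact.out : p.Prime).coprime_iff_not_dvd.mpr E.not_dvd).symm).pow_right i

/-- A linear character of `K ⊔ S` trivial on `K` and extending `ω` on `S ⊓ Z`. -/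
theorem exists_linear :
    ∃ μ : ↥(E.K ⊔ (E.S : Subgroup G)) →* ℂˣ,
      (∀ x : ↥(E.K ⊔ (E.S : Subgroup G)), (x : G) ∈ E.K ⊔ ⁅(E.S : Subgroup G), (E.S : Subgroup G)⁆ →
        μ x = 1) ∧
      ∀ (z : E.Z) (x : ↥(E.K ⊔ (E.S : Subgroup G))), (x : G) = z → (z : G) ∈ (E.S : Subgroup G) →
        μ x = E.ω z := by
  haveI := E.normalK
  set L := E.K ⊔ (E.S : Subgroup G)
  set S' := ⁅(E.S : Subgroup G), (E.S : Subgroup G)⁆
  have hcomm : ∀ a ∈ L, ∀ b ∈ L, ⁅a, b⁆ ∈ E.K ⊔ S' := by
    intro a ha b hb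
    have dec : ∀ a ∈ L, ∃ s ∈ (E.S : Subgroup G), (a : G ⧸ E.K) = s := fun a ha => by
      obtain ⟨s, hs, k, hk, rfl⟩ := (Coprime.mem_sup_iff_of_le_normalizer
        (fun _ _ => mem_normalizer_of_normal _)).mp
        (show a ∈ (E.S : Subgroup G) ⊔ E.K by rwa [sup_comm])
      exact ⟨s, hs, by rw [QuotientGroup.mk_mul, (QuotientGroup.eq_one_iff k).mpr hk, mul_one]⟩
    obtain ⟨s, hs, es⟩ := dec a ha
    obtain ⟨t, ht, et⟩ := dec b hb
    have e : ((⁅a, b⁆ : G) : G ⧸ E.K) = ((⁅s, t⁆ : G) : G ⧸ E.K) := by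
      rw [show ((⁅a, b⁆ : G) : G ⧸ E.K) = ⁅(a : G ⧸ E.K), (b : G ⧸ E.K)⁆ from
        map_commutatorElement (QuotientGroup.mk' E.K) a b, es, et]
      exact (map_commutatorElement (QuotientGroup.mk' E.K) s t).symm
    rw [QuotientGroup.eq] at e
    have hst : ⁅s, t⁆ ∈ E.K ⊔ S' :=
      Subgroup.mem_sup_right (Subgroup.commutator_mem_commutator hs ht)
    have hkk : ⁅a, b⁆⁻¹ * ⁅s, t⁆ ∈ E.K ⊔ S' := Subgroup.mem_sup_left e
    have := mul_mem hst (inv_mem hkk)
    rwa [mul_inv_rev, inv_inv, mul_inv_cancel_left] at this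
  set M0 := (E.K ⊔ S').subgroupOf L with hM0
  haveI hn0 : M0.Normal := ⟨fun x hx g => by
    rw [hM0, Subgroup.mem_subgroupOf] at hx ⊢
    rw [show ((g * x * g⁻¹ : L) : G) = ⁅(g : G), (x : G)⁆ * x by simp [commutatorElement_def]]
    exact mul_mem (hcomm _ g.2 _ x.2) hx⟩
  letI : CommGroup (L ⧸ M0) :=
    { (inferInstance : Group (L ⧸ M0)) with
      mul_comm := fun a b => by
        obtain ⟨a, rfl⟩ := QuotientGroup.mk_surjective a
        obtain ⟨b, rfl⟩ := QuotientGroup.mk_surjective b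
        rw [← QuotientGroup.mk_mul, ← QuotientGroup.mk_mul, QuotientGroup.eq, hM0,
          Subgroup.mem_subgroupOf]
        have := hcomm _ (inv_mem b.2) _ (inv_mem a.2)
        simpa [commutatorElement_def, mul_assoc] using this }
  let j : ↥((E.S : Subgroup G) ⊓ E.Z) →* L ⧸ M0 :=
    (QuotientGroup.mk' M0).comp
      (Subgroup.inclusion ((inf_le_left : (E.S : Subgroup G) ⊓ E.Z ≤ _).trans le_sup_right))
  let l : ↥((E.S : Subgroup G) ⊓ E.Z) →* ℂˣ := E.ω.comp (Subgroup.inclusion inf_le_right)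
  have hker : j.rangeRestrict.ker ≤ l.ker := by
    intro z hz
    rw [MonoidHom.ker_rangeRestrict] at hz
    have hz' : (z : G) ∈ S' ⊔ E.K := by
      have := (QuotientGroup.eq_one_iff _).mp hz
      rw [hM0, Subgroup.mem_subgroupOf] at this
      rw [sup_comm]
      exact this
    obtain ⟨c, hc, k, hk, e⟩ := (Coprime.mem_sup_iff_of_le_normalizer
      (fun _ _ => mem_normalizer_of_normal _)).mp hz'
    have hk1 : k = 1 := by
      rw [← Subgroup.mem_bot, ← E.inf_eq_bot]
      refine ⟨hk, ?_⟩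
      rw [show k = c⁻¹ * z by rw [← e]; group]
      exact (E.S : Subgroup G).mul_mem
        ((E.S : Subgroup G).inv_mem (Subgroup.commutator_le_self _ hc)) z.2.1
    rw [hk1, mul_one] at e
    exact E.good _ z.2.1 (e ▸ hc)
  obtain ⟨φ, hφ⟩ := MonoidHom.restrict_surjective (G := L ⧸ M0) (M := ℂ) j.range
    (j.rangeRestrict.liftOfSurjective j.rangeRestrict_surjective ⟨l, hker⟩)
  refine ⟨φ.comp (QuotientGroup.mk' M0), fun x hx => ?_, fun z x hxz hzS => ?_⟩
  · show φ (QuotientGroup.mk' M0 x) = 1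
    rw [show QuotientGroup.mk' M0 x = 1 from (QuotientGroup.eq_one_iff x).mpr hx, map_one]
  · set w : ↥((E.S : Subgroup G) ⊓ E.Z) := ⟨z, hzS, z.2⟩
    have h1 : QuotientGroup.mk' M0 x = j w := congrArg (QuotientGroup.mk' M0) (Subtype.ext hxz)
    show φ (QuotientGroup.mk' M0 x) = E.ω z
    rw [h1]
    have h2 := DFunLike.congr_fun hφ (j.rangeRestrict w)
    refine h2.trans ?_
    rw [MonoidHom.liftOfRightInverse_comp_apply]
    rfl

set_option maxHeartbeats 400000 in
/-- The extension and its properties. -/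
theorem exists_ext {k : ℕ} (ρ : Representation ℂ E.K (Fin k → ℂ)) [ρ.IsIrreducible]
    (hS : ∀ s ∈ (E.S : Subgroup G), Fixes ρ s)
    (hω : ∀ (z : E.Z) (hz : (z : G) ∈ E.K), ρ ⟨z, hz⟩ = (E.ω z : ℂ) • 1) :
    ∃ R : Representation ℂ E.M (Fin k → ℂ), R.IsIrreducible ∧
      (∀ h : E.K, R (Subgroup.inclusion le_sup_left h) = ρ h) ∧
      (∀ g, Fixes R g ↔ Fixes ρ g) ∧
      (∀ s ∈ (E.S : Subgroup G), ∀ t ∈ (E.S : Subgroup G), kap R s t = 1) ∧
      ∀ χ : IrrCharacter G,
        (¬ p ∣ charDegree (χ : G → ℂ) ∧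
          (∑ᶠ z, (χ : G → ℂ) (E.Z.subtype z) * conj (E.ω z : ℂ)) ≠ 0 ∧
          Over E.K.subtype ρ.character (χ : G → ℂ)) ↔ Over E.M.subtype R.character (χ : G → ℂ) := by
  classical
  haveI := E.normalK
  haveI := E.normalKS
  haveI := E.normalM
  have hp : p.Prime := Fact.out
  set N' := E.K.subgroupOf (E.K ⊔ (E.S : Subgroup G))
  set e := Subgroup.subgroupOfEquivOfLe (le_sup_left : E.K ≤ E.K ⊔ (E.S : Subgroup G))
  set ρ' : Representation ℂ N' (Fin k → ℂ) := ρ.comp e.toMonoidHom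
  haveI : ρ'.IsIrreducible := Chars.isIrreducible_comp e.toMonoidHom e.surjective ρ
  have hfix : ∀ z : ↥(E.K ⊔ (E.S : Subgroup G)), Fixes ρ (z : G) := fun z =>
    (sup_le (fun a ha => fixes_of_mem ha) hS : E.K ⊔ (E.S : Subgroup G) ≤ fixSub ρ) z.2
  have hinv : IsInvariant N' ρ' := fun z => by
    obtain ⟨T, hT⟩ := (hfix z).2
    exact ⟨T, fun n => hT (e n) (e (conjBy N' z n)) rfl⟩
  have hdetinv : ∀ z n, detHom ρ' (conjBy N' z n) = detHom ρ' n := fun z n => by
    obtain ⟨T, hT⟩ := hinv z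
    have h := congrArg LinearMap.det (hT n)
    rw [map_mul, map_mul, mul_comm] at h
    exact Units.ext (mul_right_cancel₀ (T.isUnit.map LinearMap.det).ne_zero h).symm
  obtain ⟨i, hi⟩ := E.S.2.exists_card_eq
  have hN'card : Nat.card N' = Nat.card E.K := Nat.card_congr e.toEquiv
  have hidx : N'.index ∣ p ^ i := by
    have h2 : Nat.card ↥(E.K ⊔ (E.S : Subgroup G)) ∣ Nat.card E.S * Nat.card E.K :=
      (sup_comm E.K (E.S : Subgroup G)) ▸
        Coprime.card_sup_dvd (fun _ _ => mem_normalizer_of_normal _)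
    rw [← Subgroup.card_mul_index N', hN'card, mul_comm (Nat.card E.S)] at h2
    exact hi ▸ Nat.dvd_of_mul_dvd_mul_left Nat.card_pos h2
  have hkp : ¬ p ∣ k := fun h => E.not_dvd (h.trans (by
    simpa using Chars.finrank_dvd_card ρ))
  have hcopi : ∀ m, ¬ p ∣ m → m.Coprime N'.index := fun m hm =>
    Nat.Coprime.coprime_dvd_right hidx ((hp.coprime_iff_not_dvd.mpr hm).symm.pow_right i)
  have hcopdim : (Module.finrank ℂ (Fin k → ℂ)).Coprime N'.index := by
    rw [Module.finrank_fin_fun]; exact hcopi k hkp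
  have hordρ : ¬ p ∣ orderOf (detHom ρ') := fun h => E.not_dvd (h.trans (by
    refine orderOf_dvd_of_pow_eq_one (MonoidHom.ext fun n => ?_)
    rw [MonoidHom.pow_apply, ← map_pow, ← hN'card, pow_card_eq_one', map_one]
    rfl))
  obtain ⟨μd, ⟨hμd, hμdo⟩, hμdu⟩ :=
    exists_coprime_ext N' (detHom ρ') hdetinv (hcopi _ hordρ).symm
  obtain ⟨R1, ⟨hR1, hR1det⟩, hR1u⟩ := existsUnique_ext_det N' ρ' hcopdim
    (repExtends_of_det N' ρ' hinv hcopdim μd (fun n => by rw [hμd]; rfl)) μd hμd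
  have hR1irr := (isIrrExt_of_rep N' R1 hR1).1
  obtain ⟨μ, hμ1, hμω⟩ := E.exists_linear
  set R' := twistRep μ R1
  have hR'K : ∀ n : N', R' n = ρ' n := fun n => by
    show (μ (n : ↥(E.K ⊔ (E.S : Subgroup G))) : ℂ) • R1 n = ρ' n
    rw [hμ1 _ (Subgroup.mem_sup_left n.2), Units.val_one, one_smul, hR1]
  haveI hR'irr : R'.IsIrreducible := (isIrrExt_of_rep N' R' hR'K).1
  set R : Representation ℂ E.M (Fin k → ℂ) := R'.comp (Subgroup.inclusion E.M_le)
  have hRK : ∀ h : E.K, R (Subgroup.inclusion le_sup_left h) = ρ h := fun h =>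
    (hR'K (e.symm h)).trans (congrArg ρ (e.apply_symm_apply h))
  haveI hRirr : R.IsIrreducible := by
    have h : (MonoidHom.comp R (Subgroup.inclusion (show E.K ≤ E.M from le_sup_left)) :
        Representation ℂ E.K (Fin k → ℂ)) = ρ := MonoidHom.ext hRK
    haveI : Representation.IsIrreducible
        (MonoidHom.comp R (Subgroup.inclusion (show E.K ≤ E.M from le_sup_left)) :
          Representation ℂ E.K (Fin k → ℂ)) := by
      rw [h]
      infer_instance
    exact isIrreducible_of_comp (Subgroup.inclusion (show E.K ≤ E.M from le_sup_left)) R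
  -- central scalars
  have hR1z : ∀ (z : E.Z) (x : ↥(E.K ⊔ (E.S : Subgroup G))), (x : G) = z →
      (z : G) ∈ (E.S : Subgroup G) → R1 x = 1 := by
    intro z x hxz hzS
    haveI := hR1irr
    haveI := nontrivial_of_isIrreducible R1
    obtain ⟨c, hc⟩ := schur_scalar R1 (R1 x) fun w => by
      rw [← map_mul, ← map_mul, show x * w = w * x from Subtype.ext (by
        rw [Subgroup.coe_mul, Subgroup.coe_mul, hxz]
        exact ((Subgroup.mem_center_iff.mp (E.central z.2)) w).symm)]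
    have hxpow : x ^ p ^ i = 1 := Subtype.ext (by
      rw [SubmonoidClass.coe_pow, hxz, ← hi]
      exact congrArg Subtype.val (pow_card_eq_one' (x := (⟨z, hzS⟩ : (E.S : Subgroup G)))))
    have h1 : c ^ p ^ i = 1 := by
      have h2 := congrArg R1 hxpow
      rw [map_pow, hc, smul_pow, one_pow, map_one] at h2
      exact smul_left_injective ℂ one_ne_zero (h2.trans (one_smul ℂ _).symm)
    have h2 : c ^ k = 1 := by
      have h3 : μd x = 1 := by
        have a1 : μd x ^ p ^ i = 1 := by rw [← map_pow, hxpow, map_one]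
        have a2 : μd x ^ orderOf μd = 1 := by
          rw [← MonoidHom.pow_apply, pow_orderOf_eq_one]
          rfl
        have hg : (p ^ i).gcd (orderOf μd) = 1 :=
          (hp.coprime_iff_not_dvd.mpr (hμdo ▸ hordρ)).pow_left i
        have := pow_gcd_eq_one.mpr ⟨a1, a2⟩
        rwa [hg, pow_one] at this
      have h4 : (detHom R1 x : ℂ) = 1 := by rw [hR1det, h3, Units.val_one]
      rw [coe_detHom, hc, LinearMap.det_smul, map_one, mul_one, Module.finrank_fin_fun] at h4
      exact h4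
    have hg : k.gcd (p ^ i) = 1 := ((hp.coprime_iff_not_dvd.mpr hkp).symm).pow_right i
    have := pow_gcd_eq_one.mpr ⟨h2, h1⟩
    rw [hg, pow_one] at this
    rw [hc, this, one_smul]
  have hRZ : ∀ z : E.Z, R ⟨z, E.Z_le_M z.2⟩ = (E.ω z : ℂ) • 1 := by
    intro z
    obtain ⟨a, ha, b, hb, eab⟩ := (Coprime.mem_sup_iff_of_le_normalizer
      (fun _ _ => mem_normalizer_of_normal _)).mp
      (show (z : G) ∈ ((E.S : Subgroup G) ⊓ E.Z) ⊔ E.K by rw [sup_comm]; exact E.le_sup z.2)
    have hbZ : b ∈ E.Z := by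
      rw [show b = a⁻¹ * z by rw [← eab]; group]
      exact mul_mem (inv_mem ha.2) z.2
    have ez : (⟨z, E.Z_le_M z.2⟩ : E.M) =
        ⟨a, E.Z_le_M ha.2⟩ * Subgroup.inclusion le_sup_left (⟨b, hb⟩ : E.K) := Subtype.ext eab.symm
    have ha' : R ⟨a, E.Z_le_M ha.2⟩ = (E.ω ⟨a, ha.2⟩ : ℂ) • 1 := by
      show (μ _ : ℂ) • R1 _ = _
      rw [hμω ⟨a, ha.2⟩ _ rfl ha.1, hR1z ⟨a, ha.2⟩ _ rfl ha.1]
    rw [ez]
    refine (map_mul R _ _).trans ?_
    refine (congrArg₂ (· * ·) ha' (hRK ⟨b, hb⟩)).trans ?_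
    show ((E.ω ⟨a, _⟩ : ℂ) • (1 : Module.End ℂ (Fin k → ℂ))) * ρ ⟨b, hb⟩ = _
    rw [hω ⟨b, hbZ⟩ hb, smul_mul_smul_comm, one_mul, ← Units.val_mul, ← map_mul, show (⟨a, ha.2⟩ : E.Z) * ⟨b, hbZ⟩ = z from Subtype.ext eab]
  refine ⟨R, hRirr, hRK, fun g => ⟨?_, ?_⟩, ?_, fun χ => ⟨?_, ?_⟩⟩
  · -- restriction of intertwiners
    rintro ⟨-, T, hT⟩
    refine ⟨mem_normalizer_of_normal g, T, fun h h' eh => ?_⟩
    rw [← hRK, ← hRK]
    exact hT _ _ eh
  · intro hg
    obtain ⟨a, ha, n, hn, rfl⟩ := E.frattini g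
    have hnρ : Fixes ρ n := by
      have := (fixes_of_mem (ρ := ρ) ha).inv.mul hg
      rwa [inv_mul_cancel_left] at this
    refine (fixes_of_mem (ρ := R) (Subgroup.mem_sup_left ha)).mul ?_
    obtain ⟨T, hT⟩ := hnρ.2
    have hnL : n ∈ Subgroup.normalizer ((E.K ⊔ (E.S : Subgroup G) : Subgroup G) : Set G) :=
      mem_normalizer_of_normal n
    set cn := Subgroup.normalizerMonoidHom (E.K ⊔ (E.S : Subgroup G)) ⟨n, hnL⟩
    let R1n : Representation ℂ ↥(E.K ⊔ (E.S : Subgroup G)) (Fin k → ℂ) :=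
      { toFun := fun z =>
          (↑T⁻¹ : Module.End ℂ (Fin k → ℂ)) * R1 (cn z) * (T : Module.End ℂ (Fin k → ℂ))
        map_one' := by rw [map_one, map_one, mul_one, Units.inv_mul]
        map_mul' := fun a b => by
          rw [map_mul, map_mul]
          simp only [mul_assoc, Units.mul_inv_cancel_left] }
    have hcnN : ∀ m : N', ∃ m' : N', (m' : ↥(E.K ⊔ (E.S : Subgroup G))) = cn m ∧
        ((e m' : E.K) : G) = n * (e m : E.K) * n⁻¹ := fun m =>
      ⟨⟨cn m, E.normalK.conj_mem _ m.2 n⟩, rfl, rfl⟩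
    have h1 : ∀ m : N', R1n m = ρ' m := by
      intro m
      obtain ⟨m', hm', hm''⟩ := hcnN m
      show (↑T⁻¹ : Module.End ℂ (Fin k → ℂ)) * R1 (cn m) * T = ρ' m
      rw [← hm', hR1, mul_assoc]
      show _ * (ρ (e m') * T) = ρ (e m)
      rw [← hT (e m) (e m') hm'', Units.inv_mul_cancel_left]
    have h2 : detHom R1n = μd := by
      have hc : detHom R1n = μd.comp cn.toMonoidHom := MonoidHom.ext fun z => Units.ext <| by
        show LinearMap.det ((↑T⁻¹ : Module.End ℂ (Fin k → ℂ)) * R1 (cn z) *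
          (T : Module.End ℂ (Fin k → ℂ))) = (μd (cn z) : ℂ)
        rw [map_mul, map_mul, mul_right_comm, ← map_mul, Units.inv_mul, map_one, one_mul,
          ← hR1det]
        rfl
      have hord : orderOf (μd.comp cn.toMonoidHom) ∣ orderOf μd :=
        orderOf_dvd_of_pow_eq_one (MonoidHom.ext fun z => by
          rw [MonoidHom.pow_apply, MonoidHom.comp_apply, ← MonoidHom.pow_apply, pow_orderOf_eq_one]
          rfl)
      rw [hc]
      refine hμdu _ (fun m => ?_) (Nat.Coprime.coprime_dvd_right (hord.trans hμdo.dvd) (hcopi _ hordρ).symm)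
      rw [← hc]
      refine Units.ext ?_
      rw [coe_detHom, h1, ← coe_detHom]
    have h3 := hR1u R1n ⟨h1, h2⟩
    refine ⟨mem_normalizer_of_normal n, T, fun h h' eh => ?_⟩
    set x := Subgroup.inclusion E.M_le h
    set x' := Subgroup.inclusion E.M_le h'
    have hx : cn x = x' := Subtype.ext eh.symm
    have hμn : μ x' = μ x := by
      have hle : E.M ≤ (E.K ⊔ ⁅(E.S : Subgroup G), (E.S : Subgroup G)⁆) ⊔
          ((E.S : Subgroup G) ⊓ E.Z) := (sup_assoc _ _ _).ge
      haveI := E.normalK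
      obtain ⟨z, hz, c, hc, ezc⟩ := (Coprime.mem_sup_iff_of_le_normalizer
        (H := (E.S : Subgroup G) ⊓ E.Z)
        (N := E.K ⊔ ⁅(E.S : Subgroup G), (E.S : Subgroup G)⁆) (fun w hw =>
        Subgroup.centralizer_le_normalizer _ (Subgroup.mem_centralizer_iff.mpr fun v _ =>
          Subgroup.mem_center_iff.mp (E.central hw.2) v))).mp
        (show (h : G) ∈ ((E.S : Subgroup G) ⊓ E.Z) ⊔
          (E.K ⊔ ⁅(E.S : Subgroup G), (E.S : Subgroup G)⁆) by rw [sup_comm]; exact hle h.2)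
      have hzL : z ∈ E.K ⊔ (E.S : Subgroup G) := Subgroup.mem_sup_right hz.1
      have hcL : c ∈ E.K ⊔ (E.S : Subgroup G) :=
        sup_le_sup_left (Subgroup.commutator_le_self _) _ hc
      have hc' : n * c * n⁻¹ ∈ E.K ⊔ ⁅(E.S : Subgroup G), (E.S : Subgroup G)⁆ :=
        (Subgroup.mem_normalizer_iff.mp (Coprime.le_normalizer_sup_sup
          (Subgroup.zpowers_le.mpr (mem_normalizer_of_normal n))
          (Subgroup.zpowers_le.mpr (mem_normalizer_commutator hn)) (Subgroup.mem_zpowers n)) c).mp hc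
      have e1 : x = ⟨z, hzL⟩ * ⟨c, hcL⟩ := Subtype.ext ezc.symm
      have e2 : x' = ⟨z, hzL⟩ * ⟨n * c * n⁻¹,
          sup_le_sup_left (Subgroup.commutator_le_self _) _ hc'⟩ := Subtype.ext (by
        show (h' : G) = z * (n * c * n⁻¹)
        rw [eh, ← ezc, show n * (z * c) * n⁻¹ = n * z * n⁻¹ * (n * c * n⁻¹) by group,
          (Subgroup.mem_center_iff.mp (E.central hz.2) n), mul_inv_cancel_right])
      rw [e1, e2, map_mul, map_mul, hμ1 ⟨c, hcL⟩ hc, hμ1 ⟨_, _⟩ hc']
    show (T : Module.End ℂ (Fin k → ℂ)) * ((μ x : ℂ) • R1 x) = ((μ x' : ℂ) • R1 x') * T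
    rw [← hx] at hμn ⊢
    rw [hμn, mul_smul_comm, smul_mul_assoc]
    congr 1
    conv_lhs => rw [← h3]
    show (T : Module.End ℂ (Fin k → ℂ)) * ((↑T⁻¹ : Module.End ℂ (Fin k → ℂ)) * R1 (cn x) *
      (T : Module.End ℂ (Fin k → ℂ))) = _
    simp only [mul_assoc, Units.mul_inv_cancel_left]
  · intro s hs t ht
    have hsL : s ∈ E.K ⊔ (E.S : Subgroup G) := Subgroup.mem_sup_right hs
    have htL : t ∈ E.K ⊔ (E.S : Subgroup G) := Subgroup.mem_sup_right ht
    rw [kap_of_extension E.M_le (σ := R') (fun h => rfl) (mem_normalizer_of_normal s)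
      (mem_normalizer_of_normal t) (fixes_of_mem hsL) (fixes_of_mem htL) (E.commutator_mem_M hs ht),
      kap_mem_left hsL (fixes_of_mem htL)]
  all_goals
    obtain ⟨m, W, hW, hWχ⟩ := χ.2
    haveI := hW
    haveI := Fintype.ofFinite N'
    haveI := Fintype.ofFinite ↥(E.K ⊔ (E.S : Subgroup G))
    haveI := Fintype.ofFinite G
    haveI := Chars.irrFintype ↥(E.K ⊔ (E.S : Subgroup G))
    set θ : IrrCharacter E.K := ⟨ρ.character, Chars.isIrrCharacter_character ρ⟩ with hθ
    set φ : IrrCharacter E.M := ⟨R.character, Chars.isIrrCharacter_character R⟩ with hφ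
    have hdeg : charDegree (χ : G → ℂ) = m := by rw [← hWχ, charDegree_character]
    have hχc : IsCharacter G (χ : G → ℂ) := Chars.isCharacter_of_irr χ.2
  · rintro ⟨hpd, hover, hK⟩
    have hωW : ∀ z : E.Z, W z = (E.ω z : ℂ) • 1 :=
      (over_central_iff E.Z.subtype (fun z => E.central z.2) E.ω W).mp (by rw [hWχ]; exact hover)
    obtain ⟨ξ, hξχ, hξθ⟩ := (over_trans_iff (show E.K ≤ E.K ⊔ (E.S : Subgroup G) from le_sup_left) hχc θ).mp hK
    have hξχ' : classInner (fun n : ↥(E.K ⊔ (E.S : Subgroup G)) => (χ : G → ℂ) n)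
        (ξ : ↥(E.K ⊔ (E.S : Subgroup G)) → ℂ) ≠ 0 :=
      Over.inner (f := (E.K ⊔ (E.S : Subgroup G)).subtype) hξχ
    obtain ⟨d, hd0, hd, hddvd⟩ := degree_quotient (E.K ⊔ (E.S : Subgroup G)) χ.2 ξ.2 hξχ'
    obtain ⟨a, A, hA, hAξ⟩ := ξ.2
    haveI := hA
    have hpa : ¬ p ∣ a := fun h => hpd (by
      rw [hdeg]
      refine h.trans ⟨d, ?_⟩
      rw [← hWχ, ← hAξ, Representation.char_one, Representation.char_one, Module.finrank_fin_fun,
        Module.finrank_fin_fun] at hd
      exact (mul_comm a d) ▸ (by exact_mod_cast hd))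
    have hres : (fun n : N' => R1.character n) = fun n : N' => ρ.character (e n) :=
      funext fun n => congrArg (LinearMap.trace ℂ _) (hR1 n)
    haveI := hR1irr
    obtain ⟨β, hβ, hξβ⟩ := gallagher_exists N' (Chars.isIrrCharacter_character R1)
      (by rw [hres]; exact Chars.isIrrCharacter_comp e.toMonoidHom e.surjective θ.2) ξ.2
      (by
        have h' := Over.inner (f := N'.subtype) hξθ
        rw [hres]
        exact h')
    -- `β` is linear
    have hβ1 : (β : ↥(E.K ⊔ (E.S : Subgroup G)) → ℂ) 1 = 1 := by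
      obtain ⟨c, hc0, hc⟩ := Chars.irr_degree_nat β.2
      obtain ⟨k', -, hk', hk'd⟩ := degree_quotient N' β.2 (θ := fun _ => (1 : ℂ))
        (by simpa [linFun_one] using isIrrCharacter_linFun (1 : N' →* ℂˣ))
        (by
          rw [Chars.inner_def]
          rw [Finset.sum_congr rfl fun (n : N') _ =>
              show (β : ↥(E.K ⊔ (E.S : Subgroup G)) → ℂ) n * conj (1 : ℂ) =
                (β : ↥(E.K ⊔ (E.S : Subgroup G)) → ℂ) 1 by
              rw [map_one, mul_one]; exact (mem_quotIrr N').mp hβ n.2,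
            Finset.sum_const, Finset.card_univ, nsmul_eq_mul, Nat.card_eq_fintype_card, ← mul_assoc,
            inv_mul_cancel₀ (Nat.cast_ne_zero.mpr Fintype.card_ne_zero), one_mul]
          exact Chars.irr_degree_ne_zero β.2)
      rw [hc, mul_one, Nat.cast_inj] at hk'
      subst hk'
      have ha : a = c * k := by
        have := congrFun hξβ 1
        rw [Pi.mul_apply, ← hAξ, Representation.char_one, Representation.char_one, hc,
          Module.finrank_fin_fun, Module.finrank_fin_fun] at this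
        exact_mod_cast this
      have hc1 : c = 1 := by
        obtain ⟨j, -, rfl⟩ := (Nat.dvd_prime_pow hp).mp (hk'd.trans hidx)
        rcases j.eq_zero_or_pos with rfl | hj
        · rw [pow_zero]
        · exact absurd ((dvd_pow_self p hj.ne').trans (ha ▸ Dvd.intro _ rfl)) hpa
      rw [hc, hc1, Nat.cast_one]
    obtain ⟨ν, hν⟩ := exists_hom_of_linear ⟨Chars.isCharacter_of_irr β.2, hβ1⟩
    have hνK : ∀ x : ↥(E.K ⊔ (E.S : Subgroup G)), (x : G) ∈ E.K → ν x = 1 := fun x hx =>
      Units.ext (by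
        rw [Units.val_one]
        exact (congrFun hν x).trans (((mem_quotIrr N').mp hβ (Subgroup.mem_subgroupOf.mpr hx)).trans hβ1))
    have hνS : ∀ s ∈ (E.S : Subgroup G), ∀ t ∈ (E.S : Subgroup G), ∀ x : ↥(E.K ⊔ (E.S : Subgroup G)),
        (x : G) = ⁅s, t⁆ → ν x = 1 := by
      intro s hs t ht x hx
      rw [show x = ⁅(⟨s, Subgroup.mem_sup_right hs⟩ : ↥(E.K ⊔ (E.S : Subgroup G))),
        ⟨t, Subgroup.mem_sup_right ht⟩⁆ from Subtype.ext (hx.trans
          (map_commutatorElement (E.K ⊔ (E.S : Subgroup G)).subtype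
            (⟨s, Subgroup.mem_sup_right hs⟩ : ↥(E.K ⊔ (E.S : Subgroup G)))
            ⟨t, Subgroup.mem_sup_right ht⟩).symm), map_commutatorElement,
        commutatorElement_def, mul_comm (ν _) (ν _), mul_inv_cancel_right, mul_inv_cancel]
    have hνz : ∀ (z : E.Z) (x : ↥(E.K ⊔ (E.S : Subgroup G))), (x : G) = z →
        (z : G) ∈ (E.S : Subgroup G) → ν x = E.ω z := by
      intro z x hxz hzS
      refine Units.ext (scalar_eq_of_over (χ := (χ : G → ℂ)) (ξ := (ξ : ↥(E.K ⊔ (E.S : Subgroup G)) → ℂ)) x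
        (c := (E.ω z : ℂ)) ?_ ?_ (conj_hom_mul ν x) hξχ).symm
      · intro w
        rw [hxz, ← hWχ]
        exact character_smul_mul W (hωW z) _
      · intro w
        have hν' : ∀ y, (β : ↥(E.K ⊔ (E.S : Subgroup G)) → ℂ) y = (ν y : ℂ) := fun y => (congrFun hν y).symm
        rw [hξβ, Pi.mul_apply, Pi.mul_apply, hν', hν',
          character_smul_mul R1 (c := 1) (by rw [one_smul]; exact hR1z z x hxz hzS), map_mul,
          Units.val_mul]
        ring
    have hagree : ∀ x : ↥(E.K ⊔ (E.S : Subgroup G)), (x : G) ∈ E.M → ν x = μ x := by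
      intro x hx
      have hle : E.M ≤ (MonoidHom.eqLocus ν μ).map (E.K ⊔ (E.S : Subgroup G)).subtype := by
        refine sup_le (fun a ha => ⟨⟨a, Subgroup.mem_sup_left ha⟩, ?_, rfl⟩)
          (sup_le (Subgroup.commutator_le.mpr fun s hs t ht =>
            ⟨⟨⁅s, t⁆, Subgroup.mem_sup_right (Subgroup.commutator_le_self _
              (Subgroup.commutator_mem_commutator hs ht))⟩, ?_, rfl⟩)
            fun a ha => ⟨⟨a, Subgroup.mem_sup_right ha.1⟩, ?_, rfl⟩)
        · show ν _ = μ _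
          rw [hνK _ ha, hμ1 _ (Subgroup.mem_sup_left ha)]
        · show ν _ = μ _
          rw [hνS s hs t ht _ rfl,
            hμ1 _ (Subgroup.mem_sup_right (Subgroup.commutator_mem_commutator hs ht))]
        · show ν _ = μ _
          rw [hνz ⟨a, ha.2⟩ _ rfl ha.1, hμω ⟨a, ha.2⟩ _ rfl ha.1]
      obtain ⟨y, hy, hyx⟩ := hle hx
      rw [← Subtype.ext hyx]
      exact hy
    haveI := Fintype.ofFinite (E.M.subgroupOf (E.K ⊔ (E.S : Subgroup G)))
    refine (over_trans_iff E.M_le hχc φ).mpr ⟨ξ, hξχ, over_iff.mpr ?_⟩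
    simp only [Subgroup.coe_subtype]
    rw [show (fun y : E.M.subgroupOf (E.K ⊔ (E.S : Subgroup G)) => (ξ : ↥(E.K ⊔ (E.S : Subgroup G)) → ℂ) y) =
      fun y => (φ : E.M → ℂ) (Subgroup.subgroupOfEquivOfLe E.M_le y) from funext fun y => by
        rw [hξβ, Pi.mul_apply, ← congrFun hν]
        show (ν _ : ℂ) * _ = R'.character (y : ↥(E.K ⊔ (E.S : Subgroup G)))
        rw [character_twistRep, hagree _ y.2]]
    exact ne_of_eq_of_ne (Chars.inner_irr_self (⟨_, Chars.isIrrCharacter_comp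
      (Subgroup.subgroupOfEquivOfLe E.M_le).toMonoidHom
      (Subgroup.subgroupOfEquivOfLe E.M_le).surjective φ.2⟩ : IrrCharacter _)) one_ne_zero
  · intro hM
    obtain ⟨ξ, hξχ, hξφ⟩ := (over_trans_iff E.M_le hχc φ).mp hM
    haveI := Fintype.ofFinite (E.M.subgroupOf (E.K ⊔ (E.S : Subgroup G)))
    haveI : (E.M.subgroupOf (E.K ⊔ (E.S : Subgroup G))).Normal := inferInstance
    have hξχ' : classInner (fun n : ↥(E.K ⊔ (E.S : Subgroup G)) => (χ : G → ℂ) n)
        (ξ : ↥(E.K ⊔ (E.S : Subgroup G)) → ℂ) ≠ 0 :=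
      Over.inner (f := (E.K ⊔ (E.S : Subgroup G)).subtype) hξχ
    obtain ⟨d, hd0, hd, hddvd⟩ := degree_quotient (E.K ⊔ (E.S : Subgroup G)) χ.2 ξ.2 hξχ'
    have hres : (fun y : E.M.subgroupOf (E.K ⊔ (E.S : Subgroup G)) => R'.character y) =
        fun y => (φ : E.M → ℂ) (Subgroup.subgroupOfEquivOfLe E.M_le y) := funext fun y => rfl
    obtain ⟨β, hβ, hξβ⟩ := gallagher_exists _ (Chars.isIrrCharacter_character R')
      (by
        rw [hres]
        exact Chars.isIrrCharacter_comp (Subgroup.subgroupOfEquivOfLe E.M_le).toMonoidHom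
          (Subgroup.subgroupOfEquivOfLe E.M_le).surjective φ.2)
      ξ.2 (by
        have h' := Over.inner (f := (E.M.subgroupOf (E.K ⊔ (E.S : Subgroup G))).subtype) hξφ
        rw [hres]
        exact h')
    have hβ1 : (β : ↥(E.K ⊔ (E.S : Subgroup G)) → ℂ) 1 = 1 := by
      obtain ⟨ψ, hψ, hψe⟩ := Chars.exists_deflate_irr (E.M.subgroupOf _) β.2
        (fun y hy => (mem_quotIrr _).mp hβ hy)
      rw [hψe]
      refine Chars.irr_abelian_degree (fun a b => ?_) hψ
      obtain ⟨a, rfl⟩ := QuotientGroup.mk_surjective a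
      obtain ⟨b, rfl⟩ := QuotientGroup.mk_surjective b
      rw [← QuotientGroup.mk_mul, ← QuotientGroup.mk_mul, QuotientGroup.eq, Subgroup.mem_subgroupOf]
      have key : ∀ a ∈ E.K ⊔ (E.S : Subgroup G), ∀ b ∈ E.K ⊔ (E.S : Subgroup G), ⁅a, b⁆ ∈ E.M :=
        fun a ha b hb => (Subgroup.commutator_le.mp (show ⁅E.K ⊔ (E.S : Subgroup G),
          E.K ⊔ (E.S : Subgroup G)⁆ ≤ E.M from ?_)) a ha b hb
      · have := key _ (inv_mem b.2) _ (inv_mem a.2)
        simpa [commutatorElement_def, mul_assoc] using this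
      · refine Subgroup.commutator_le.mpr fun a ha b hb => ?_
        have hNM : ∀ g ∈ E.K ⊔ (E.S : Subgroup G), g ∈ Subgroup.closure
            ((E.K : Set G) ∪ (E.S : Subgroup G)) := fun g hg => by
          rwa [Subgroup.closure_union, Subgroup.closure_eq, Subgroup.closure_eq]
        have hab : ∀ a ∈ E.K ⊔ (E.S : Subgroup G), ∃ s ∈ (E.S : Subgroup G), (a : G ⧸ E.M) = s :=
          fun a ha => by
            obtain ⟨s, hs, c, hc, rfl⟩ := (Coprime.mem_sup_iff_of_le_normalizer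
              (fun _ _ => mem_normalizer_of_normal _)).mp
              (show a ∈ (E.S : Subgroup G) ⊔ E.K by rwa [sup_comm])
            exact ⟨s, hs, by
              rw [QuotientGroup.mk_mul, (QuotientGroup.eq_one_iff (N := E.M) c).mpr
                (Subgroup.mem_sup_left hc : c ∈ E.M), mul_one]⟩
        obtain ⟨s, hs, es⟩ := hab a ha
        obtain ⟨t, ht, et⟩ := hab b hb
        rw [← QuotientGroup.eq_one_iff, ← QuotientGroup.mk'_apply, map_commutatorElement,
          QuotientGroup.mk'_apply, QuotientGroup.mk'_apply, es, et, ← QuotientGroup.mk'_apply,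
          ← QuotientGroup.mk'_apply, ← map_commutatorElement, QuotientGroup.mk'_apply,
          QuotientGroup.eq_one_iff]
        exact E.commutator_mem_M hs ht
    have hξ1 : (ξ : ↥(E.K ⊔ (E.S : Subgroup G)) → ℂ) 1 = (k : ℂ) := by
      rw [hξβ, Pi.mul_apply, hβ1, one_mul, Representation.char_one, Module.finrank_fin_fun]
    refine ⟨?_, ?_, ?_⟩
    · have hidx : ¬ p ∣ (E.K ⊔ (E.S : Subgroup G)).index := fun h =>
        E.S.not_dvd_index (h.trans (Subgroup.index_dvd_of_le le_sup_right))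
      rw [hdeg]
      rw [← hWχ, hξ1, Representation.char_one, Module.finrank_fin_fun] at hd
      have hm : m = d * k := by exact_mod_cast hd
      intro h
      rcases hp.dvd_mul.mp (hm ▸ h) with h | h
      exacts [hidx (h.trans hddvd), hkp h]
    · rw [← hWχ]
      refine (over_central_iff E.Z.subtype (fun z => E.central z.2) E.ω W).mpr fun z => ?_
      obtain ⟨c, hc⟩ := Chars.exists_scalar_of_mem_center W z (E.central z.2)
      rw [E.Z.coe_subtype, hc]
      congr 1
      refine scalar_eq_of_over (χ := (χ : G → ℂ)) (ξ := (φ : E.M → ℂ))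
        (⟨z, E.Z_le_M z.2⟩ : E.M) ?_ (fun w => character_smul_mul R (hRZ z) w)
        (conj_hom_mul E.ω z) hM
      intro w
      rw [← hWχ]
      exact character_smul_mul W hc _
    · obtain ⟨δ, hδ, -⟩ := (over_trans_iff E.M_le hχc φ).mp hM
      refine (over_trans_iff (show E.K ≤ E.K ⊔ (E.S : Subgroup G) from le_sup_left) hχc θ).mpr ⟨ξ, hξχ, over_iff.mpr ?_⟩
      have hm : (fun n : N' => (ξ : ↥(E.K ⊔ (E.S : Subgroup G)) → ℂ) n) = fun n : N' => (θ : E.K → ℂ) (e n) := funext fun n => by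
        rw [hξβ, Pi.mul_apply, (mem_quotIrr _).mp hβ
          (Subgroup.mem_subgroupOf.mpr (Subgroup.mem_sup_left n.2)), hβ1, one_mul]
        exact congrArg (LinearMap.trace ℂ _) (hR'K n)
      simp only [Subgroup.coe_subtype]
      rw [hm]
      exact ne_of_eq_of_ne (Chars.inner_irr_self (⟨_, Chars.isIrrCharacter_comp e.toMonoidHom
        e.surjective θ.2⟩ : IrrCharacter _)) one_ne_zero

end Side

end CfsgLib.RelMcKay
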