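import Cfsg.Agent.Lib.RelMcKay.PairEq
import Cfsg.Agent.Lib.RelMcKay.Defs
import Cfsg.Agent.Lib.CharsMore.CliffordDegree
import Cfsg.Agent.Lib.Chars.Degree

/-!
# Counting over a character of a normal subgroup; transport; central characters
-/

set_option autoImplicit false
set_option linter.unusedSectionVars false
set_option linter.style.haveILetI false

open scoped commutatorElement ComplexConjugate
open Cfsg

namespace CfsgLib.RelMcKay

open CfsgLib CfsgLib.CharsMore

universe u

section Stab

variable {G : Type u} [Group G] [Finite G] {M : Subgroup G} [M.Normal] {k : ℕ}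
  (ρ : Representation ℂ M (Fin k → ℂ)) [ρ.IsIrreducible]

theorem mem_normalizer_of_normal (g : G) : g ∈ Subgroup.normalizer (M : Set G) := by
  rw [Subgroup.normalizer_eq_top]
  exact Subgroup.mem_top g

theorem fixSub_eq_inertia [Fintype G] : fixSub ρ = inertia M ρ.character := by
  ext g
  rw [mem_inertia]
  constructor
  · intro hg n
    obtain ⟨T, hT⟩ := hg.2
    exact hT.character_eq rfl
  · intro h
    refine fixes_of_character (mem_normalizer_of_normal g) fun a a' e => ?_
    rw [show a' = conjBy M g a from Subtype.ext e]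
    exact h a

open scoped Classical in
/-- Counting over a character of a normal subgroup, through its stabiliser. -/
theorem card_over_stab [Fintype M] [Fintype (fixSub ρ)] :
    (Nat.card {χ : IrrCharacter G //
        classInner (fun m : M => (χ : G → ℂ) m) ρ.character ≠ 0} : ℂ) *
        (Nat.card (fixSub ρ) : ℂ) * (Nat.card M : ℂ) =
      ∑ g : fixSub ρ, ∑ x : fixSub ρ,
        if ⁅(g : G), (x : G)⁆ ∈ M then conj (kap ρ g x)⁻¹ else 0 := by
  haveI := Fintype.ofFinite G
  have hMT : M ≤ fixSub ρ := fun m hm => fixes_of_mem hm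
  rw [← card_over_mul hMT fun a ha => ha]
  congr 3
  refine (Nat.card_eq_of_bijective
    (fun ψ : {ψ : IrrCharacter (fixSub ρ) //
        classInner (fun m : M => (ψ : fixSub ρ → ℂ) ⟨m, hMT m.2⟩) ρ.character ≠ 0} =>
      (⟨⟨indFun (fixSub ρ) (ψ.1 : fixSub ρ → ℂ), isIrr_indFun_of_over M hMT
        (Chars.isIrrCharacter_character ρ) (fixSub_eq_inertia ρ) ψ.1.2 ψ.2⟩, ?_⟩ :
        {χ : IrrCharacter G // classInner (fun m : M => (χ : G → ℂ) m) ρ.character ≠ 0}))
    ⟨fun a b e => ?_, fun χ => ?_⟩).symm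
  · have hi := isIrr_indFun_of_over M hMT (Chars.isIrrCharacter_character ρ) (fixSub_eq_inertia ρ)
      ψ.1.2 ψ.2
    have hχψ : classInner (fun t : fixSub ρ => indFun (fixSub ρ) (ψ.1 : fixSub ρ → ℂ) t)
        (ψ.1 : fixSub ρ → ℂ) ≠ 0 := by
      rw [← conj_inner (Chars.isCharacter_restrict _ (Chars.isCharacter_of_irr hi))
          (Chars.isCharacter_of_irr ψ.1.2),
        ← Chars.inner_indFun _ _ (Chars.isClassFunction_of_isCharacter (Chars.isCharacter_of_irr hi)),
        Chars.inner_irr_self ⟨_, hi⟩]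
      exact one_ne_zero
    show classInner (fun m : M => indFun (fixSub ρ) (ψ.1 : fixSub ρ → ℂ) m) ρ.character ≠ 0
    rw [← (correspondence_core M hMT (Chars.isIrrCharacter_character ρ) (fixSub_eq_inertia ρ)
      ψ.1.2 ψ.2 hi hχψ).2.1]
    exact ψ.2
  · exact Subtype.ext (Subtype.ext (indFun_injective_of_over M hMT
      (Chars.isIrrCharacter_character ρ) (fixSub_eq_inertia ρ) a.1.2 a.2 b.1.2 b.2
      (congrArg (fun z => ((z.1 : IrrCharacter G) : G → ℂ)) e)))
  · obtain ⟨ψ, hψ, he, hm, -⟩ := exists_correspondent M hMT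
      (Chars.isIrrCharacter_character ρ) (fixSub_eq_inertia ρ) χ.1.2 χ.2
    exact ⟨⟨⟨ψ, hψ⟩, by rw [hm]; exact χ.2⟩, Subtype.ext (Subtype.ext he)⟩

end Stab

section Map

variable {Γ Γ' : Type u} [Group Γ] [Finite Γ] [Group Γ'] [Finite Γ'] (f : Γ' →* Γ)
  {H : Subgroup Γ} {H' : Subgroup Γ'} (e : H' ≃* H) (he : ∀ h, (e h : Γ) = f h)
  {V : Type*} [AddCommGroup V] [Module ℂ V] [FiniteDimensional ℂ V] (ρ : Representation ℂ H V)

include he

theorem mem_normalizer_map_iff (hf : Function.Injective f) {g : Γ'} :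
    f g ∈ Subgroup.normalizer (H : Set Γ) ↔ g ∈ Subgroup.normalizer (H' : Set Γ') := by
  have key : ∀ a : Γ', f a ∈ H ↔ a ∈ H' := fun a => ⟨fun ha => by
    have h := he (e.symm ⟨f a, ha⟩)
    rw [MulEquiv.apply_symm_apply] at h
    exact hf h ▸ (e.symm ⟨f a, ha⟩).2, fun ha => he ⟨a, ha⟩ ▸ (e ⟨a, ha⟩).2⟩
  constructor
  · intro h
    rw [Subgroup.mem_normalizer_iff] at h ⊢
    intro a
    rw [← key, ← key, h, map_mul, map_mul, map_inv]
  · intro h
    haveI := Fintype.ofFinite Γ
    refine Subgroup.mem_normalizer_fintype fun a ha => ?_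
    obtain ⟨b, hb⟩ := e.surjective ⟨a, ha⟩
    have hab : a = f b := by rw [← he, hb]
    rw [SetLike.mem_coe, hab, ← map_inv, ← map_mul, ← map_mul, key]
    exact (Subgroup.mem_normalizer_iff.mp h _).mp b.2

theorem intw_map_iff (hf : Function.Injective f) {g : Γ'} {T : (Module.End ℂ V)ˣ} :
    Intw (ρ.comp e.toMonoidHom : Representation ℂ H' V) g T ↔ Intw ρ (f g) T := by
  constructor
  · intro h a a' ea
    obtain ⟨b, rfl⟩ := e.surjective a
    obtain ⟨b', rfl⟩ := e.surjective a'
    refine h b b' (hf ?_)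
    rw [map_mul, map_mul, map_inv, ← he, ← he, ea]
  · intro h a a' ea
    exact h (e a) (e a') (by rw [he, he, ea, map_mul, map_mul, map_inv])

theorem fixes_map_iff (hf : Function.Injective f) {g : Γ'} :
    Fixes (ρ.comp e.toMonoidHom : Representation ℂ H' V) g ↔ Fixes ρ (f g) :=
  and_congr (mem_normalizer_map_iff f e he hf).symm
    (exists_congr fun _ => intw_map_iff f e he ρ hf)

/-- The pairing does not change under an injective homomorphism. -/
theorem kap_map [ρ.IsIrreducible] (hf : Function.Injective f) {g x : Γ'}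
    (hg : Fixes ρ (f g)) (hx : Fixes ρ (f x)) (hc : ⁅g, x⁆ ∈ H') :
    kap (ρ.comp e.toMonoidHom : Representation ℂ H' V) g x = kap ρ (f g) (f x) := by
  haveI : Representation.IsIrreducible (ρ.comp e.toMonoidHom : Representation ℂ H' V) :=
    Chars.isIrreducible_comp e.toMonoidHom e.surjective ρ
  obtain ⟨T, hT⟩ := hg.2
  obtain ⟨U, hU⟩ := hx.2
  refine kap_eq ((mem_normalizer_map_iff f e he hf).mp hg.1)
    ((mem_normalizer_map_iff f e he hf).mp hx.1) ((intw_map_iff f e he ρ hf).mpr hT)
    ((intw_map_iff f e he ρ hf).mpr hU) (c := ⟨_, hc⟩) rfl ?_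
  have hce : ((e ⟨_, hc⟩ : H) : Γ) = ⁅f g, f x⁆ := by rw [he, ← map_commutatorElement]
  exact kap_spec hg hx (hce ▸ (e ⟨_, hc⟩).2) T U hT hU (e ⟨_, hc⟩) hce

end Map

section Over

variable {X : Type u} [Group X] [Finite X]

theorem charDegree_character {n : ℕ} (R : Representation ℂ X (Fin n → ℂ)) :
    charDegree R.character = n := by
  rw [charDegree, Representation.char_one, Module.finrank_fin_fun]
  simp

/-- Lying over a linear character of a central subgroup means acting by it. -/
theorem over_central_iff {Y : Type u} [Group Y] [Finite Y] (f : Y →* X)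
    (hf : ∀ y, f y ∈ Subgroup.center X) (ω : Y →* ℂˣ) {n : ℕ}
    (R : Representation ℂ X (Fin n → ℂ)) [R.IsIrreducible] :
    (∑ᶠ y, R.character (f y) * conj (ω y : ℂ)) ≠ 0 ↔ ∀ y, R (f y) = (ω y : ℂ) • 1 := by
  classical
  haveI := Fintype.ofFinite Y
  haveI := CharsMore.nontrivial_of_isIrreducible R
  have hn : (n : ℂ) ≠ 0 := by
    have := CharsMore.finrank_pos_of_isIrreducible R
    rw [Module.finrank_fin_fun] at this
    exact_mod_cast this.ne'
  choose a ha using fun y => Chars.exists_scalar_of_mem_center R (f y) (hf y)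
  have ha' : ∀ y, R (f y) = a y • 1 := fun y => ha y
  have hinj : Function.Injective fun c : ℂ => c • (1 : Module.End ℂ (Fin n → ℂ)) := fun a b h => by
    have h' := congrArg (LinearMap.trace ℂ _) h
    simp only [map_smul, LinearMap.trace_one, Module.finrank_fin_fun, smul_eq_mul] at h'
    exact mul_right_cancel₀ hn h'
  have ha0 : ∀ y, a y ≠ 0 := fun y h0 => by
    have := (R.toHomUnits (f y)).ne_zero
    exact this (by rw [MonoidHom.coe_toHomUnits, ha' y, h0, zero_smul])
  let l : Y →* ℂˣ :=
    { toFun := fun y => Units.mk0 (a y) (ha0 y)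
      map_one' := Units.ext (hinj (by
        show a 1 • (1 : Module.End ℂ (Fin n → ℂ)) = ((1 : ℂˣ) : ℂ) • 1
        rw [← ha', map_one, map_one, Units.val_one, one_smul]))
      map_mul' := fun y z => Units.ext (hinj (by
        show a (y * z) • (1 : Module.End ℂ (Fin n → ℂ)) = (a y * a z) • 1
        rw [← ha', map_mul, map_mul, ha', ha', smul_mul_smul_comm, one_mul])) }
  have hsum : (∑ᶠ y, R.character (f y) * conj (ω y : ℂ)) =
      (n : ℂ) * (Nat.card Y : ℂ) * classInner (linFun l) (linFun ω) := by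
    rw [finsum_eq_sum_of_fintype, Chars.inner_def, mul_assoc, ← mul_assoc (Nat.card Y : ℂ),
      mul_inv_cancel₀ (Chars.card_ne_zero Y), one_mul, Finset.mul_sum]
    refine Finset.sum_congr rfl fun y _ => ?_
    show LinearMap.trace ℂ _ (R (f y)) * _ = _
    rw [ha', map_smul, LinearMap.trace_one, Module.finrank_fin_fun, smul_eq_mul]
    simp only [linFun, l, MonoidHom.coe_mk, OneHom.coe_mk, Units.val_mk0]
    ring
  rw [hsum, Chars.inner_irr_of_isIrr (isIrrCharacter_linFun l) (isIrrCharacter_linFun ω)]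
  constructor
  · intro h
    have hl : linFun l = linFun ω := by
      by_contra hne
      rw [if_neg hne, mul_zero] at h
      exact h rfl
    intro y
    rw [ha', show a y = (ω y : ℂ) from congrFun hl y]
  · intro h
    have hl : linFun l = linFun ω := funext fun y => hinj ((ha' y).symm.trans (h y))
    rw [if_pos hl, mul_one]
    exact mul_ne_zero hn (Chars.card_ne_zero Y)

/-- A character of degree prime to `p` is linear on the `p`-part of the derived group of a
`p`-subgroup of the centre. -/
theorem eq_one_of_commutator {p : ℕ} [Fact p.Prime] {n : ℕ}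
    (R : Representation ℂ X (Fin n → ℂ)) (hn : ¬ p ∣ n) {z : X} {c : ℂ}
    (hz : R z = c • 1) (hzp : ∃ i : ℕ, z ^ p ^ i = 1) (hzc : z ∈ commutator X) [R.IsIrreducible] :
    c = 1 := by
  haveI := CharsMore.nontrivial_of_isIrreducible R
  have hd : c ^ n = 1 := by
    have h1 : detHom R z = 1 :=
      (Abelianization.commutator_subset_ker (detHom R)) hzc
    have h2 := congrArg LinearMap.det hz
    rw [← coe_detHom, h1, LinearMap.det_smul, map_one, Module.finrank_fin_fun, mul_one,
      Units.val_one] at h2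
    exact h2.symm
  obtain ⟨i, hi⟩ := hzp
  have hp : c ^ p ^ i = 1 := by
    have h2 := congrArg R hi
    rw [map_pow, hz, smul_pow, one_pow, map_one] at h2
    exact smul_left_injective ℂ one_ne_zero (h2.trans (one_smul ℂ _).symm)
  have hcop : (n.gcd (p ^ i)) = 1 :=
    ((((Fact.out : p.Prime).coprime_iff_not_dvd.mpr hn).symm).pow_right i)
  have := pow_gcd_eq_one.mpr ⟨hd, hp⟩
  rwa [hcop, pow_one] at this

end Over

end CfsgLib.RelMcKay
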