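import Cfsg.Agent.Lib.RelMcKay.Over
import Cfsg.Agent.Lib.CharsMore.Gallagher
import Cfsg.Agent.Lib.CharsMore.Intertwiners
import Cfsg.Agent.Lib.CharsMore.Extend
import Cfsg.Agent.Lib.Chars.Quotient

/-!
# Reduction of an invariant character to a central one

An invariant irreducible character is made extendable in the finite group of intertwining pairs; by
Gallagher's theorem the characters over it are then those of a quotient over a linear character of
a central subgroup.
-/

set_option autoImplicit false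
set_option linter.unusedSectionVars false
set_option linter.style.haveILetI false

open scoped ComplexConjugate Pointwise
open Cfsg

namespace CfsgLib.RelMcKay

open CfsgLib CfsgLib.CharsMore

universe u

variable {p : ℕ}

/-- An irreducible character is scalar on a central subgroup. -/
theorem exists_central_hom {E : Type u} [Group E] [Finite E] {Z : Subgroup E}
    (hZ : Z ≤ Subgroup.center E) {β : E → ℂ} (hβ : IsIrrCharacter E β) :
    ∃ a : Z →* ℂˣ, ∀ (x : E) (z : Z), β (x * z) = (a z : ℂ) * β x := by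
  obtain ⟨n, ρ, hρ, rfl⟩ := hβ
  have hsc : ∀ z : Z, ∃ c : ℂ, ρ z = c • 1 := fun z => schur_scalar ρ (ρ z) fun h => by
    rw [← map_mul, ← map_mul, (Subgroup.mem_center_iff.1 (hZ z.2) h)]
  choose c hc using hsc
  haveI := nontrivial_of_isIrreducible ρ
  have hinj : ∀ {a b : ℂ}, a • (1 : Module.End ℂ (Fin n → ℂ)) = b • 1 → a = b := by
    intro a b h
    exact smul_left_injective ℂ (one_ne_zero (α := Module.End ℂ (Fin n → ℂ)))
      (show (fun c : ℂ => c • (1 : Module.End ℂ (Fin n → ℂ))) a = (fun c : ℂ => c • 1) b from h)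
  let a : Z →* ℂ :=
    { toFun := c
      map_one' := hinj (by rw [← hc, OneMemClass.coe_one, map_one, one_smul])
      map_mul' := fun z w => hinj (by
        rw [← hc, Subgroup.coe_mul, map_mul, hc, hc, smul_mul_smul_comm, one_mul]) }
  refine ⟨a.toHomUnits, fun x z => ?_⟩
  show LinearMap.trace ℂ _ (ρ (x * z)) = c z * LinearMap.trace ℂ _ (ρ x)
  rw [map_mul, hc, mul_smul_comm, mul_one, map_smul, smul_eq_mul]

/-- Over a linear character, the scalar is that character. -/
theorem hom_eq_of_over {Z X : Type u} [Group Z] [Finite Z] [Group X] {j : Z →* X} {ω a : Z →* ℂˣ}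
    {β : X → ℂ} (hv : ∀ z, β (j z) = (a z : ℂ) * β 1)
    (h : Over j (fun z => (ω z : ℂ)) β) : a = ω := by
  classical
  let _ := Fintype.ofFinite Z
  have h' := h.inner
  rw [show (fun z => β (j z)) = β 1 • linFun a from funext fun z => by
    rw [hv]; show _ = β 1 * (a z : ℂ); ring,
    show (fun z => (ω z : ℂ)) = linFun ω from rfl, Chars.inner_smul_left,
    Chars.inner_irr_of_isIrr (isIrrCharacter_linFun a) (isIrrCharacter_linFun ω)] at h'
  by_contra hne
  rw [if_neg (fun e => hne (linFun_injective e)), mul_zero] at h'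
  exact h' rfl

/-- An irreducible character trivial on a kernel comes from the image. -/
theorem exists_descend {E X : Type u} [Group E] [Finite E] [Group X] (q : E →* X)
    (hq : Function.Surjective q) {ψ : E → ℂ} (hψ : IsIrrCharacter E ψ)
    (h : ∀ z ∈ q.ker, ψ z = ψ 1) : ∃ χ : IrrCharacter X, ψ = fun e => (χ : X → ℂ) (q e) := by
  obtain ⟨χ', hχ', e⟩ := Chars.exists_deflate_irr q.ker hψ h
  let f := QuotientGroup.quotientKerEquivOfSurjective q hq
  refine ⟨⟨fun x => χ' (f.symm x), Chars.isIrrCharacter_comp f.symm.toMonoidHom f.symm.surjective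
    hχ'⟩, e.trans (funext fun y => ?_)⟩
  show χ' (y : E ⧸ q.ker) = χ' (f.symm (q y))
  rw [show q y = f (y : E ⧸ q.ker) from rfl, f.symm_apply_apply]

/-- Characters over an extendable character, through Gallagher's theorem. -/
theorem overCount_transfer [Fact p.Prime] {E X Q Y : Type u} [Group E] [Finite E] [Group X]
    [Finite X] [Group Q] [Finite Q] [Group Y] [Finite Y] (π : E →* X) (hπ : Function.Surjective π)
    (q : E →* Q) (hq : Function.Surjective q) (ι : Y →* E) (hι : Function.Injective ι)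
    (hr : ι.range = q.ker) {χ₀ : E → ℂ} (hχ₀ : IsIrrCharacter E χ₀)
    (hν : IsIrrCharacter Y fun y => χ₀ (ι y)) (ω : π.ker →* ℂˣ)
    (hω : ∀ (x : E) (z : π.ker), χ₀ (x * z) * (ω z : ℂ) = χ₀ x)
    (hz : π.ker ≤ Subgroup.center E) :
    overCount p (π.comp ι) (fun y => χ₀ (ι y)) =
      if p ∣ charDegree χ₀ then 0 else overCount p (q.comp π.ker.subtype) (fun z => (ω z : ℂ)) := by
  classical
  let _ := Fintype.ofFinite E
  let _ := Fintype.ofFinite Y
  haveI : ι.range.Normal := hr ▸ MonoidHom.normal_ker q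
  let _ := Fintype.ofFinite ι.range
  let _ := Chars.irrFintype E
  set M := ι.range
  have hM : IsIrrCharacter M (fun m : M => χ₀ m) := by
    have := Chars.isIrrCharacter_comp (MonoidHom.ofInjective hι).symm.toMonoidHom
      (MonoidHom.ofInjective hι).symm.surjective hν
    convert this using 2 with m
    exact congrArg χ₀ (MonoidHom.apply_ofInjective_symm hι m).symm
  have hd0 : χ₀ 1 = (charDegree χ₀ : ℂ) := CharApps.deg_eq ⟨χ₀, hχ₀⟩
  have over_ι : ∀ (χ : X → ℂ) (b : ℂ), b ≠ 0 → (∀ y, χ (π (ι y)) = b * χ₀ (ι y)) →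
      Over (π.comp ι) (fun y => χ₀ (ι y)) χ := by
    intro χ b hb h
    rw [over_iff, show (fun y => χ (π.comp ι y)) = b • fun y => χ₀ (ι y) from funext h,
      Chars.inner_smul_left, Chars.inner_irr_self ⟨_, hν⟩, mul_one]
    exact hb
  -- the product attached to a character of the quotient
  let infl : IrrCharacter Q → IrrCharacter E := fun β =>
    ⟨fun e => (β : Q → ℂ) (q e), Chars.isIrrCharacter_comp q hq β.2⟩
  have hinfl : ∀ β, infl β ∈ quotIrr M := fun β => (mem_quotIrr M).2 fun m hm => by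
    rw [hr] at hm
    show (β : Q → ℂ) (q m) = (β : Q → ℂ) (q 1)
    rw [MonoidHom.mem_ker.1 hm, map_one]
  have hscal : ∀ (β : IrrCharacter Q), Over (q.comp π.ker.subtype) (fun z => (ω z : ℂ)) (β : Q → ℂ) →
      ∀ (x : E) (z : π.ker), (β : Q → ℂ) (q (x * z)) = (ω z : ℂ) * (β : Q → ℂ) (q x) := by
    intro β hβ
    obtain ⟨a, ha⟩ := exists_central_hom hz (infl β).2
    have : a = ω := hom_eq_of_over (j := q.comp π.ker.subtype) (fun z => by
      have := ha 1 z
      rw [one_mul] at this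
      show (β : Q → ℂ) (q z) = _
      rw [this]
      show _ * (β : Q → ℂ) (q 1) = _
      rw [map_one]) hβ
    exact this ▸ ha
  by_cases hp : p ∣ charDegree χ₀
  · rw [if_pos hp, overCount_eq]
    refine Nat.card_eq_zero.2 (Or.inl ⟨fun χ => χ.2.1 ?_⟩)
    have hψ : IsIrrCharacter E (fun e => (χ.1 : X → ℂ) (π e)) :=
      Chars.isIrrCharacter_comp π hπ χ.1.2
    obtain ⟨β, hβ, e⟩ := gallagher_exists M hχ₀ hM hψ (by
      rw [← inner_comp_equiv (MonoidHom.ofInjective hι) (fun m : M => (χ.1 : X → ℂ) (π m))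
        (fun m : M => χ₀ m)]
      exact χ.2.2.inner)
    have h1 := congrFun e 1
    simp only [map_one, Pi.mul_apply] at h1
    rw [CharApps.deg_eq χ.1, CharApps.deg_eq β, hd0] at h1
    rw [show charDegree (χ.1 : X → ℂ) = _ * _ by exact_mod_cast h1]
    exact hp.mul_left _
  rw [if_neg hp, overCount_eq, overCount_eq]
  have hf : ∀ β : {β : IrrCharacter Q //
      ¬ p ∣ charDegree (β : Q → ℂ) ∧ Over (q.comp π.ker.subtype) (fun z => (ω z : ℂ)) (β : Q → ℂ)},
      ∃ χ : {χ : IrrCharacter X //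
        ¬ p ∣ charDegree (χ : X → ℂ) ∧ Over (π.comp ι) (fun y => χ₀ (ι y)) (χ : X → ℂ)},
      ∀ e, (χ.1 : X → ℂ) (π e) = (β.1 : Q → ℂ) (q e) * χ₀ e := by
    intro β
    have hψ : IsIrrCharacter E ((infl β.1 : E → ℂ) * χ₀) := gallagher_irr M hχ₀ hM (hinfl β.1)
    have hk : ∀ z ∈ π.ker, ((infl β.1 : E → ℂ) * χ₀) z = ((infl β.1 : E → ℂ) * χ₀) 1 := by
      intro z hz'
      show (β.1 : Q → ℂ) (q z) * χ₀ z = (β.1 : Q → ℂ) (q 1) * χ₀ 1
      have a := hscal β.1 β.2.2 1 ⟨z, hz'⟩
      have b := hω 1 ⟨z, hz'⟩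
      rw [one_mul] at a b
      rw [a, ← b]
      ring
    obtain ⟨χ, e⟩ := exists_descend π hπ hψ hk
    have h1 := congrFun e 1
    simp only [Pi.mul_apply, map_one] at h1
    change (β.1 : Q → ℂ) (q 1) * χ₀ 1 = _ at h1
    rw [map_one, CharApps.deg_eq β.1, CharApps.deg_eq χ, hd0] at h1
    refine ⟨⟨χ, ?_, over_ι _ (charDegree (β.1 : Q → ℂ))
      (Nat.cast_ne_zero.2 (CharApps.deg_pos β.1).ne') fun y => ?_⟩, fun x => (congrFun e x).symm⟩
    · rw [← show _ * _ = charDegree (χ : X → ℂ) by exact_mod_cast h1, (Fact.out : p.Prime).dvd_mul]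
      exact not_or.2 ⟨β.2.1, hp⟩
    · rw [← congrFun e (ι y), ← CharApps.deg_eq β.1]
      show (β.1 : Q → ℂ) (q (ι y)) * _ = _
      rw [MonoidHom.mem_ker.1 (hr ▸ ⟨y, rfl⟩ : ι y ∈ q.ker)]
  choose f hf using hf
  symm
  refine Nat.card_congr (Equiv.ofBijective f ⟨?_, ?_⟩)
  · intro β β' h
    have he : (infl β.1 : E → ℂ) * χ₀ = (infl β'.1 : E → ℂ) * χ₀ := funext fun e => by
      show (β.1 : Q → ℂ) (q e) * χ₀ e = (β'.1 : Q → ℂ) (q e) * χ₀ e
      rw [← hf β, ← hf β', h]
    have ho := gallagher_orthonormal M hχ₀ hM (hinfl β.1) (hinfl β'.1)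
    have hn := gallagher_orthonormal M hχ₀ hM (hinfl β.1) (hinfl β.1)
    rw [← he, hn, if_pos rfl] at ho
    by_contra hne
    refine one_ne_zero (ho.trans (if_neg fun e => hne (Subtype.ext (Subtype.ext (funext fun x => ?_)))))
    obtain ⟨y, rfl⟩ := hq x
    exact congrFun (congrArg Subtype.val e) y
  · rintro ⟨χ, hd, hχ⟩
    have hψ : IsIrrCharacter E (fun e => (χ : X → ℂ) (π e)) := Chars.isIrrCharacter_comp π hπ χ.2
    obtain ⟨β, hβ, e⟩ := gallagher_exists M hχ₀ hM hψ (by
      rw [← inner_comp_equiv (MonoidHom.ofInjective hι) (fun m : M => (χ : X → ℂ) (π m))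
        (fun m : M => χ₀ m)]
      exact hχ.inner)
    obtain ⟨β', hβ'⟩ := exists_descend q hq β.2 fun z hz' => by
      have := quotIrr_mul M hβ ⟨z, hr ▸ hz'⟩ 1
      simpa using this
    have h1 := congrFun e 1
    simp only [map_one, Pi.mul_apply] at h1
    have hb : (β : E → ℂ) 1 = (β' : Q → ℂ) 1 := by rw [hβ']; simp
    rw [CharApps.deg_eq χ, hb, CharApps.deg_eq β', hd0] at h1
    have hβd : ¬ p ∣ charDegree (β' : Q → ℂ) := fun h => hd (by
      rw [show charDegree (χ : X → ℂ) = _ * _ by exact_mod_cast h1]; exact h.mul_right _)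
    obtain ⟨a, ha⟩ := exists_central_hom hz β.2
    have hval : ∀ z : π.ker, (β' : Q → ℂ) (q z) = (ω z : ℂ) * (β' : Q → ℂ) 1 := by
      intro z
      have e1 := congrFun e z
      have e2 := congrFun e 1
      have b := hω 1 z
      have c := ha 1 z
      rw [one_mul] at b c
      simp only [Pi.mul_apply, MonoidHom.mem_ker.1 z.2, map_one] at e1 e2
      rw [c] at e1
      have hne : (β : E → ℂ) 1 * χ₀ z ≠ 0 := mul_ne_zero (Chars.irr_degree_ne_zero β.2) fun h0 =>
        Chars.irr_degree_ne_zero hχ₀ (by rw [← b, h0, zero_mul])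
      have haω : (a z : ℂ) = ω z := by
        refine mul_right_cancel₀ hne ?_
        linear_combination (-1 : ℂ) * e1 + e2 - (β : E → ℂ) 1 * b
      rw [← hb, ← haω, ← c]
      exact (congrFun hβ' z).symm
    have hover : Over (q.comp π.ker.subtype) (fun z => (ω z : ℂ)) (β' : Q → ℂ) := by
      let _ := Fintype.ofFinite π.ker
      rw [over_iff]
      show classInner (fun z : π.ker => (β' : Q → ℂ) (q z)) (linFun ω) ≠ 0
      rw [show (fun z : π.ker => (β' : Q → ℂ) (q z)) = (β' : Q → ℂ) 1 • linFun ω from funext fun z => by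
          rw [hval]; show _ = (β' : Q → ℂ) 1 * (ω z : ℂ); ring,
        Chars.inner_smul_left, Chars.inner_irr_self ⟨_, isIrrCharacter_linFun ω⟩, mul_one]
      exact Chars.irr_degree_ne_zero β'.2
    refine ⟨⟨β', hβd, hover⟩, Subtype.ext (Subtype.ext (funext fun x => ?_))⟩
    obtain ⟨y, rfl⟩ := hπ x
    rw [hf]
    show (β' : Q → ℂ) (q y) * χ₀ y = _
    rw [← congrFun hβ' y]
    exact (congrFun e y).symm

/-- The step from an invariant character to the central case. -/
theorem step_central {G : Type u} [Group G] [Fintype G] [Fact p.Prime] (hcc : CentralCase.{u} p)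
    (L K : Subgroup G) [L.Normal] [K.Normal] (hrel : ¬ p ∣ L.relIndex K)
    (S : Sylow p G) (hKS : (K ⊔ (S : Subgroup G)).Normal) {ν : L → ℂ} (hν : IsIrrCharacter L ν)
    (hinv : inertia L ν = ⊤)
    (hLN : L ≤ Subgroup.normalizer ((L ⊔ (S : Subgroup G) : Subgroup G) : Set G)) :
    overCount p L.subtype ν = overCount p (Subgroup.inclusion hLN) ν := by
  classical
  obtain ⟨n, ρ, hρ, rfl⟩ := hν
  haveI := hρ
  haveI := nontrivial_of_isIrreducible ρ
  have hIinv : IsInvariant L ρ := isInvariant_of_character L ρ fun g m =>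
    (mem_inertia L).1 (hinv ▸ Subgroup.mem_top g) m
  let E := extGroup L ρ
  let π : E →* G := extProj L ρ
  have hπ : Function.Surjective π := extProj_surjective L ρ hIinv
  let ι : L →* E := extIncl L ρ
  have hι : Function.Injective ι := fun a b h => Subtype.ext (congrArg π h : π (ι a) = π (ι b))
  haveI hMn : ι.range.Normal := ⟨by
    rintro _ ⟨m, rfl⟩ x
    refine ⟨conjBy L (π x) m, Subtype.ext (Prod.ext rfl (Units.ext ?_))⟩
    show ρ (conjBy L (π x) m) = (extLift L ρ x : Module.End ℂ (Fin n → ℂ)) * ρ m *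
      ((extLift L ρ x)⁻¹ : (Module.End ℂ (Fin n → ℂ))ˣ)
    rw [extLift_intertwines L ρ x m, mul_assoc, Units.mul_inv, mul_one]⟩
  let q : E →* E ⧸ ι.range := QuotientGroup.mk' ι.range
  have hq : Function.Surjective q := QuotientGroup.mk'_surjective _
  have hqk : ι.range = q.ker := (QuotientGroup.ker_mk' _).symm
  -- scalars
  let inc : π.ker →* extCentre L ρ := Subgroup.inclusion (fun x hx => by
    show π x ∈ L
    rw [MonoidHom.mem_ker.1 hx]; exact L.one_mem)
  let ω : π.ker →* ℂˣ := ((extScalar L ρ).comp inc)⁻¹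
  have hker : ∀ z : π.ker, (extLift L ρ z : Module.End ℂ (Fin n → ℂ)) =
      (extScalar L ρ (inc z) : ℂ) • 1 := fun z => by
    have h := extLift_eq L ρ (inc z)
    have e : (⟨extProj L ρ (inc z : E), (inc z).2⟩ : L) = 1 := Subtype.ext (MonoidHom.mem_ker.1 z.2)
    rw [e, map_one] at h
    exact h
  have hz : π.ker ≤ Subgroup.center E := fun z hz => by
    rw [Subgroup.mem_center_iff]
    intro x
    refine Subtype.ext (Prod.ext ?_ (Units.ext ?_))
    · show π x * π z = π z * π x
      rw [MonoidHom.mem_ker.1 hz, one_mul, mul_one]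
    · show (extLift L ρ x : Module.End ℂ (Fin n → ℂ)) * extLift L ρ z = extLift L ρ z * extLift L ρ x
      rw [hker ⟨z, hz⟩, mul_smul_comm, smul_mul_assoc, one_mul, mul_one]
  let R : Representation ℂ E (Fin n → ℂ) := (Units.coeHom _).comp (extLift L ρ)
  have hRι : ∀ m, R (ι m) = ρ m := extLift_extIncl L ρ
  haveI hR : R.IsIrreducible := by
    rw [Chars.isIrreducible_iff]
    refine ⟨inferInstance, fun U hU => ((Chars.isIrreducible_iff ρ).1 hρ).2 U fun g x hx => ?_⟩
    rw [← hRι]
    exact hU (ι g) x hx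
  set χ₀ := R.character
  have hres : (fun y => χ₀ (ι y)) = ρ.character := funext fun y => by
    show LinearMap.trace ℂ _ (R (ι y)) = LinearMap.trace ℂ _ (ρ y)
    rw [hRι]
  have hχ₀ : IsIrrCharacter E χ₀ := Chars.isIrrCharacter_character R
  have hνE : IsIrrCharacter L fun y => χ₀ (ι y) := hres ▸ Chars.isIrrCharacter_character ρ
  have hω : ∀ (x : E) (z : π.ker), χ₀ (x * z) * (ω z : ℂ) = χ₀ x := fun x z => by
    show LinearMap.trace ℂ _ (R (x * z)) * _ = LinearMap.trace ℂ _ (R x)
    rw [map_mul, show R (z : E) = (extScalar L ρ (inc z) : ℂ) • 1 from hker z, mul_smul_comm,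
      mul_one, map_smul, smul_eq_mul, mul_right_comm,
      show (ω z : ℂ) = ((extScalar L ρ (inc z))⁻¹ : ℂˣ) from rfl, Units.mul_inv, one_mul]
  -- the whole group
  have hG : overCount p L.subtype ρ.character = if p ∣ charDegree χ₀ then 0 else
      overCount p (q.comp π.ker.subtype) (fun z => (ω z : ℂ)) := by
    rw [← overCount_transfer π hπ q hq ι hι hqk hχ₀ hνE ω hω hz, hres]
    exact overCount_congr (MulEquiv.refl _) (MulEquiv.refl _) (fun _ => rfl) fun _ => rfl
  -- subgroups of the quotient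
  obtain ⟨R₀⟩ : Nonempty (Sylow p E) := inferInstance
  obtain ⟨g, hg⟩ := MulAction.exists_smul_eq G (R₀.mapSurjective hπ) S
  obtain ⟨x, rfl⟩ := hπ g
  let T : Sylow p E := x • R₀
  have hT : ((T : Subgroup E)).map π = (S : Subgroup G) := by
    rw [← hg, Sylow.coe_subgroup_smul, Sylow.coe_subgroup_smul]
    ext y
    constructor
    · rintro ⟨_, ⟨s, hs, rfl⟩, rfl⟩
      exact ⟨π s, ⟨s, hs, rfl⟩, by simp⟩
    · rintro ⟨_, ⟨s, hs, rfl⟩, rfl⟩
      exact ⟨x * s * x⁻¹, ⟨s, hs, rfl⟩, by simp⟩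
  let Z := π.ker.map q
  let K' := (K.comap π).map q
  let S' : Sylow p (E ⧸ ι.range) := T.mapSurjective hq
  have hS' : (S' : Subgroup (E ⧸ ι.range)) = (T : Subgroup E).map q := rfl
  have hLπ : L.comap π = ι.range ⊔ π.ker := by
    rw [← Subgroup.comap_map_eq]
    congr 1
    ext y
    exact ⟨fun hy => ⟨ι ⟨y, hy⟩, ⟨_, rfl⟩, rfl⟩, by rintro ⟨_, ⟨m, rfl⟩, rfl⟩; exact m.2⟩
  have hZc : Z ≤ Subgroup.center (E ⧸ ι.range) := by
    rintro _ ⟨z, hz', rfl⟩
    rw [Subgroup.mem_center_iff]
    intro y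
    obtain ⟨y, rfl⟩ := hq y
    rw [← map_mul, Subgroup.mem_center_iff.1 (hz hz') y, map_mul]
  have hK'n : K'.Normal := Subgroup.Normal.map inferInstance q hq
  have hZK : Z ≤ K' := Subgroup.map_mono fun z hz' => by
    show π z ∈ K
    rw [MonoidHom.mem_ker.1 hz']; exact K.one_mem
  have hZrel : ¬ p ∣ Z.relIndex K' := by
    rw [← Subgroup.relIndex_comap, Subgroup.comap_map_eq, ← hqk, sup_comm, ← hLπ,
      Subgroup.relIndex_comap, Subgroup.map_comap_eq_self_of_surjective hπ]
    exact hrel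
  have hKS' : (K' ⊔ (S' : Subgroup (E ⧸ ι.range))).Normal := by
    rw [hS', ← Subgroup.map_sup]
    refine Subgroup.Normal.map ?_ q hq
    have : K.comap π ⊔ (T : Subgroup E) = (K ⊔ (S : Subgroup G)).comap π := by
      rw [← hT]
      conv_rhs => rw [← Subgroup.map_comap_eq_self_of_surjective hπ K]
      rw [← Subgroup.map_sup, Subgroup.comap_map_eq, left_eq_sup]
      exact le_sup_of_le_left fun z hz' => by
        show π z ∈ K
        rw [MonoidHom.mem_ker.1 hz']; exact K.one_mem
    rw [this]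
    exact hKS.comap π
  -- the normalisers
  set N := Subgroup.normalizer ((L ⊔ (S : Subgroup G) : Subgroup G) : Set G)
  set N' := Subgroup.normalizer ((S' : Subgroup (E ⧸ ι.range)) : Set (E ⧸ ι.range))
  have hZN : Z ≤ N' := hZc.trans (Subgroup.center_le_normalizer _)
  have hsame : N.comap π = N'.comap q := by
    have e1 : N' = Subgroup.normalizer ((Z ⊔ (S' : Subgroup _) : Subgroup _) : Set _) := by
      haveI : Z.Normal := ⟨fun w hw y => by
        rwa [Subgroup.mem_center_iff.1 (hZc hw) y, mul_inv_cancel_right]⟩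
      refine le_antisymm (fun y hy => mem_normalizer_sup (by rw [Subgroup.normalizer_eq_top]; trivial) hy)
        fun y hy => Sylow.smul_eq_iff_mem_normalizer.1 ?_
      have hle : (Z ⊔ (S' : Subgroup _) : Subgroup _) ≤ N' := sup_le hZN Subgroup.le_normalizer
      have hy' : ((y • S' : Sylow p _) : Subgroup _) ≤ N' := by
        refine le_trans ?_ hle
        rw [Sylow.coe_subgroup_smul]
        rintro _ ⟨w, hw, rfl⟩
        exact (Subgroup.mem_normalizer_iff.1 hy w).1 (Subgroup.mem_sup_right hw)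
      have h := IsPGroup.inf_normalizer_sylow (y • S').2 S'
      have h' : ((y • S' : Sylow p _) : Subgroup (E ⧸ ι.range)) ≤
          (S' : Subgroup (E ⧸ ι.range)) :=
        fun w hw => (h.le (Subgroup.mem_inf.2 ⟨hw, hy' hw⟩)).2
      exact (Sylow.ext ((y • S').3 S'.2 h')).symm
    have hmapL : ι.range.map π = L := by
      ext y
      exact ⟨by rintro ⟨_, ⟨m, rfl⟩, rfl⟩; exact m.2, fun hy => ⟨ι ⟨y, hy⟩, ⟨_, rfl⟩, rfl⟩⟩
    have e2 : L ⊔ (S : Subgroup G) = (ι.range ⊔ (T : Subgroup E)).map π := by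
      rw [Subgroup.map_sup, hmapL, hT]
    have e3 : (Z ⊔ (S' : Subgroup _) : Subgroup _) = (π.ker ⊔ (T : Subgroup E)).map q := by
      rw [hS', Subgroup.map_sup]
    rw [e1, Subgroup.comap_normalizer_eq_of_surjective _ hq,
      Subgroup.comap_normalizer_eq_of_surjective _ hπ]
    congr 2
    rw [e2, e3, Subgroup.comap_map_eq, Subgroup.comap_map_eq, ← hqk]
    simp only [sup_assoc, sup_comm, sup_left_comm]
  -- the normaliser side
  let D := N.comap π
  let πD : D →* N := π.subgroupComap N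
  have hπD : Function.Surjective πD := fun y => by
    obtain ⟨e, he⟩ := hπ y
    exact ⟨⟨e, show π e ∈ N by rw [he]; exact y.2⟩, Subtype.ext he⟩
  let qD : D →* N' := (q.comp D.subtype).codRestrict N' fun e =>
    (SetLike.ext_iff.1 hsame (e : E)).1 e.2
  have hqD : Function.Surjective qD := fun y => by
    obtain ⟨e, he⟩ := hq y
    exact ⟨⟨e, (SetLike.ext_iff.1 hsame e).2 (show q e ∈ N' by rw [he]; exact y.2)⟩,
      Subtype.ext he⟩
  let ιD : L →* D := ι.codRestrict D fun m => show π (ι m) ∈ N from hLN m.2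
  have hιD : Function.Injective ιD := fun a b h => hι (congrArg Subtype.val h)
  have hrD : ιD.range = qD.ker := by
    ext e
    constructor
    · rintro ⟨m, rfl⟩
      exact Subtype.ext (MonoidHom.mem_ker.1 (hqk ▸ ⟨m, rfl⟩ : ι m ∈ q.ker))
    · intro he
      obtain ⟨m, hm⟩ : (e : E) ∈ ι.range := hqk ▸ (congrArg Subtype.val (MonoidHom.mem_ker.1 he))
      exact ⟨m, Subtype.ext hm⟩
  let zD : π.ker ≃* πD.ker :=
    { toFun := fun z => ⟨⟨z, show π (z : E) ∈ N by rw [MonoidHom.mem_ker.1 z.2]; exact N.one_mem⟩,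
        Subtype.ext (MonoidHom.mem_ker.1 z.2)⟩
      invFun := fun z => ⟨z.1.1, congrArg Subtype.val (MonoidHom.mem_ker.1 z.2)⟩
      left_inv := fun _ => rfl
      right_inv := fun _ => rfl
      map_mul' := fun _ _ => rfl }
  have hχD : IsIrrCharacter D (fun e : D => χ₀ e) := by
    let RD : Representation ℂ D (Fin n → ℂ) := R.comp D.subtype
    haveI : RD.IsIrreducible := by
      rw [Chars.isIrreducible_iff]
      refine ⟨inferInstance, fun U hU => ((Chars.isIrreducible_iff ρ).1 hρ).2 U fun g x hx => ?_⟩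
      rw [← hRι]
      exact hU (ιD g) x hx
    exact Chars.isIrrCharacter_character RD
  have hN : overCount p (Subgroup.inclusion hLN) ρ.character = if p ∣ charDegree χ₀ then 0 else
      overCount p (qD.comp πD.ker.subtype) (fun z => (ω (zD.symm z) : ℂ)) := by
    have := overCount_transfer (p := p) πD hπD qD hqD ιD hιD hrD (χ₀ := fun e : D => χ₀ e) hχD hνE
      (ω.comp zD.symm.toMonoidHom) (fun e z => hω e (zD.symm z)) (fun z hz' => by
        rw [Subgroup.mem_center_iff]
        intro y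
        exact Subtype.ext (Subgroup.mem_center_iff.1 (hz (zD.symm ⟨z, hz'⟩).2) y))
    rw [show charDegree (fun e : D => χ₀ e) = charDegree χ₀ from rfl] at this
    refine Eq.trans ?_ this
    exact overCount_congr (MulEquiv.refl _) (MulEquiv.refl _) (fun _ => rfl) fun m => congrFun hres m
  rw [hG, hN]
  split_ifs
  · rfl
  -- the central case
  have hZinj : Function.Injective (q.comp π.ker.subtype) := fun a b h => by
    have h1 : ((a : E)⁻¹ * b) ∈ q.ker := by
      rw [MonoidHom.mem_ker, map_mul, map_inv, show q (a : E) = q (b : E) from h, inv_mul_cancel]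
    obtain ⟨m, hm⟩ : (a : E)⁻¹ * b ∈ ι.range := by rw [hqk]; exact h1
    have h2 := congrArg π hm
    rw [map_mul, map_inv, MonoidHom.mem_ker.1 a.2, MonoidHom.mem_ker.1 b.2, inv_one, one_mul] at h2
    have : m = 1 := Subtype.ext (h2 : (m : G) = 1)
    rw [this, map_one, eq_comm, inv_mul_eq_one] at hm
    exact Subtype.ext hm
  let zQ : π.ker ≃* Z := MulEquiv.ofBijective
    ((q.comp π.ker.subtype).codRestrict Z fun z => ⟨z, z.2, rfl⟩)
    ⟨fun a b h => hZinj (congrArg Subtype.val h),
      fun w => by obtain ⟨z, hz', e⟩ := w.2; exact ⟨⟨z, hz'⟩, Subtype.ext e⟩⟩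
  have key := hcc (E ⧸ ι.range) Z K' S' (ω.comp zQ.symm.toMonoidHom) hZc hK'n hZK hZrel hKS' hZN
  refine Eq.trans ?_ (key.trans ?_)
  · exact overCount_congr (MulEquiv.refl _) zQ (fun _ => rfl) fun z => by simp
  · exact (overCount_congr (MulEquiv.refl _) (zD.symm.trans zQ) (fun _ => rfl) fun z => by simp).symm

end CfsgLib.RelMcKay
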